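import Cfsg.Agent.Lib.Schur.F4Two.Rules
import Mathlib.GroupTheory.SemidirectProduct
import Mathlib.Data.ZMod.Basic
import Mathlib.Algebra.Group.TypeTags.Finite

/-!
A group in which the twisted rules on the positive roots of F₄ have distinct ordered products: it
is built by adjoining one root at a time as an automorphism of order two.
-/

set_option autoImplicit false
set_option maxRecDepth 100000

namespace CfsgLib.Schur.F4Two

/-- The positive roots, in increasing order. -/
def posList : List ℕ := List.range' 24 24

/-- The image of a root element under conjugation by the element of `k`. -/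
def conjW (k a : ℕ) : List ℕ := a :: tab k a

/-- The image of a word. -/
def conjWord (k : ℕ) (w : List ℕ) : List ℕ := w.flatMap (conjW k)

/-- The exponent of the image of a word. -/
def conjExp (k : ℕ) : List ℕ → ℕ
  | [] => 0
  | a :: w => twist k a + conjExp k w

/-- The checks for adjoining `k` to `T`. -/
def stepOK (k : ℕ) (T : List ℕ) : Bool :=
  !(T.contains k) && T.all fun a =>
    same (conjW k a ++ conjW k a) [] 0 &&
    same [a] (conjWord k (conjW k a)) (conjExp k (conjW k a) + twist k a) &&
    same (conjW k a) (a :: conjWord k (tab a k))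
      (conjExp k (tab a k) + twist a k + twist k a) &&
    T.all fun b => !(ok b a) || same (conjW k a ++ conjW k b)
      (conjW k b ++ conjW k a ++ conjWord k (tab b a)) (conjExp k (tab b a) + twist b a)

/-- All the checks. -/
def allOK : List ℕ → Bool
  | [] => true
  | k :: T => stepOK k T && allOK T

theorem allOK_pos : allOK posList = true := by decide +kernel

theorem good_pos : Good posList := by decide +kernel

variable {K : Type} [Group K]

/-- The action of a group of order two by an involutive automorphism. -/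
def twoAct (α : MulAut K) (h : α * α = 1) : Multiplicative (ZMod 2) →* MulAut K where
  toFun x := if x = 1 then 1 else α
  map_one' := if_pos rfl
  map_mul' x y := by
    have hx : ∀ z : Multiplicative (ZMod 2), z = 1 ∨ z = Multiplicative.ofAdd 1 := by decide
    have h1 : (Multiplicative.ofAdd (1 : ZMod 2)) ≠ 1 := by decide
    have h2 : Multiplicative.ofAdd (1 : ZMod 2) * Multiplicative.ofAdd 1 = 1 := by decide
    rcases hx x with rfl | rfl <;> rcases hx y with rfl | rfl <;>
      simp [h1, h2, h]

theorem twoAct_gen (α : MulAut K) (h : α * α = 1) :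
    twoAct α h (Multiplicative.ofAdd 1) = α := by
  show (if Multiplicative.ofAdd (1 : ZMod 2) = 1 then 1 else α) = α
  exact if_neg (by decide)

theorem conj_word_eval {H : Type*} [Group H] {y y' : ℕ → H} {c : H} {k : ℕ} {L : List ℕ}
    (hc : ∀ a ∈ L, c * y a = y a * c) : ∀ {w : List ℕ},
    (∀ a ∈ w, y' a = ev y (conjW k a) * c ^ twist k a ∧ ∀ b ∈ conjW k a, b ∈ L) →
      ev y' w = ev y (conjWord k w) * c ^ conjExp k w
  | [], _ => by simp [conjWord, conjExp]
  | a :: w, h => by
    have h2 : ∀ b ∈ conjWord k w, b ∈ L := fun b hb => by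
      obtain ⟨d, hd, hb⟩ := List.mem_flatMap.1 hb
      exact (h d (List.mem_cons_of_mem _ hd)).2 b hb
    have ih := conj_word_eval hc (w := w) fun b hb => h b (List.mem_cons_of_mem _ hb)
    have hcw : Commute (c ^ twist k a) (ev y (conjWord k w)) :=
      (commute_ev fun b hb => hc b (h2 b hb)).pow_left _
    rw [ev_cons, ih, (h a (List.mem_cons_self ..)).1, show conjWord k (a :: w) =
      conjW k a ++ conjWord k w from rfl, ev_append, conjExp, pow_add, mul_assoc,
      ← mul_assoc (c ^ twist k a), hcw.eq]
    simp only [mul_assoc]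

theorem pow_sq_cancel {H : Type*} [Group H] {c : H} (hc : c * c = 1) (x : H) (n : ℕ) :
    x * c ^ n * c ^ n = x := by
  rw [mul_assoc, ← pow_add, ← two_mul, pow_mul, sq, hc, one_pow, mul_one]

theorem gens_top {H : Type*} [Group H] {L : List ℕ} {y : ℕ → H} {c : H}
    (P : Subgroup ↥(gens L y c)) (hc : ⟨c, c_mem_gens L y c⟩ ∈ P)
    (hy : ∀ a (ha : a ∈ L), ⟨y a, mem_gens y c ha⟩ ∈ P) (x : ↥(gens L y c)) : x ∈ P := by
  have hle : gens L y c ≤ P.map (gens L y c).subtype := by
    refine (Subgroup.closure_le _).2 ?_
    intro z hz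
    rcases hz with hz | ⟨a, ha, hz⟩ <;> rw [hz]
    · exact ⟨_, hc, rfl⟩
    · exact ⟨_, hy a ha, rfl⟩
  obtain ⟨w, hw, e⟩ := hle x.2
  exact Subtype.ext e ▸ hw

/-- The model. -/
theorem exists_model : ∀ (L : List ℕ), Good L → allOK L = true →
    ∃ (H : Type) (_ : Group H) (_ : Finite H) (y : ℕ → H) (c : H), Sat L y c ∧ Inj L y c
  | [], _, _ => by
    refine ⟨Multiplicative (ZMod 2), inferInstance, inferInstance, fun _ => 1,
      Multiplicative.ofAdd 1, ⟨by decide, by simp, by simp, by simp⟩, ?_⟩
    intro l l' hl hl' ε ε' h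
    rw [List.sublist_nil] at hl hl'
    subst hl hl'
    refine ⟨?_, rfl⟩
    cases ε <;> cases ε' <;> first | rfl | exact absurd h (by decide)
  | k :: T, hL, hOK => by
    rw [allOK, Bool.and_eq_true] at hOK
    obtain ⟨H, _, _, y, c, hS, hI⟩ := exists_model T hL.2 hOK.2
    have hstep := hOK.1
    simp only [stepOK, Bool.and_eq_true, List.all_eq_true, Bool.or_eq_true,
      Bool.not_eq_eq_eq_not, Bool.not_true, List.contains_eq_mem, decide_eq_false_iff_not] at hstep
    obtain ⟨hkT, hstep⟩ := hstep
    have hWT : ∀ a ∈ T, ∀ b ∈ conjW k a, b ∈ T := fun a ha b hb => by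
      rcases List.mem_cons.1 hb with rfl | hb
      · exact ha
      · exact (hL.1 a ha).2.2 b hb
    have hWW : ∀ w : List ℕ, (∀ a ∈ w, a ∈ T) → ∀ b ∈ conjWord k w, b ∈ T := fun w hw b hb => by
      obtain ⟨d, hd, hb⟩ := List.mem_flatMap.1 hb
      exact hWT d (hw d hd) b hb
    have htabT : ∀ a ∈ T, ∀ m ∈ tab a k, m ∈ T := fun a ha m hm =>
      (hL.1 a ha).2.2 m (by rw [← (tab_facts (hL.1 a ha).2.1).1]; exact hm)
    have htT : ∀ a ∈ T, ∀ b ∈ T, ok b a = true → ∀ m ∈ tab b a, m ∈ T := fun a ha b hb hok =>
      (hL.2.closed b hb a ha fun e => by subst e; simp [ok] at hok).2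
    let y' : ℕ → H := fun a => ev y (conjW k a) * c ^ twist k a
    have hy' : ∀ w : List ℕ, (∀ a ∈ w, a ∈ T) →
        ev y' w = ev y (conjWord k w) * c ^ conjExp k w := fun w hw =>
      conj_word_eval hS.c_comm fun a ha => ⟨rfl, hWT a (hw a ha)⟩
    have hc2 := hS.c_sq
    have hcW : ∀ w : List ℕ, (∀ a ∈ w, a ∈ T) → ∀ n : ℕ, c ^ n * ev y w = ev y w * c ^ n :=
      fun w hw n => ((commute_ev fun a ha => hS.c_comm a (hw a ha)).pow_left n).eq
    have hy'2 : ∀ a b, a ∈ T → b ∈ T →
        y' a * y' b = ev y (conjW k a ++ conjW k b) * c ^ (twist k a + twist k b) := by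
      intro a b ha hb
      show ev y (conjW k a) * c ^ twist k a * (ev y (conjW k b) * c ^ twist k b) = _
      rw [mul_assoc, ← mul_assoc (c ^ twist k a), hcW _ (hWT b hb), ev_append, pow_add]
      simp only [mul_assoc]
    have hS' : Sat T y' c := by
      refine ⟨hc2, fun a ha => ?_, fun a ha => ?_, fun a ha b hb hok => ?_⟩
      · show c * (ev y (conjW k a) * c ^ twist k a) = ev y (conjW k a) * c ^ twist k a * c
        rw [← mul_assoc, (commute_ev fun d hd => hS.c_comm d (hWT a ha d hd)).eq, mul_assoc,
          mul_assoc, ← pow_succ', ← pow_succ]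
      · rw [hy'2 a a ha ha, pow_add, ← mul_assoc]
        rw [pow_sq_cancel hc2]
        have h := same_sound hL.2 hS (w := conjW k a ++ conjW k a) (w' := []) (e := 0)
          (fun d hd => (List.mem_append.1 hd).elim (hWT a ha d) (hWT a ha d)) (by simp)
          (hstep a ha).1.1.1
        simpa using h
      · have htb := htT a ha b hb hok
        have h := same_sound hL.2 hS (w := conjW k a ++ conjW k b)
          (w' := conjW k b ++ conjW k a ++ conjWord k (tab b a))
          (e := conjExp k (tab b a) + twist b a)
          (fun d hd => (List.mem_append.1 hd).elim (hWT a ha d) (hWT b hb d))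
          (fun d hd => (List.mem_append.1 hd).elim
            (fun hd => (List.mem_append.1 hd).elim (hWT b hb d) (hWT a ha d)) (hWW _ htb d))
          (((hstep a ha).2 b hb).resolve_left (by simp [hok]))
        rw [hy'2 a b ha hb, hy'2 b a hb ha, hy' _ htb]
        have e1 : ev y (conjW k b ++ conjW k a) * c ^ (twist k b + twist k a) *
            (ev y (conjWord k (tab b a)) * c ^ conjExp k (tab b a)) * c ^ twist b a =
            ev y (conjW k b ++ conjW k a ++ conjWord k (tab b a)) *
              c ^ (twist k a + twist k b + (conjExp k (tab b a) + twist b a)) := by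
          rw [ev_append y (conjW k b ++ conjW k a), mul_assoc (ev y (conjW k b ++ conjW k a)),
            ← mul_assoc (c ^ (twist k b + twist k a)), hcW _ (hWW _ htb),
            add_comm (twist k a) (twist k b)]
          simp only [pow_add, mul_assoc]
        rw [e1, ← h, mul_assoc, ← pow_add]
        congr 1
        rw [show conjExp k (tab b a) + twist b a + (twist k a + twist k b + (conjExp k (tab b a) +
          twist b a)) = twist k a + twist k b + 2 * (conjExp k (tab b a) + twist b a) by omega,
          pow_add c (twist k a + twist k b), pow_mul, sq, hc2, one_pow, mul_one]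
    obtain ⟨φ, hφ, hφc⟩ := universal hL.2 hS hI hS'
    have hmem : ∀ x : ↥(gens T y c), φ x ∈ gens T y c := by
      refine fun x => gens_top ((gens T y c).comap φ) ?_ (fun a ha => ?_) x
      · show φ _ ∈ gens T y c
        rw [hφc]
        exact c_mem_gens T y c
      · show φ _ ∈ gens T y c
        rw [hφ a ha]
        exact mul_mem (ev_mem_gens y c (hWT a ha)) (pow_mem (c_mem_gens T y c) _)
    let ψ : ↥(gens T y c) →* ↥(gens T y c) := φ.codRestrict _ hmem
    let gy : ℕ → ↥(gens T y c) := fun a =>
      if ha : a ∈ T then ⟨y a, mem_gens y c ha⟩ else 1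
    let gc : ↥(gens T y c) := ⟨c, c_mem_gens T y c⟩
    have hev : ∀ w : List ℕ, (∀ a ∈ w, a ∈ T) → ((ev gy w : ↥(gens T y c)) : H) = ev y w :=
      fun w hw => (map_ev (gens T y c).subtype gy w).trans
        (ev_congr fun a ha => by simp [gy, hw a ha])
    have hψgc : ψ gc = gc := Subtype.ext hφc
    have hψy : ∀ a ∈ T, ((ψ (gy a) : ↥(gens T y c)) : H) = y' a := fun a ha => by
      show φ (gy a) = y' a
      simp only [gy, dif_pos ha]
      exact hφ a ha
    have hψev : ∀ w : List ℕ, (∀ a ∈ w, a ∈ T) →
        ((ψ (ev gy w) : ↥(gens T y c)) : H) = ev y (conjWord k w) * c ^ conjExp k w := fun w hw => by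
      rw [← hy' w hw]
      exact (map_ev ((gens T y c).subtype.comp ψ) gy w).trans (ev_congr fun a ha => hψy a (hw a ha))
    have hψψ : ∀ x, ψ (ψ x) = x := by
      refine fun x => gens_top ((ψ.comp ψ).eqLocus (MonoidHom.id _)) ?_ (fun a ha => ?_) x
      · show ψ (ψ gc) = gc
        rw [hψgc, hψgc]
      · rw [show (⟨y a, mem_gens y c ha⟩ : ↥(gens T y c)) = gy a from
          Subtype.ext (by simp [gy, ha])]
        show ψ (ψ (gy a)) = gy a
        have hW := hWT a ha
        have e0 : ψ (gy a) = ev gy (conjW k a) * gc ^ twist k a := Subtype.ext (by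
          rw [hψy a ha, Subgroup.coe_mul, hev _ hW]
          rfl)
        refine Subtype.ext ?_
        rw [e0, map_mul, map_pow, hψgc, Subgroup.coe_mul, hψev _ hW]
        have h := same_sound hL.2 hS (w := [a]) (w' := conjWord k (conjW k a))
          (e := conjExp k (conjW k a) + twist k a)
          (fun d hd => by rw [List.mem_singleton] at hd; exact hd ▸ ha)
          (hWW _ hW) (hstep a ha).1.1.2
        rw [← h, mul_assoc _ (c ^ conjExp k (conjW k a)), SubmonoidClass.coe_pow, ← pow_add,
          pow_sq_cancel hc2]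
        simp [ev, gy, ha]
    let α : MulAut ↥(gens T y c) :=
      { toFun := ψ, invFun := ψ, left_inv := hψψ, right_inv := hψψ, map_mul' := map_mul ψ }
    have hαα : α * α = 1 := MulEquiv.ext hψψ
    let H2 := ↥(gens T y c) ⋊[twoAct α hαα] Multiplicative (ZMod 2)
    let t : H2 := SemidirectProduct.inr (Multiplicative.ofAdd 1)
    let y2 : ℕ → H2 := fun a => if a = k then t else SemidirectProduct.inl (gy a)
    let c2 : H2 := SemidirectProduct.inl gc
    have htt : t * t = 1 := by
      rw [← map_mul, show Multiplicative.ofAdd (1 : ZMod 2) * Multiplicative.ofAdd 1 = 1 by decide,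
        map_one]
    have ht : ∀ x, t * SemidirectProduct.inl x = SemidirectProduct.inl (ψ x) * t := fun x => by
      show t * SemidirectProduct.inl x = SemidirectProduct.inl (α x) * t
      have h := SemidirectProduct.inl_aut (φ := twoAct α hαα) (Multiplicative.ofAdd (1 : ZMod 2)) x
      rw [twoAct_gen] at h
      rw [h, map_inv, inv_mul_cancel_right]
    have hne : ∀ a ∈ T, a ≠ k := fun a ha e => hkT (e ▸ ha)
    have hy2 : ∀ a ∈ T, y2 a = SemidirectProduct.inl (gy a) := fun a ha => if_neg (hne a ha)
    have hy2k : y2 k = t := if_pos rfl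
    have hev2 : ∀ w : List ℕ, (∀ a ∈ w, a ∈ T) → ev y2 w = SemidirectProduct.inl (ev gy w) :=
      fun w hw => by
        rw [map_ev SemidirectProduct.inl gy w]
        exact ev_congr fun a ha => hy2 a (hw a ha)
    have hSg : Sat T gy gc := by
      refine ⟨Subtype.ext hc2, fun a ha => Subtype.ext ?_, fun a ha => Subtype.ext ?_,
        fun a ha b hb hok => Subtype.ext ?_⟩
      · simpa [gy, gc, ha] using hS.c_comm a ha
      · simpa [gy, ha] using hS.sq a ha
      · rw [Subgroup.coe_mul, Subgroup.coe_mul, Subgroup.coe_mul, Subgroup.coe_mul,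
          hev _ (htT a ha b hb hok), SubmonoidClass.coe_pow]
        simpa [gy, gc, ha, hb] using hS.swap a ha b hb hok
    refine ⟨H2, inferInstance, Finite.of_equiv _ SemidirectProduct.equivProd.symm, y2, c2,
      ⟨?_, fun a ha => ?_, fun a ha => ?_, fun a ha b hb hok => ?_⟩, ?_⟩
    · rw [← map_mul, hSg.c_sq, map_one]
    · rcases List.mem_cons.1 ha with rfl | ha
      · rw [hy2k, ht, hψgc]
      · rw [hy2 a ha, ← map_mul, ← map_mul, hSg.c_comm a ha]
    · rcases List.mem_cons.1 ha with rfl | ha
      · rw [hy2k, htt]
      · rw [hy2 a ha, ← map_mul, hSg.sq a ha, map_one]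
    · rcases List.mem_cons.1 ha with h1 | h1 <;> rcases List.mem_cons.1 hb with h2 | h2
      · subst h1 h2; simp [ok] at hok
      · subst h1
        have htab := htabT b h2
        rw [hy2k, hy2 b h2, hev2 _ (fun m hm => htab m hm), ← map_pow, ht, mul_assoc, mul_assoc,
          ← map_mul, ht, ← mul_assoc, ← map_mul]
        congr 2
        refine Subtype.ext ?_
        rw [hψy b h2, map_mul, map_pow, hψgc, Subgroup.coe_mul, Subgroup.coe_mul, hψev _ htab,
          SubmonoidClass.coe_pow, show ((gy b : ↥(gens T y c)) : H) = y b by simp [gy, h2]]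
        have h := same_sound hL.2 hS (w := conjW a b) (w' := b :: conjWord a (tab b a))
          (e := conjExp a (tab b a) + twist b a + twist a b) (hWT b h2)
          (fun d hd => (List.mem_cons.1 hd).elim (fun e => e ▸ h2) (hWW _ htab d))
          (hstep b h2).1.2
        rw [ev_cons] at h
        show ev y (conjW a b) * c ^ twist a b = y b * (ev y (conjWord a (tab b a)) *
          c ^ conjExp a (tab b a) * c ^ twist b a)
        rw [← mul_assoc, ← mul_assoc, ← h, mul_assoc _ (c ^ conjExp a (tab b a)), ← pow_add,
          mul_assoc, ← pow_add]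
        congr 1
        rw [show conjExp a (tab b a) + twist b a + twist a b + (conjExp a (tab b a) + twist b a) =
          twist a b + 2 * (conjExp a (tab b a) + twist b a) by omega, pow_add, pow_mul, sq, hc2,
          one_pow, mul_one]
      · subst h2
        have htab := (hL.1 a h1).2.2
        rw [hy2k, hy2 a h1, hev2 _ htab, ← map_pow, mul_assoc t, mul_assoc t, ← map_mul, ← map_mul,
          ht]
        congr 2
        refine Subtype.ext ?_
        rw [map_mul, map_mul, map_pow, hψgc]
        have key : ψ (ψ (gy a)) = gy a := hψψ _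
        have e0 : ψ (gy a) = ev gy (conjW b a) * gc ^ twist b a := Subtype.ext (by
          rw [hψy a h1, Subgroup.coe_mul, hev _ (hWT a h1)]
          rfl)
        conv_lhs => rw [← key, e0, map_mul, map_pow, hψgc]
        rw [show conjW b a = a :: tab b a from rfl, ev_cons, map_mul]
      · rw [hy2 a h1, hy2 b h2, hev2 _ (htT a h1 b h2 hok)]
        simp only [← map_pow, ← map_mul, c2]
        rw [hSg.swap a h1 b h2 hok]
    · have gI : Inj T gy gc := fun l l' hl hl' ε ε' h => hI l l' hl hl' ε ε' (by
        have := congrArg Subtype.val h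
        cases ε <;> cases ε' <;>
          simpa [hev _ (fun a ha => hl.subset ha), hev _ (fun a ha => hl'.subset ha)] using this)
      have hsplit : ∀ l : List ℕ, l.Sublist (k :: T) → ∀ ε : Bool, ∃ (u : List ℕ) (b : Bool),
          u.Sublist T ∧ l = (if b then k :: u else u) ∧
          (if ε then c2 else 1) * ev y2 l =
            ⟨(if ε then gc else 1) * (if b then ψ (ev gy u) else ev gy u),
              if b then Multiplicative.ofAdd 1 else 1⟩ := by
        intro l hl ε
        have hε : (if ε then c2 else 1 : H2) = SemidirectProduct.inl (if ε then gc else 1) := by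
          cases ε <;> simp [c2]
        cases hl with
        | cons _ hu =>
          refine ⟨l, false, hu, rfl, ?_⟩
          rw [hε, hev2 _ (fun a ha => hu.subset ha), ← map_mul]
          rfl
        | cons_cons _ hu =>
          rename_i u
          refine ⟨u, true, hu, rfl, ?_⟩
          rw [ev_cons, hy2k, hev2 _ (fun a ha => hu.subset ha), hε, ht, ← mul_assoc, ← map_mul]
          exact SemidirectProduct.inl_left_mul_inr_right
            (⟨(if ε then gc else 1) * ψ (ev gy u), Multiplicative.ofAdd 1⟩ : H2)
      intro l l' hl hl' ε ε' h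
      obtain ⟨u, b, hu, rfl, e1⟩ := hsplit l hl ε
      obtain ⟨u', b', hu', rfl, e2⟩ := hsplit l' hl' ε'
      rw [e1, e2, SemidirectProduct.ext_iff] at h
      obtain ⟨hl1, hr1⟩ := h
      obtain rfl : b = b' := by
        have h10 : (Multiplicative.ofAdd (1 : ZMod 2)) ≠ 1 := by decide
        cases b <;> cases b'
        · rfl
        · exact absurd (hr1 : (1 : Multiplicative (ZMod 2)) = Multiplicative.ofAdd 1) h10.symm
        · exact absurd (hr1 : Multiplicative.ofAdd (1 : ZMod 2) = 1) h10
        · rfl
      have h3 : (if ε then gc else 1) * ev gy u = (if ε' then gc else 1) * ev gy u' := by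
        cases b
        · exact hl1
        · have h4 := congrArg ψ hl1
          simpa only [map_mul, apply_ite ψ, hψgc, map_one, hψψ, if_true] using h4
      obtain ⟨rfl, rfl⟩ := gI u u' hu hu' ε ε' h3
      exact ⟨rfl, rfl⟩

end CfsgLib.Schur.F4Two
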