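import Cfsg.Agent.Lib.Schur.F4Two.Rules
import Cfsg.Agent.Lib.Schur.F4Two.Model
import Cfsg.Agent.Lib.ChevStr.Mem
import Cfsg.Agent.Lib.ChevStr.Bruhat
import Cfsg.Agent.Lib.ChevCover.Instance
import Cfsg.Agent.Lib.ChevStr.GoodTables

/-!
The Chevalley group of type F₄ over the field with two elements in the language of the rules: the
root elements satisfy them with trivial central element, ordered products are unique, and a Weyl
group element permutes the rules.
-/

set_option autoImplicit false
set_option maxRecDepth 100000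

namespace CfsgLib.Schur.F4Two

open Cfsg.Lie CfsgLib.ChevStr

theorem isPos_iff_mem : ∀ r < 48, (chevF4.IsPosRoot r ↔ r ∈ posList) := by decide +kernel

theorem nroots_eq : chevF4.nroots = 48 := rfl

theorem mem_posList {r : ℕ} : r ∈ posList ↔ chevF4.IsPosRoot r := by
  by_cases hr : r < 48
  · exact (isPos_iff_mem r hr).symm
  · refine ⟨fun h => ?_, fun h => absurd h.1 hr⟩
    simp [posList, List.mem_range'] at h
    omega

theorem setOf_posList : {r | r ∈ posList} = {r | chevF4.IsPosRoot r} :=
  Set.ext fun _ => mem_posList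

theorem posList_lt : ∀ r ∈ posList, r < 48 := fun _ h => (mem_posList.1 h).1

/-- A sublist of a list without repetitions is a filter of it. -/
theorem sublist_eq_filter {l L : List ℕ} (h : l.Sublist L) (hnd : L.Nodup) :
    L.filter (fun a => decide (a ∈ l)) = l := by
  induction h with
  | slnil => rfl
  | @cons l L a h ih =>
    have hal : a ∉ l := fun ha => (List.nodup_cons.1 hnd).1 (h.subset ha)
    rw [List.filter_cons_of_neg (by simpa using hal)]
    exact ih (List.nodup_cons.1 hnd).2
  | @cons_cons l L a h ih =>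
    rw [List.filter_cons_of_pos (by simp)]
    congr 1
    refine (List.filter_congr fun x hx => ?_).trans (ih (List.nodup_cons.1 hnd).2)
    have : x ≠ a := fun e => (List.nodup_cons.1 hnd).1 (e ▸ hx)
    simp [this]

section Field

variable {F : Type*} [Field F] [Fintype F] (hF : Fintype.card F = 2)

include hF

theorem eq_zero_or_one (t : F) : t = 0 ∨ t = 1 := by
  classical
  by_contra h
  obtain ⟨h0, h1⟩ := not_or.1 h
  have : ({0, 1, t} : Finset F).card ≤ 2 := hF ▸ Finset.card_le_univ _
  rw [Finset.card_insert_of_notMem (by simp [Ne.symm h0]),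
    Finset.card_pair (Ne.symm h1)] at this
  omega

theorem two_eq_zero : (2 : F) = 0 := by
  rcases eq_zero_or_one hF (2 : F) with h | h
  · exact h
  · exfalso
    rw [← one_add_one_eq_two] at h
    exact one_ne_zero (by simpa using h : (1 : F) = 0)

theorem neg_one_eq : (-1 : F) = 1 := by
  linear_combination -two_eq_zero hF

theorem intCast_eq (m : ℤ) : (m : F) = if m % 2 = 1 then 1 else 0 := by
  conv_lhs => rw [← Int.emod_add_ediv_mul m 2]
  rw [Int.cast_add, Int.cast_mul, Int.cast_ofNat, two_eq_zero hF, mul_zero, add_zero]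
  rcases Int.emod_two_eq m with h | h <;> simp [h]

theorem units_eq_one (u : Fˣ) : u = 1 :=
  Units.ext ((eq_zero_or_one hF (u : F)).resolve_left u.ne_zero)

variable (C : ChevCore chevF4 F)

theorem torus_eq_one (c : Fin chevF4.rank → Fˣ) : C.R.torus c = 1 := by
  rw [show c = 1 from funext fun i => units_eq_one hF (c i), map_one]

include C in
theorem diagonal_eq_bot : chevF4.diagonalSubgroup F = ⊥ := by
  rw [C.diagonalSubgroup_eq]
  refine (Subgroup.eq_bot_iff_forall _).2 ?_
  rintro _ ⟨c, rfl⟩
  exact torus_eq_one hF C c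

include C in
theorem borel_eq : chevF4.borelSubgroup F = chevF4.posUnipotent F := by
  rw [ChevalleyDatum.borelSubgroup, diagonal_eq_bot hF C, sup_bot_eq]

theorem wordGL_comm (r s : ℕ) (hr : r < 48) (hs : s < 48) (hok : ok r s = true) :
    C.wordGL (chevF4.commWord F r s 1 1) = ev (fun a => C.xGL a 1) (tab r s) := by
  rw [← tab_eq r hr s hs hok, ChevalleyDatum.commWord]
  induction chevF4.commTerms r s with
  | nil => rfl
  | cons c l ih =>
    rw [List.map_cons, C.wordGL_cons, ih, intCast_eq hF, neg_one_eq hF, one_pow, one_pow, mul_one,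
      mul_one]
    by_cases h : c.2.1 % 2 = 1
    · rw [if_pos h, List.filter_cons_of_pos (by simpa using h), List.map_cons, ev_cons]
    · rw [if_neg h, List.filter_cons_of_neg (by simpa using h), C.xGL_zero, one_mul]

theorem sat_xGL : Sat (List.range 48) (fun a => C.xGL a 1) 1 := by
  refine ⟨one_mul 1, fun a _ => by simp, fun a _ => ?_, fun a ha b hb hok => ?_⟩
  · rw [← C.xGL_add, one_add_one_eq_two, two_eq_zero hF, C.xGL_zero]
  · rw [List.mem_range] at ha hb
    have h1 : a ≠ b ∧ a ≠ ng b := by
      refine ⟨fun e => ?_, fun e => ?_⟩ <;> subst e <;> simp [ok] at hok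
    show C.xGL a 1 * C.xGL b 1 = _
    rw [C.xGL_comm (r := b) (s := a) hb ha h1.1 (by rw [neg_eq b hb]; exact h1.2) 1 1,
      wordGL_comm hF C b a hb ha hok, one_pow, mul_one]

/-- The root elements in the group. -/
def gx (a : ℕ) : ↥(chevF4.group F) := CfsgLib.ChevCover.xG C a 1

omit hF in
theorem coe_ev_gx (w : List ℕ) : ((ev (gx C) w : ↥(chevF4.group F)) : GL chevF4.Idx F) =
    ev (fun a => C.xGL a 1) w :=
  map_ev (chevF4.group F).subtype (gx C) w

theorem sat_gx : Sat (List.range 48) (gx C) 1 := by
  have h := sat_xGL hF C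
  refine ⟨one_mul 1, fun a _ => by simp, fun a ha => Subtype.ext (h.sq a ha),
    fun a ha b hb hok => Subtype.ext ?_⟩
  rw [one_pow, mul_one, Subgroup.coe_mul, Subgroup.coe_mul, Subgroup.coe_mul, coe_ev_gx C]
  simpa [gx, CfsgLib.ChevCover.xG] using h.swap a ha b hb hok

theorem word_eq_ev (L : List ℕ) (t : ℕ → F) [DecidablePred fun a => t a = 1] :
    C.word L t = ev (fun a => C.xGL a 1) (L.filter fun a => decide (t a = 1)) := by
  induction L with
  | nil => rfl
  | cons a L ih =>
    rw [C.word_cons, ih]
    by_cases h : t a = 1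
    · rw [List.filter_cons_of_pos (by simpa using h), ev_cons, h]
    · rw [List.filter_cons_of_neg (by simpa using h),
        (eq_zero_or_one hF (t a)).resolve_right h, C.xGL_zero, one_mul]

theorem eq_nil_of_ev_eq_one {l : List ℕ} (hl : l.Sublist posList)
    (h : ev (fun a => C.xGL a 1) l = 1) : l = [] := by
  classical
  have hnd : posList.Nodup := List.nodup_range'
  have hsorted : posList.Pairwise (· < ·) := List.pairwise_lt_range'
  let t : ℕ → F := fun a => if a ∈ l then 1 else 0
  have e1 : C.word posList t = C.word posList (fun _ => 0) := by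
    rw [word_eq_ev hF C, word_eq_ev hF C]
    have e2 : posList.filter (fun a => decide (t a = 1)) = l := by
      refine (List.filter_congr fun a _ => ?_).trans (sublist_eq_filter hl hnd)
      by_cases ha : a ∈ l <;> simp [t, ha]
    rw [e2, h, List.filter_eq_nil_iff.2 (by simp)]
    rfl
  refine List.eq_nil_iff_forall_not_mem.2 fun a ha => ?_
  have := C.word_injective hsorted (fun r hr => mem_posList.1 hr) t _ e1 a (hl.subset ha)
  simp [t, ha] at this

theorem exists_ev {L : List ℕ} (hL : L.Pairwise (· < ·)) (hc : C.R.IsClosed {r | r ∈ L})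
    {g : GL chevF4.Idx F} (hg : g ∈ C.Ucl {r | r ∈ L}) :
    ∃ l : List ℕ, l.Sublist L ∧ ev (fun a => C.xGL a 1) l = g := by
  classical
  obtain ⟨t, rfl⟩ := C.exists_word hL hc g hg
  exact ⟨_, List.filter_sublist, (word_eq_ev hF C L t).symm⟩

omit hF in
theorem isPos_weyl_combo {w : Equiv.Perm (Fin chevF4.nroots)} (hw : w ∈ C.hR.weyl)
    {r s k : Fin chevF4.nroots} (h : C.R.IsCombo r s k) (hr : chevF4.IsPosRoot (w r))
    (hs : chevF4.IsPosRoot (w s)) : chevF4.IsPosRoot (w k) := by
  obtain ⟨-, a, b, ha, hb, hab⟩ := h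
  exact C.R.combo_pos hr hs
    ⟨(w k).isLt, a, b, ha, hb, C.hR.combo_weyl hw (r := r) (s := s) (k := k) hab⟩

end Field

/-! ### The Weyl group on the rules -/

/-- A permutation of indices respects the rules. -/
def Respects (σ : ℕ → ℕ) : Prop :=
  ∀ r s, ok r s = true → ok (σ r) (σ s) = true ∧
    (tab (σ r) (σ s) = (tab r s).map σ ∨ tab (σ r) (σ s) = ((tab r s).map σ).reverse)

/-- The simple reflections on indices. -/
def reflIdx (i : ℕ) (s : ℕ) : ℕ := if s < 48 then chevF4.reflectRoot i s else s

theorem respects_check : ((List.range 4).all fun i => (List.range 48).all fun r =>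
    (List.range 48).all fun s => !(ok r s) || (ok (reflIdx i r) (reflIdx i s) &&
      ((tab (reflIdx i r) (reflIdx i s) == (tab r s).map (reflIdx i)) ||
        (tab (reflIdx i r) (reflIdx i s) == ((tab r s).map (reflIdx i)).reverse)))) = true := by
  decide +kernel

theorem ok_lt {r s : ℕ} (h : ok r s = true) : r < 48 ∧ s < 48 := by
  simp only [ok, Bool.and_eq_true, Nat.blt_eq] at h
  exact ⟨h.1.1.1, h.1.1.2⟩

theorem respects_refl (i : ℕ) (hi : i < 4) : Respects (reflIdx i) := by
  intro r s h
  obtain ⟨hr, hs⟩ := ok_lt h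
  have h1 := List.all_eq_true.1 (List.all_eq_true.1 (List.all_eq_true.1 respects_check i
    (List.mem_range.2 hi)) r (List.mem_range.2 hr)) s (List.mem_range.2 hs)
  simpa [h] using h1

theorem Respects.comp {σ τ : ℕ → ℕ} (h : Respects σ) (h' : Respects τ) : Respects (σ ∘ τ) := by
  intro r s hok
  obtain ⟨h1, h2⟩ := h' r s hok
  obtain ⟨h3, h4⟩ := h _ _ h1
  refine ⟨h3, ?_⟩
  show tab (σ (τ r)) (σ (τ s)) = _ ∨ _
  rcases h2 with h2 | h2 <;> rcases h4 with h4 | h4 <;> rw [h2] at h4 <;>
    simp_all [List.map_reverse, List.map_map, Function.comp_def]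

/-- A permutation of the roots on indices. -/
def permIdx (w : Equiv.Perm (Fin chevF4.nroots)) (s : ℕ) : ℕ :=
  if h : s < chevF4.nroots then (w ⟨s, h⟩ : ℕ) else s

theorem permIdx_coe (w : Equiv.Perm (Fin chevF4.nroots)) (s : Fin chevF4.nroots) :
    permIdx w s = w s := by simp [permIdx]

theorem permIdx_mul (v w : Equiv.Perm (Fin chevF4.nroots)) :
    permIdx (v * w) = permIdx v ∘ permIdx w := by
  funext s
  by_cases h : s < chevF4.nroots
  · simp [permIdx, h]
  · simp [permIdx, h]

theorem respects_weyl {R : RootData chevF4} (hR : ReflData R)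
    {w : Equiv.Perm (Fin chevF4.nroots)} (hw : w ∈ hR.weyl) : Respects (permIdx w) := by
  refine hR.weyl_induction (P := fun w => Respects (permIdx w)) ?_ ?_ w hw
  · intro r s h
    have e : permIdx (1 : Equiv.Perm (Fin chevF4.nroots)) = id := by
      funext t; by_cases ht : t < chevF4.nroots <;> simp [permIdx, ht]
    rw [e]
    exact ⟨h, Or.inl (by simp)⟩
  · intro v _ i hv
    have e : permIdx (hR.sPerm i) = reflIdx i.val := by
      funext t
      by_cases ht : t < chevF4.nroots
      · have ht' : t < 48 := ht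
        simp [permIdx, reflIdx, ht, ht', hR.sPerm_val]
      · have ht' : ¬ t < 48 := ht
        simp [permIdx, reflIdx, ht, ht']
    rw [permIdx_mul, e]
    exact hv.comp (respects_refl i.val i.isLt)

/-- Renamed root elements satisfy the rules. -/
theorem Sat.rename {H : Type*} [Group H] {L L' : List ℕ} {y : ℕ → H} {c : H} (h : Sat L y c)
    {σ : ℕ → ℕ} (hσ : Respects σ) (hmem : ∀ a ∈ L', σ a ∈ L)
    (htab : ∀ a ∈ L', ∀ b ∈ L', ok b a = true → ∀ m ∈ tab b a, m ∈ L') :
    Sat L' (fun a => y (σ a)) c := by
  refine ⟨h.c_sq, fun a ha => h.c_comm _ (hmem a ha), fun a ha => h.sq _ (hmem a ha),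
    fun a ha b hb hok => ?_⟩
  obtain ⟨hok', htw⟩ := hσ b a hok
  show y (σ a) * y (σ b) = _
  rw [h.swap _ (hmem a ha) _ (hmem b hb) hok']
  have hlen : (tab (σ b) (σ a)).length = (tab b a).length := by
    rcases htw with e | e <;> simp [e]
  have he : twist (σ b) (σ a) = twist b a := by simp only [twist, hlen]
  rw [he, show ev (fun a => y (σ a)) (tab b a) = ev y ((tab b a).map σ) by
    simp [ev, List.map_map, Function.comp_def]]
  congr 2
  rcases htw with e | e
  · rw [e]
  · rw [e]
    -- the two roots of a commutator commute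
    have hmemk : ∀ m ∈ tab (σ b) (σ a), m ∈ L := fun m hm => by
      rw [e, List.mem_reverse, List.mem_map] at hm
      obtain ⟨d, hd, rfl⟩ := hm
      exact hmem d (htab a ha b hb hok d hd)
    refine (List.Perm.prod_eq' ((List.reverse_perm _).map y).symm ?_).symm
    rw [List.pairwise_map]
    refine List.Pairwise.imp_of_mem (R := fun _ _ => True) (fun {k l} hk hl _ => ?_)
      (List.pairwise_of_forall fun _ _ => trivial)
    have hk' : k ∈ tab (σ b) (σ a) := by rw [e]; exact List.mem_reverse.2 hk
    have hl' : l ∈ tab (σ b) (σ a) := by rw [e]; exact List.mem_reverse.2 hl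
    show y k * y l = y l * y k
    by_cases hkl : l = k
    · rw [hkl]
    · obtain ⟨hok2, htab2⟩ := (tab_facts hok').2.2 l hl' k hk' hkl
      rw [h.swap k (hmemk k hk') l (hmemk l hl') hok2]
      simp [twist, htab2]

end CfsgLib.Schur.F4Two
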