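import Cfsg.Prelude.Def_KGroupFacts
import Mathlib.GroupTheory.GroupAction.Quotient
import Mathlib.GroupTheory.Index
import Mathlib.Algebra.BigOperators.Group.Finset.Basic
import Mathlib.Data.ZMod.Basic
import Mathlib.Algebra.CharP.Two
import Mathlib.Algebra.Group.TypeTags.Finite
import Mathlib.Tactic.Abel
import Mathlib.Tactic.Group
import Mathlib.Algebra.Group.MinimalAxioms

/-!
Transfer of a stable double cover: if a subgroup of odd index in a perfect finite group has a
non-split double cover that is stable under conjugation, the group has a double cover as stem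
extension.
-/

set_option autoImplicit false

namespace CfsgLib.Schur.F4Two.Transfer

open Cfsg

universe u v

variable {G : Type u} [Group G] {U : Subgroup G}

/-- Pairs of an element and a bit, with a twisted multiplication. -/
@[ext] structure Ext2 {G : Type u} (F : G → G → ZMod 2) : Type u where
  fst : G
  bit : ZMod 2

/-- The representative of a coset. -/
noncomputable def rep (U : Subgroup G) (x : G ⧸ U) : G := Quotient.out x

theorem mk_rep (x : G ⧸ U) : (QuotientGroup.mk (rep U x) : G ⧸ U) = x := QuotientGroup.out_eq' x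

/-- The element of `U` by which `g` moves the representative of a coset. -/
noncomputable def kap (U : Subgroup G) (g : G) (x : G ⧸ U) : U :=
  ⟨(rep U (g • x))⁻¹ * (g * rep U x), QuotientGroup.eq.1 (by
    rw [mk_rep]; exact congrArg (g • ·) (mk_rep x).symm)⟩

theorem kap_mul (a b : G) (x : G ⧸ U) : kap U (a * b) x = kap U a (b • x) * kap U b x := by
  refine Subtype.ext ?_
  simp only [kap, Subgroup.coe_mul, mul_smul]
  group

theorem kap_one (x : G ⧸ U) : kap U 1 x = 1 := by
  refine Subtype.ext ?_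
  simp [kap]

theorem exists_stem [Finite G] (hperf : commutator G = ⊤) (U : Subgroup G) (hodd : Odd U.index)
    {W : Type v} [Group W] (π : W →* U) (hπ : Function.Surjective π) (c : W) (hc1 : c ≠ 1)
    (hc : ∀ x, π x = 1 ↔ x = 1 ∨ x = c) (hcc : ∀ x, c * x = x * c)
    (hstab : ∀ g : G, ∃ θ : ↥(U.comap ((MulAut.conj g⁻¹).toMonoidHom.comp (U.subtype.comp π))) →* W,
      (∀ x, ((π (θ x) : U) : G) = g⁻¹ * (π x.1 : U) * g) ∧ ∀ x, x.1 = c → θ x = c)
    (hns : ∀ ρ : W →* Multiplicative (ZMod 2), ρ c = 1) :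
    ∃ (Γ : Type u) (_ : Group Γ) (_ : Finite Γ) (σ : Γ →* G),
      IsStemExtension σ ∧ Nonempty (σ.ker ≃* Multiplicative (ZMod 2)) := by
  classical
  have hπc : π c = 1 := (hc c).2 (Or.inr rfl)
  have hc2 : c * c = 1 := by
    rcases (hc (c * c)).1 (by rw [map_mul, hπc, one_mul]) with h | h
    · exact h
    · exact absurd (mul_left_cancel (h.trans (mul_one c).symm)) hc1
  let s : U → W := fun u => if u = 1 then 1 else Function.surjInv hπ u
  have hs : ∀ u, π (s u) = u := fun u => by
    by_cases h : u = 1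
    · simp [s, h]
    · simp only [s, if_neg h, Function.surjInv_eq hπ]
  have hs1 : s 1 = 1 := if_pos rfl
  let cp : ZMod 2 → W := fun i => if i = 0 then 1 else c
  have hz : ∀ i : ZMod 2, i = 0 ∨ i = 1 := by decide
  have h10 : (1 : ZMod 2) ≠ 0 := by decide
  have cp0 : cp 0 = 1 := if_pos rfl
  have cp1 : cp 1 = c := if_neg h10
  have cp_add : ∀ i j, cp (i + j) = cp i * cp j := fun i j => by
    rcases hz i with rfl | rfl <;> rcases hz j with rfl | rfl <;>
      simp [cp0, cp1, hc2, show (1 : ZMod 2) + 1 = 0 by decide]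
  have cp_comm : ∀ i x, cp i * x = x * cp i := fun i x => by
    rcases hz i with rfl | rfl <;> simp [cp0, cp1, hcc]
  have cp_inj : ∀ i j, cp i = cp j → i = j := fun i j h => by
    rcases hz i with rfl | rfl <;> rcases hz j with rfl | rfl
    · rfl
    · exact absurd ((cp1 ▸ cp0 ▸ h.symm : c = 1)) hc1
    · exact absurd ((cp1 ▸ cp0 ▸ h : c = 1)) hc1
    · rfl
  let dl : W → ZMod 2 := fun x => if x = s (π x) then 0 else 1
  have dl_spec : ∀ x, x = s (π x) * cp (dl x) := fun x => by
    by_cases h : x = s (π x)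
    · simp only [dl, if_pos h, cp0, mul_one]; exact h
    · simp only [dl, if_neg h, cp1]
      rcases (hc ((s (π x))⁻¹ * x)).1 (by rw [map_mul, map_inv, hs, inv_mul_cancel]) with e | e
      · exact absurd (inv_mul_eq_one.1 e).symm h
      · rw [← e, mul_inv_cancel_left]
  have dl_uniq : ∀ x i, x = s (π x) * cp i → dl x = i := fun x i h =>
    cp_inj _ _ (mul_left_cancel ((dl_spec x).symm.trans h))
  have dl_cp : ∀ x i, dl (x * cp i) = dl x + i := fun x i => dl_uniq _ _ (by
    have hp : π (x * cp i) = π x := by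
      rcases hz i with rfl | rfl <;> simp [cp0, cp1, hπc]
    rw [hp, cp_add, ← mul_assoc, ← dl_spec])
  let f : U → U → ZMod 2 := fun a b => dl (s a * s b)
  have f_spec : ∀ a b, s a * s b = s (a * b) * cp (f a b) := fun a b => by
    have h := dl_spec (s a * s b)
    rwa [map_mul, hs, hs] at h
  have f1l : ∀ b, f 1 b = 0 := fun b => dl_uniq _ _ (by simp [hs1, hs, cp0])
  have f1r : ∀ b, f b 1 = 0 := fun b => dl_uniq _ _ (by simp [hs1, hs, cp0])
  have f_mul : ∀ x y, dl (x * y) = dl x + dl y + f (π x) (π y) := fun x y => dl_uniq _ _ (by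
    conv_lhs => rw [dl_spec x, dl_spec y]
    rw [map_mul, add_comm (dl x + dl y), cp_add, cp_add, ← mul_assoc (s (π x * π y)), ← f_spec,
      mul_assoc, ← mul_assoc (cp (dl x)), cp_comm (dl x) (s (π y))]
    simp only [mul_assoc])
  have f_cocycle : ∀ p q r, f p q + f (p * q) r = f q r + f p (q * r) := fun p q r => by
    have h1 := f_mul (s p * s q) (s r)
    have h2 := f_mul (s p) (s q * s r)
    have h0 : ∀ a, dl (s a) = 0 := fun a => dl_uniq _ _ (by rw [hs, cp0, mul_one])
    simp only [map_mul, hs, h0, add_zero, zero_add, ← mul_assoc] at h1 h2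
    exact h1.symm.trans h2
  have : Fintype (G ⧸ U) := Fintype.ofFinite _
  let F : G → G → ZMod 2 := fun a b => ∑ x : G ⧸ U, f (kap U a (b • x)) (kap U b x)
  have F1l : ∀ b, F 1 b = 0 := fun b => Finset.sum_eq_zero fun x _ => by rw [kap_one, f1l]
  have F1r : ∀ b, F b 1 = 0 := fun b => Finset.sum_eq_zero fun x _ => by rw [kap_one x, f1r]
  have F_cocycle : ∀ a b d, F a b + F (a * b) d = F b d + F a (b * d) := fun a b d => by
    have e : F a b = ∑ x : G ⧸ U, f (kap U a (b • d • x)) (kap U b (d • x)) :=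
      (Equiv.sum_comp (MulAction.toPerm d) fun x => f (kap U a (b • x)) (kap U b x)).symm
    rw [e]
    simp only [F, ← Finset.sum_add_distrib, kap_mul, mul_smul]
    exact Finset.sum_congr rfl fun x _ => f_cocycle _ _ _
  have h2 : ∀ i : ZMod 2, i + i = 0 := CharTwo.add_self_eq_zero
  let iMul : Mul (Ext2 F) := ⟨fun x y => ⟨x.fst * y.fst, x.bit + y.bit + F x.fst y.fst⟩⟩
  let iOne : One (Ext2 F) := ⟨⟨1, 0⟩⟩
  let iInv : Inv (Ext2 F) := ⟨fun x => ⟨x.fst⁻¹, x.bit + F x.fst⁻¹ x.fst⟩⟩
  have mul_fst : ∀ x y : Ext2 F, (x * y).fst = x.fst * y.fst := fun _ _ => rfl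
  have mul_bit : ∀ x y : Ext2 F, (x * y).bit = x.bit + y.bit + F x.fst y.fst := fun _ _ => rfl
  let iG : Group (Ext2 F) := Group.ofLeftAxioms
    (fun x y z => by
      refine Ext2.ext (by simp [mul_fst, mul_assoc]) ?_
      simp only [mul_bit, mul_fst]
      have h := F_cocycle x.fst y.fst z.fst
      calc x.bit + y.bit + F x.fst y.fst + z.bit + F (x.fst * y.fst) z.fst
          = x.bit + y.bit + z.bit + (F x.fst y.fst + F (x.fst * y.fst) z.fst) := by abel
        _ = _ := by rw [h]; abel)
    (fun x => by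
      refine Ext2.ext (one_mul x.fst) ?_
      show 0 + x.bit + F 1 x.fst = x.bit
      rw [F1l, zero_add, add_zero])
    (fun x => by
      refine Ext2.ext (inv_mul_cancel x.fst) ?_
      show x.bit + F x.fst⁻¹ x.fst + x.bit + F x.fst⁻¹ x.fst = 0
      rw [add_assoc, h2])
  let σ : Ext2 F →* G :=
    { toFun := fun x => x.fst, map_one' := rfl, map_mul' := fun _ _ => rfl }
  have : Finite (Ext2 F) := Finite.of_injective (fun x => (x.fst, x.bit)) fun x y h => by
    simp only [Prod.mk.injEq] at h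
    exact Ext2.ext h.1 h.2
  have hsurj : Function.Surjective σ := fun g => ⟨⟨g, 0⟩, rfl⟩
  have hcent : σ.ker ≤ Subgroup.center (Ext2 F) := fun z (hz : z.fst = 1) =>
    Subgroup.mem_center_iff.2 fun g => Ext2.ext (by rw [mul_fst, mul_fst, hz, mul_one, one_mul])
      (by rw [mul_bit, mul_bit, hz, F1r, F1l, add_comm g.bit])
  let z : Ext2 F := ⟨1, 1⟩
  have hkz : ∀ x ∈ σ.ker, x = 1 ∨ x = z := fun x (hx : x.fst = 1) =>
    (hz x.bit).imp (fun h => Ext2.ext hx h) fun h => Ext2.ext hx h
  have hmap : (commutator (Ext2 F)).map σ = ⊤ := by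
    rw [commutator_def, Subgroup.map_commutator, Subgroup.map_top_of_surjective σ hsurj,
      ← commutator_def, hperf]
  have hzc : z ∈ commutator (Ext2 F) := by
    by_contra hzn
    have hex : ∀ g : G, ∃ i : ZMod 2, (⟨g, i⟩ : Ext2 F) ∈ commutator (Ext2 F) := fun g => by
      obtain ⟨e, he, rfl⟩ : g ∈ (commutator (Ext2 F)).map σ := hmap ▸ Subgroup.mem_top g
      exact ⟨e.bit, he⟩
    choose h hh using hex
    have huniq : ∀ g i, (⟨g, i⟩ : Ext2 F) ∈ commutator (Ext2 F) → i = h g := by
      intro g i hi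
      by_contra hne
      apply hzn
      have hd := mul_mem (inv_mem (hh g)) hi
      rcases hkz ((⟨g, h g⟩ : Ext2 F)⁻¹ * ⟨g, i⟩) (inv_mul_cancel g) with e | e
      · exact absurd (congrArg Ext2.bit (inv_mul_eq_one.1 e)).symm hne
      · exact e ▸ hd
    have hhom : ∀ a b, F a b = h (a * b) + h a + h b := fun a b => by
      rw [← huniq (a * b) _ (mul_mem (hh a) (hh b))]
      have e : ∀ p q r : ZMod 2, r = p + q + r + p + q := by decide
      exact e _ _ _
    have h1 : h 1 = 0 := (huniq 1 0 (one_mem _)).symm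
    -- restriction to `U`
    let r := MulAction.orbitRel U (G ⧸ U)
    let x₀ : G ⧸ U → G ⧸ U := fun x => (Quotient.mk r x).out
    have hx₀ : ∀ (u : U) x, x₀ ((u : G) • x) = x₀ x := fun u x =>
      congrArg Quotient.out (Quotient.sound (⟨u, rfl⟩ : r ((u : G) • x) x))
    have hp : ∀ x, ∃ p : U, (p : G) • x₀ x = x := fun x => by
      obtain ⟨p, hp⟩ := Quotient.exact (Quotient.out_eq (Quotient.mk r x))
      refine ⟨p⁻¹, ?_⟩
      rw [← (show (p : G) • x = x₀ x from hp), Subgroup.coe_inv, inv_smul_smul]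
    choose p hp using hp
    choose θ hθ hθc using fun x : G ⧸ U => hstab (rep U x)
    let V : G ⧸ U → Subgroup W := fun x =>
      U.comap ((MulAut.conj (rep U x)⁻¹).toMonoidHom.comp (U.subtype.comp π))
    have hV : ∀ x y, y ∈ V x ↔ (rep U x)⁻¹ * (π y : G) * rep U x ∈ U := fun x y => by
      show (rep U x)⁻¹ * (π y : G) * ((rep U x)⁻¹)⁻¹ ∈ U ↔ _
      rw [inv_inv]
    let Θ : G ⧸ U → W → W := fun x y => if hy : y ∈ V x then θ x ⟨y, hy⟩ else 1
    let β : G ⧸ U → U := fun x => ⟨(rep U (x₀ x))⁻¹ * (p x : G)⁻¹ * rep U x, by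
      rw [mul_assoc]
      refine QuotientGroup.eq.1 ?_
      rw [mk_rep]
      refine (eq_inv_smul_iff.2 (hp x)).trans ?_
      exact congrArg ((p x : G)⁻¹ • ·) (mk_rep x).symm⟩
    let Y : U → G ⧸ U → W := fun u x => (s (p ((u : G) • x)))⁻¹ * s u * s (p x)
    have hY : ∀ u x, Y u x ∈ V (x₀ x) := fun u x => by
      rw [hV, mul_assoc]
      refine QuotientGroup.eq.1 ?_
      have h3 : ∀ g : G, (QuotientGroup.mk (g * rep U (x₀ x)) : G ⧸ U) = g • x₀ x := fun g =>
        congrArg (g • ·) (mk_rep (x₀ x))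
      rw [h3, mk_rep]
      simp only [Y, map_mul, map_inv, hs, Subgroup.coe_mul, Subgroup.coe_inv, mul_smul, hp]
      rw [← hx₀ u x]
      exact eq_inv_smul_iff.2 (hp _)
    let L : U → G ⧸ U → W := fun u x => (s (β ((u : G) • x)))⁻¹ * Θ (x₀ x) (Y u x) * s (β x)
    have hπL : ∀ (u : U) x, π (L u x) = kap U (u : G) x := fun u x => by
      refine Subtype.ext ?_
      simp only [L, Θ, dif_pos (hY u x), map_mul, map_inv, hs, Subgroup.coe_mul, Subgroup.coe_inv,
        hθ, β, hx₀, Y, kap]
      group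
    have hL : ∀ (a b : U) x, L a ((b : G) • x) * L b x = L (a * b) x * cp (f a b) := fun a b x => by
      have hab : ((a * b : U) : G) • x = (a : G) • (b : G) • x := mul_smul _ _ _
      have hcV : cp (f a b) ∈ V (x₀ x) := by
        rw [hV]
        rcases hz (f a b) with e | e <;> simp [e, cp0, cp1, hπc]
      have hθcp : θ (x₀ x) ⟨cp (f a b), hcV⟩ = cp (f a b) := by
        rcases hz (f a b) with e | e
        · rw [show (⟨cp (f a b), hcV⟩ : V (x₀ x)) = 1 from Subtype.ext (by simp [e, cp0]), map_one,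
            e, cp0]
        · rw [hθc _ _ (show cp (f a b) = c by rw [e, cp1]), e, cp1]
      have hYa : Y a ((b : G) • x) ∈ V (x₀ x) := hx₀ b x ▸ hY a _
      have hYY : Y a ((b : G) • x) * Y b x = Y (a * b) x * cp (f a b) := by
        simp only [Y, hab]
        rw [show ∀ A S B S' C : W, A⁻¹ * S * B * (B⁻¹ * S' * C) = A⁻¹ * (S * S') * C from
          fun A S B S' C => by group, f_spec]
        simp only [mul_assoc]
        rw [cp_comm]
      have hT : Θ (x₀ ((b : G) • x)) (Y a ((b : G) • x)) * Θ (x₀ x) (Y b x) =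
          Θ (x₀ x) (Y (a * b) x) * cp (f a b) := by
        rw [hx₀]
        simp only [Θ, dif_pos hYa, dif_pos (hY b x), dif_pos (hY (a * b) x)]
        rw [← hθcp, ← map_mul, ← map_mul]
        exact congrArg _ (Subtype.ext hYY)
      simp only [L, hab]
      rw [show ∀ A S B S' C : W, A⁻¹ * S * B * (B⁻¹ * S' * C) = A⁻¹ * (S * S') * C from
        fun A S B S' C => by group, hT]
      simp only [mul_assoc]
      rw [cp_comm]
    let Φ : U → ZMod 2 := fun u => ∑ x : G ⧸ U, dl (L u x)
    have hn : (Fintype.card (G ⧸ U) : ZMod 2) = 1 := by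
      rw [← Nat.card_eq_fintype_card, ← Subgroup.index]
      exact ZMod.natCast_eq_one_iff_odd.2 hodd
    have key : ∀ a b : U, F a b + Φ a + Φ b = Φ (a * b) + f a b := fun a b => by
      have e : Φ a = ∑ x : G ⧸ U, dl (L a ((b : G) • x)) :=
        (Equiv.sum_comp (MulAction.toPerm (b : G)) fun x => dl (L a x)).symm
      rw [e]
      simp only [Φ, F, ← Finset.sum_add_distrib]
      calc _ = ∑ x : G ⧸ U, (dl (L (a * b) x) + f a b) := by
            refine Finset.sum_congr rfl fun x _ => ?_
            have e := congrArg dl (hL a b x)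
            rw [f_mul, dl_cp, hπL, hπL] at e
            rw [← e]
            abel
        _ = _ := by
            rw [Finset.sum_add_distrib, Finset.sum_const, Finset.card_univ, nsmul_eq_mul, hn, one_mul]
    let ψ : W → ZMod 2 := fun x => Φ (π x) + h (π x : G) + dl x
    have hψ : ∀ x y, ψ (x * y) = ψ x + ψ y := fun x y => by
      have e := key (π x) (π y)
      rw [hhom, ← Subgroup.coe_mul] at e
      simp only [ψ, f_mul, map_mul]
      have e' : ∀ p q r i j k P Q R : ZMod 2, r + p + q + P + Q = R + k →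
          R + r + (i + j + k) = P + p + i + (Q + q + j) := by decide
      exact e' _ _ _ _ _ _ _ _ _ e
    have hψ1 : ψ 1 = 0 := by
      have := hψ 1 1
      rw [one_mul, h2] at this
      exact this
    let ρ : W →* Multiplicative (ZMod 2) := MonoidHom.mk' (fun x => Multiplicative.ofAdd (ψ x))
      fun x y => by rw [hψ, ofAdd_add]
    have hρ : ψ c = 0 := Multiplicative.ofAdd.injective (hns ρ)
    have hψc : ψ c = ψ 1 + 1 := by
      have d1 : dl c = 1 := dl_uniq _ _ (by rw [hπc, hs1, one_mul, cp1])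
      have d0 : dl 1 = 0 := dl_uniq _ _ (by rw [map_one, hs1, one_mul, cp0])
      simp only [ψ, hπc, map_one, d1, d0, add_zero]
    rw [hψ1, hρ, zero_add] at hψc
    exact h10 hψc.symm
  refine ⟨Ext2 F, iG, inferInstance, σ, ⟨hsurj, hcent, fun x hx => ?_⟩, ⟨?_⟩⟩
  · rcases hkz x hx with rfl | rfl
    · exact one_mem _
    · exact hzc
  · exact
      { toFun := fun x => Multiplicative.ofAdd x.1.bit
        invFun := fun i => ⟨⟨1, Multiplicative.toAdd i⟩, rfl⟩
        left_inv := fun x => Subtype.ext (Ext2.ext (show (1 : G) = x.1.fst from x.2.symm) rfl)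
        right_inv := fun i => rfl
        map_mul' := fun x y => by
          show Multiplicative.ofAdd (x.1.bit + y.1.bit + F x.1.fst y.1.fst) = _
          rw [show x.1.fst = 1 from x.2, F1l, add_zero, ofAdd_add] }

end CfsgLib.Schur.F4Two.Transfer
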