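import Cfsg.Agent.Lib.Schur.F4Two.GroupSide
import Cfsg.Agent.Lib.Schur.F4Two.Transfer
import Cfsg.Agent.Lib.ChevStr.Perfect

/-!
The double cover of F₄(2): the twisted rules present a double cover of the unipotent subgroup of a
Borel subgroup, it is stable under conjugation, and it does not split.
-/

set_option autoImplicit false
set_option maxRecDepth 100000

namespace CfsgLib.Schur.F4Two

open Cfsg Cfsg.Lie CfsgLib.ChevStr

universe u

variable {F : Type u} [Field F] [Fintype F] (hF : Fintype.card F = 2) (C : ChevCore chevF4 F)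

/-- The roots that a permutation keeps positive. -/
def keepList (w : Equiv.Perm (Fin chevF4.nroots)) : List ℕ :=
  posList.filter fun s => decide (chevF4.IsPosRoot (permIdx w s))

theorem mem_keepList {w : Equiv.Perm (Fin chevF4.nroots)} {s : ℕ} :
    s ∈ keepList w ↔ chevF4.IsPosRoot s ∧ chevF4.IsPosRoot (permIdx w s) := by
  simp [keepList, mem_posList]

theorem keepList_closed {w : Equiv.Perm (Fin chevF4.nroots)} (hw : w ∈ C.hR.weyl) :
    C.R.IsClosed {r | r ∈ keepList w} := by
  refine ⟨fun r hr => (mem_keepList.1 hr).1, fun r hr s hs k hk => ?_⟩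
  obtain ⟨hr1, hr2⟩ := mem_keepList.1 hr
  obtain ⟨hs1, hs2⟩ := mem_keepList.1 hs
  refine mem_keepList.2 ⟨C.R.combo_pos hr1 hs1 hk, ?_⟩
  have hkn : k < chevF4.nroots := hk.1
  have hrn : r < chevF4.nroots := hr1.1
  have hsn : s < chevF4.nroots := hs1.1
  simp only [permIdx, dif_pos hrn, dif_pos hsn, dif_pos hkn] at hr2 hs2 ⊢
  exact isPos_weyl_combo C hw (r := ⟨r, hrn⟩) (s := ⟨s, hsn⟩) (k := ⟨k, hkn⟩) hk hr2 hs2

theorem isCombo_of_mem_tab {r s k : ℕ} (hr : r < 48) (hs : s < 48) (hok : ok r s = true)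
    (hk : k ∈ tab r s) : C.R.IsCombo r s k := by
  rw [← tab_eq r hr s hs hok, List.mem_map] at hk
  obtain ⟨c, hc, rfl⟩ := hk
  obtain ⟨h1, h2, h3, h4⟩ := C.R.commTerms_spec (List.mem_filter.1 hc).1
  exact ⟨h1, _, _, h2, h3, h4⟩

include C in
theorem good_keepList {w : Equiv.Perm (Fin chevF4.nroots)} (hw : w ∈ C.hR.weyl) :
    Good (keepList w) := by
  refine good_pos.filter fun a ha b hb hpa hpb m hm => ?_
  rcases eq_or_ne a b with rfl | hab
  · exfalso
    have : ∀ a < 48, tab a a = [] := by decide +kernel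
    rw [this a (posList_lt a ha)] at hm
    exact List.not_mem_nil hm
  · obtain ⟨hok, -⟩ := good_pos.closed a ha b hb hab
    simp only [decide_eq_true_eq] at hpa hpb ⊢
    exact (mem_keepList.1 ((keepList_closed C hw).2 a (mem_keepList.2 ⟨mem_posList.1 ha, hpa⟩)
      b (mem_keepList.2 ⟨mem_posList.1 hb, hpb⟩) m
      (isCombo_of_mem_tab C (posList_lt a ha) (posList_lt b hb) hok hm))).2

theorem keepList_sorted (w : Equiv.Perm (Fin chevF4.nroots)) : (keepList w).Pairwise (· < ·) :=
  List.Pairwise.filter _ List.pairwise_lt_range'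

/-- The root lifting a root element is a product of two others: a check for the non-splitting. -/
theorem nonsplit_roots :
    tab 35 24 = [36, 43] ∧ tab 33 29 = [36] ∧ tab 42 25 = [43] ∧
      ok 35 24 = true ∧ ok 33 29 = true ∧ ok 42 25 = true := by
  decide +kernel

include hF in
theorem index_odd : Odd ((chevF4.posUnipotent F).subgroupOf (chevF4.group F)).index := by
  classical
  obtain ⟨C⟩ := nonempty_chevCore_of_mem (D := chevF4) (by simp) F
  have hle : chevF4.posUnipotent F ≤ chevF4.group F :=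
    (le_sup_left : chevF4.posUnipotent F ≤ chevF4.borelSubgroup F).trans C.borel_le_group
  have : Finite ↥(chevF4.group F) := inferInstance
  set U := (chevF4.posUnipotent F).subgroupOf (chevF4.group F)
  have h1 : Nat.card U * U.index = Nat.card ↥(chevF4.group F) := Subgroup.card_mul_index U
  have h2 : Nat.card U = Nat.card ↥(chevF4.borelSubgroup F) := by
    rw [borel_eq hF C]
    exact Nat.card_congr (Subgroup.subgroupOfEquivOfLe hle).toEquiv
  rw [C.card_group, h2] at h1
  rw [Nat.eq_of_mul_eq_mul_left Nat.card_pos h1, hF]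
  have h1w : (1 : Equiv.Perm (Fin chevF4.nroots)) ∈ C.hR.weylSet :=
    C.hR.mem_weylSet.2 (one_mem _)
  rw [← Finset.add_sum_erase _ _ h1w]
  have he : (C.hR.invSet (1 : Equiv.Perm (Fin chevF4.nroots))).card = 0 := by
    rw [Finset.card_eq_zero, Finset.eq_empty_iff_forall_notMem]
    intro s hs
    rw [C.hR.mem_invSet, Equiv.Perm.one_apply] at hs
    exact C.R.not_pos_and_neg hs.1 hs.2
  rw [he, pow_zero, add_comm]
  refine Even.add_one (Finset.even_sum _ fun w hw => ?_)
  obtain ⟨hw1, hw⟩ := Finset.mem_erase.1 hw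
  refine (Nat.even_pow).2 ⟨even_two, fun h => hw1 ?_⟩
  exact C.hR.eq_one_of_invSet_eq_empty (C.hR.mem_weylSet.1 hw) (Finset.card_eq_zero.1 h)

include hF C in
/-- The double cover. -/
theorem exists_cover : ∃ (Γ : Type u) (_ : Group Γ) (_ : Finite Γ) (σ : Γ →* ↥(chevF4.group F)),
    IsStemExtension σ ∧ Nonempty (σ.ker ≃* Multiplicative (ZMod 2)) := by
  classical
  obtain ⟨H, _, _, y, c, hS, hI⟩ := exists_model posList good_pos allOK_pos
  have hperf : commutator ↥(chevF4.group F) = ⊤ := perfect_of_check C goodCheckF4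
  let W := gens posList y c
  have hgx : Sat posList (gx C) 1 := (sat_gx hF C).mono fun a ha =>
    List.mem_range.2 (posList_lt a ha)
  obtain ⟨π₀, hπy, hπc⟩ := universal good_pos hS hI hgx
  set U := (chevF4.posUnipotent F).subgroupOf (chevF4.group F) with hUdef
  let cW : W := ⟨c, c_mem_gens _ y c⟩
  let yW : ℕ → W := fun a => if h : a ∈ posList then ⟨y a, mem_gens y c h⟩ else 1
  have hyW : ∀ a ∈ posList, π₀ (yW a) = gx C a := fun a ha => by
    simp only [yW, dif_pos ha]; exact hπy a ha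
  have hyW' : ∀ a ∈ posList, ((yW a : W) : H) = y a := fun a ha => by simp [yW, ha]
  have hmemU : ∀ x : W, π₀ x ∈ U := by
    refine fun x => gens_top (U.comap π₀) ?_ (fun a ha => ?_) x
    · show π₀ _ ∈ U
      rw [hπc]; exact one_mem _
    · show π₀ _ ∈ U
      rw [hπy a ha, Subgroup.mem_subgroupOf]
      exact C.xGL_mem_posUnipotent (mem_posList.1 ha) 1
  let π : W →* U := π₀.codRestrict U hmemU
  have hπev : ∀ l : List ℕ, (∀ a ∈ l, a ∈ posList) →
      (((π (ev yW l) : U) : ↥(chevF4.group F)) : GL chevF4.Idx F) = ev (fun a => C.xGL a 1) l := by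
    intro l hl
    show ((π₀ (ev yW l) : ↥(chevF4.group F)) : GL chevF4.Idx F) = _
    rw [map_ev π₀ yW l, ev_congr (y := π₀ ∘ yW) (y' := gx C) fun a ha => hyW a (hl a ha), coe_ev_gx C]
  have hsub : ∀ {L : List ℕ}, L.Sublist posList → L.Pairwise (· < ·) →
      C.R.IsClosed {r | r ∈ L} → ∀ u : U,
        ((u : ↥(chevF4.group F)) : GL chevF4.Idx F) ∈ C.Ucl {r | r ∈ L} →
          ∃ l : List ℕ, l.Sublist L ∧ π (ev yW l) = u := by
    intro L hL hs hc u hu
    obtain ⟨l, hl, e⟩ := exists_ev hF C hs hc hu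
    exact ⟨l, hl, Subtype.ext (Subtype.ext ((hπev l fun a ha => hL.subset (hl.subset ha)).trans e))⟩
  have hπsurj : Function.Surjective π := fun u => by
    obtain ⟨l, -, e⟩ := hsub (List.Sublist.refl posList) List.pairwise_lt_range'
      (by rw [setOf_posList]; exact C.R.isClosed_pos) u (by
        rw [setOf_posList, ← C.posUnipotent_eq]; exact u.2)
    exact ⟨_, e⟩
  have hW : ∀ x : W, ∃ l : List ℕ, l.Sublist posList ∧ ∃ ε : Bool,
      x = (if ε then cW else 1) * ev yW l := fun x => by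
    obtain ⟨l, hl, ε, e⟩ := exists_nf good_pos hS x.2
    refine ⟨l, hl, ε, Subtype.ext ?_⟩
    rw [e, Subgroup.coe_mul]
    congr 1
    · cases ε <;> rfl
    · exact ((map_ev W.subtype yW l).trans (ev_congr fun a ha => hyW' a (hl.subset ha))).symm
  have hπcW : π cW = 1 := Subtype.ext hπc
  have hc : ∀ x : W, π x = 1 ↔ x = 1 ∨ x = cW := by
    refine fun x => ⟨fun hx => ?_, fun hx => ?_⟩
    · obtain ⟨l, hl, ε, rfl⟩ := hW x
      have h1 : π (ev yW l) = 1 := by
        cases ε <;> simpa [hπcW] using hx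
      have h2 := hπev l fun a ha => hl.subset ha
      rw [h1] at h2
      obtain rfl := eq_nil_of_ev_eq_one hF C hl h2.symm
      cases ε <;> simp
    · rcases hx with rfl | rfl
      · exact map_one π
      · exact hπcW
  have hc1 : cW ≠ 1 := fun h => Bool.noConfusion (hI [] [] (List.nil_sublist _) (List.nil_sublist _)
    true false (by simpa [cW] using (congrArg Subtype.val h : c = 1))).1
  have hcc : ∀ x : W, cW * x = x * cW := by
    refine fun x => Subtype.ext ?_
    obtain ⟨l, hl, ε, e⟩ := exists_nf good_pos hS x.2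
    show c * x = x * c
    rw [e]
    have hcl : Commute c (ev y l) := commute_ev fun a ha => hS.c_comm a (hl.subset ha)
    exact (Commute.mul_right (by cases ε <;> simp [Commute.one_right]) hcl).eq
  have hSW : Sat posList yW cW := by
    have hev : ∀ w : List ℕ, (∀ a ∈ w, a ∈ posList) → ((ev yW w : W) : H) = ev y w := fun w hw =>
      (map_ev W.subtype yW w).trans (ev_congr fun a ha => hyW' a (hw a ha))
    refine ⟨Subtype.ext hS.c_sq, fun a _ => hcc _, fun a ha => Subtype.ext ?_,
      fun a ha b hb hok => Subtype.ext ?_⟩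
    · rw [Subgroup.coe_mul, hyW' a ha, Subgroup.coe_one]; exact hS.sq a ha
    · rw [Subgroup.coe_mul, Subgroup.coe_mul, Subgroup.coe_mul, Subgroup.coe_mul, hyW' a ha,
        hyW' b hb, SubmonoidClass.coe_pow, hev _ (good_pos.closed b hb a ha fun e => by
          subst e; simp [ok] at hok).2]
      exact hS.swap a ha b hb hok
  have hIW : Inj posList yW cW := fun l l' hl hl' ε ε' h => hI l l' hl hl' ε ε' (by
    have h1 := congrArg W.subtype h
    rw [map_mul, map_mul, map_ev, map_ev, apply_ite W.subtype, apply_ite W.subtype, map_one] at h1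
    rw [ev_congr (y := y) (y' := W.subtype ∘ yW) fun a ha => (hyW' a (hl.subset ha)).symm,
      ev_congr (y := y) (y' := W.subtype ∘ yW) fun a ha => (hyW' a (hl'.subset ha)).symm]
    exact h1)
  -- stability
  let Vsub : ↥(chevF4.group F) → Subgroup W := fun g =>
    U.comap ((MulAut.conj g⁻¹).toMonoidHom.comp (U.subtype.comp π))
  have hV : ∀ g x, x ∈ Vsub g ↔ g⁻¹ * (π x : ↥(chevF4.group F)) * g ∈ U := fun g x => by
    show g⁻¹ * (π x : ↥(chevF4.group F)) * (g⁻¹)⁻¹ ∈ U ↔ _
    rw [inv_inv]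
  let Stable : ↥(chevF4.group F) → Prop := fun g => ∃ θ : ↥(Vsub g) →* W,
    (∀ x, ((π (θ x) : U) : ↥(chevF4.group F)) = g⁻¹ * (π x.1 : U) * g) ∧ ∀ x, x.1 = cW → θ x = cW
  have hright : ∀ g (w : W), Stable g → Stable (g * (π w : ↥(chevF4.group F))) := by
    rintro g w ⟨θ, h1, h2⟩
    have hle : ∀ x : Vsub (g * (π w : ↥(chevF4.group F))), x.1 ∈ Vsub g := fun x => by
      have hx := (hV _ _).1 x.2
      rw [hV]
      rw [show (g * (π w : ↥(chevF4.group F)))⁻¹ * (π x.1 : ↥(chevF4.group F)) *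
          (g * (π w : ↥(chevF4.group F))) = (π w : ↥(chevF4.group F))⁻¹ *
            (g⁻¹ * (π x.1 : ↥(chevF4.group F)) * g) * (π w : ↥(chevF4.group F)) by group] at hx
      have hu : (π w : ↥(chevF4.group F)) ∈ U := (π w).2
      have := mul_mem (mul_mem hu hx) (inv_mem hu)
      simpa [mul_assoc] using this
    let ι : ↥(Vsub (g * (π w : ↥(chevF4.group F)))) →* ↥(Vsub g) :=
      { toFun := fun x => ⟨x.1, hle x⟩, map_one' := rfl, map_mul' := fun _ _ => rfl }
    refine ⟨((MulAut.conj w⁻¹).toMonoidHom).comp (θ.comp ι), fun x => ?_, fun x hx => ?_⟩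
    · show ((π (w⁻¹ * θ (ι x) * (w⁻¹)⁻¹) : U) : ↥(chevF4.group F)) = _
      simp only [inv_inv, map_mul, map_inv, Subgroup.coe_mul, Subgroup.coe_inv, h1]
      show _ * (g⁻¹ * (π x.1 : ↥(chevF4.group F)) * g) * _ = _
      group
    · show w⁻¹ * θ (ι x) * (w⁻¹)⁻¹ = cW
      rw [h2 (ι x) hx, inv_inv, mul_assoc, hcc, inv_mul_cancel_left]
  have hleft : ∀ g (w : W), Stable g → Stable ((π w : ↥(chevF4.group F)) * g) := by
    rintro g w ⟨θ, h1, h2⟩
    have hle : ∀ x : Vsub ((π w : ↥(chevF4.group F)) * g), w⁻¹ * x.1 * w ∈ Vsub g := fun x => by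
      have hx := (hV _ _).1 x.2
      rw [hV]
      simpa [mul_assoc] using hx
    let ι : ↥(Vsub ((π w : ↥(chevF4.group F)) * g)) →* ↥(Vsub g) :=
      { toFun := fun x => ⟨w⁻¹ * x.1 * w, hle x⟩
        map_one' := Subtype.ext (by simp)
        map_mul' := fun x z => Subtype.ext (by simp [mul_assoc]) }
    refine ⟨θ.comp ι, fun x => ?_, fun x hx => ?_⟩
    · show ((π (θ (ι x)) : U) : ↥(chevF4.group F)) = _
      rw [h1]
      show g⁻¹ * ((π (w⁻¹ * x.1 * w) : U) : ↥(chevF4.group F)) * g = _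
      simp only [map_mul, map_inv, Subgroup.coe_mul, Subgroup.coe_inv]
      group
    · exact h2 (ι x) (by
        show w⁻¹ * x.1 * w = cW
        rw [hx, mul_assoc, hcc, inv_mul_cancel_left])
  have hmono : ∀ n : ↥(chevF4.group F), ∀ w, C.Acts ((n : GL chevF4.Idx F))⁻¹ w → Stable n := by
    intro n w hact
    obtain ⟨hw, e, he⟩ := hact
    have hact' : C.Moves ((n : GL chevF4.Idx F))⁻¹ w := ⟨hw, fun s t => ⟨_, (he s).2.2 t⟩⟩
    have hconj : ∀ a ∈ posList,
        (n : GL chevF4.Idx F)⁻¹ * C.xGL a 1 * n = C.xGL (permIdx w a) 1 := by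
      intro a ha
      have ha' : a < chevF4.nroots := posList_lt a ha
      have h := (he ⟨a, ha'⟩).2.2 1
      rw [inv_inv] at h
      rw [h, mul_one, show permIdx w a = (w ⟨a, ha'⟩ : ℕ) by simp [permIdx, ha'], intCast_eq hF]
      rcases (he ⟨a, ha'⟩).1 with h1 | h1 <;> simp [h1]
    set LS := keepList w with hLSdef
    have hLS : LS.Sublist posList := List.filter_sublist
    have hcl := keepList_closed C hw
    have hmem : ∀ a ∈ LS, permIdx w a ∈ posList := fun a ha =>
      mem_posList.2 (mem_keepList.1 ha).2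
    have hS' : Sat LS (fun a => yW (permIdx w a)) cW :=
      hSW.rename (respects_weyl C.hR hw) hmem fun a ha b hb hok =>
        ((good_keepList C hw).closed b hb a ha fun e => by subst e; simp [ok] at hok).2
    obtain ⟨φ, hφy, hφc⟩ := universal (good_keepList C hw) (hSW.mono fun a ha => hLS.subset ha)
      (fun l l' hl hl' => hIW l l' (hl.trans hLS) (hl'.trans hLS)) hS'
    have hle : ∀ x : W, x ∈ Vsub n → x ∈ gens LS yW cW := by
      intro x hx
      rw [hV] at hx
      set g : GL chevF4.Idx F := ((π x : ↥(chevF4.group F)) : GL chevF4.Idx F) with hgdef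
      have hgU : g ∈ chevF4.posUnipotent F := (π x).2
      have hngU : (n : GL chevF4.Idx F)⁻¹ * g * n ∈ chevF4.posUnipotent F :=
        Subgroup.mem_subgroupOf.1 hx
      let P : Set ℕ := {r | chevF4.IsPosRoot r}
      have hPS : {r | r ∈ LS} = P \ C.hR.invRoots w := by
        ext r
        simp only [Set.mem_ofPred_eq, Set.mem_sdiff, P, hLSdef, mem_keepList]
        constructor
        · rintro ⟨h1, h2⟩
          refine ⟨h1, fun h3 => ?_⟩
          have := (C.hR.mem_invRoots (s := (⟨r, h1.1⟩ : Fin chevF4.nroots))).1 h3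
          rw [show permIdx w r = (w ⟨r, h1.1⟩ : ℕ) by simp [permIdx, h1.1]] at h2
          exact C.R.not_pos_and_neg h2 this.2
        · rintro ⟨h1, h2⟩
          refine ⟨h1, ?_⟩
          rw [show permIdx w r = (w ⟨r, h1.1⟩ : ℕ) by simp [permIdx, h1.1]]
          exact (C.R.pos_or_neg (w ⟨r, h1.1⟩).isLt).resolve_right fun h3 => h2
            ((C.hR.mem_invRoots (s := (⟨r, h1.1⟩ : Fin chevF4.nroots))).2 ⟨h1, h3⟩)
      have hinv : C.R.IsClosed (C.hR.invRoots w) := C.hR.invRoots_closed hw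
      have hsubP : C.hR.invRoots w ⊆ P := hinv.1
      have hA : C.Ucl {r | r ∈ LS} ≤ chevF4.posUnipotent F := by
        rw [C.posUnipotent_eq]; exact C.Ucl_mono hcl.1
      have hB : C.Ucl (C.hR.invRoots w) ≤ chevF4.posUnipotent F := by
        rw [C.posUnipotent_eq]; exact C.Ucl_mono hsubP
      have htriv : ∀ z, z ∈ C.Ucl {r | r ∈ LS} → z ∈ C.Ucl (C.hR.invRoots w) → z = 1 := by
        intro z hz1 hz2
        have h := C.Ucl_inf hcl hinv hz1 hz2
        have h0 : C.Ucl ({r | r ∈ LS} ∩ C.hR.invRoots w) ≤ ⊥ := C.Ucl_le fun r hr => by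
          rw [hPS] at hr; exact absurd hr.2 hr.1.2
        exact Subgroup.mem_bot.1 (h0 h)
      let f : C.Ucl {r | r ∈ LS} × C.Ucl (C.hR.invRoots w) → chevF4.posUnipotent F := fun p =>
        ⟨(p.1 : GL chevF4.Idx F) * p.2, mul_mem (hA p.1.2) (hB p.2.2)⟩
      have hfi : Function.Injective f := by
        rintro ⟨a, b⟩ ⟨a', b'⟩ h
        have h' : (a : GL chevF4.Idx F) * b = a' * b' := congrArg Subtype.val h
        have h1 : ((a' : GL chevF4.Idx F))⁻¹ * a = b' * (b : GL chevF4.Idx F)⁻¹ := by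
          rw [eq_mul_inv_iff_mul_eq, mul_assoc, h', inv_mul_cancel_left]
        have h2 := htriv _ (mul_mem (inv_mem a'.2) a.2) (h1 ▸ mul_mem b'.2 (inv_mem b.2))
        obtain rfl : a' = a := Subtype.ext (inv_mul_eq_one.1 h2)
        obtain rfl : b = b' := Subtype.ext (mul_left_cancel h')
        rfl
      have hcard : Nat.card (C.Ucl {r | r ∈ LS} × C.Ucl (C.hR.invRoots w)) =
          Nat.card (chevF4.posUnipotent F) := by
        have hfinP : P.Finite := (Set.finite_Iio 48).subset fun r hr => hr.1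
        rw [Nat.card_prod, C.card_Ucl hcl, C.card_Ucl hinv, C.posUnipotent_eq,
          C.card_Ucl C.R.isClosed_pos, ← pow_add, hPS,
          Set.ncard_sdiff_add_ncard_of_subset hsubP hfinP]
      obtain ⟨⟨a, b⟩, hab⟩ := ((Nat.bijective_iff_injective_and_card f).2 ⟨hfi, hcard⟩).2 ⟨g, hgU⟩
      have hab' : (a : GL chevF4.Idx F) * b = g := congrArg Subtype.val hab
      have hna : (n : GL chevF4.Idx F)⁻¹ * a * n ∈ chevF4.posUnipotent F := by
        have h := C.conj_Ucl_le hact' (S := {r | r ∈ LS}) (T := chevF4.posUnipotent F)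
          (fun s hs t => C.xGL_mem_posUnipotent
            (by have := (mem_keepList.1 hs).2; rwa [permIdx_coe] at this) t) a a.2
        rwa [inv_inv] at h
      have hnb : (n : GL chevF4.Idx F)⁻¹ * b * n = 1 := by
        have h1 : (n : GL chevF4.Idx F)⁻¹ * b * n =
            ((n : GL chevF4.Idx F)⁻¹ * a * n)⁻¹ * ((n : GL chevF4.Idx F)⁻¹ * g * n) := by
          rw [← hab']; group
        have h2 := C.conj_invRoots_mem_neg hact' b b.2
        rw [inv_inv] at h2
        refine (Subgroup.eq_bot_iff_forall _).1 C.borel_inf_negUnipotent _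
          (Subgroup.mem_inf.2 ⟨?_, h2⟩)
        rw [h1]
        exact le_sup_left (b := chevF4.diagonalSubgroup F) (mul_mem (inv_mem hna) hngU)
      have hb1 : (b : GL chevF4.Idx F) = 1 := by
        have := congrArg (fun z => (n : GL chevF4.Idx F) * z * (n : GL chevF4.Idx F)⁻¹) hnb
        simpa [mul_assoc] using this
      have hgA : g ∈ C.Ucl {r | r ∈ LS} := by
        rw [← hab', hb1, mul_one]; exact a.2
      obtain ⟨l, hl, hle⟩ := hsub hLS (keepList_sorted w) hcl (π x) hgA
      rcases (hc ((ev yW l)⁻¹ * x)).1 (by rw [map_mul, map_inv, hle, inv_mul_cancel]) with h | h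
      · rw [← inv_mul_eq_one.1 h]
        exact ev_mem_gens yW cW fun a ha => hl.subset ha
      · rw [show x = ev yW l * cW by rw [← h, mul_inv_cancel_left]]
        exact mul_mem (ev_mem_gens yW cW fun a ha => hl.subset ha) (c_mem_gens LS yW cW)
    let ι : ↥(Vsub n) →* ↥(gens LS yW cW) :=
      { toFun := fun x => ⟨x.1, hle _ x.2⟩, map_one' := rfl, map_mul' := fun _ _ => rfl }
    let lhs : ↥(gens LS yW cW) →* ↥(chevF4.group F) := U.subtype.comp (π.comp φ)
    let rhs : ↥(gens LS yW cW) →* ↥(chevF4.group F) :=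
      (MulAut.conj n⁻¹).toMonoidHom.comp (U.subtype.comp (π.comp (gens LS yW cW).subtype))
    have hlr : ∀ z, lhs z = rhs z := gens_top (lhs.eqLocus rhs) (by
        show ((π (φ _) : U) : ↥(chevF4.group F)) = n⁻¹ * ((π cW : U) : ↥(chevF4.group F)) * n⁻¹⁻¹
        rw [hφc, hπcW]; simp)
      (fun a ha => by
        show ((π (φ _) : U) : ↥(chevF4.group F)) = n⁻¹ * ((π (yW a) : U) : ↥(chevF4.group F)) * n⁻¹⁻¹
        rw [hφy a ha, inv_inv]
        show π₀ (yW (permIdx w a)) = n⁻¹ * π₀ (yW a) * n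
        rw [hyW a (hLS.subset ha), hyW _ (hmem a ha)]
        exact Subtype.ext (hconj a (hLS.subset ha)).symm)
    refine ⟨φ.comp ι, fun x => ?_, fun x hx => ?_⟩
    · have h := hlr (ι x)
      show lhs (ι x) = _
      rw [h]
      show n⁻¹ * ((π x.1 : U) : ↥(chevF4.group F)) * n⁻¹⁻¹ = _
      rw [inv_inv]
    · show φ (ι x) = cW
      rw [show ι x = ⟨cW, c_mem_gens LS yW cW⟩ from Subtype.ext hx, hφc]
  have hall : ∀ g, Stable g := by
    intro g
    obtain ⟨w, hw, b, hb, n, hn, hmv, u, hu, hg⟩ := C.normalForm_exists g.2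
    rw [borel_eq hF C] at hb
    have hu' : u ∈ chevF4.posUnipotent F := borel_eq hF C ▸ C.Ucl_invRoots_le w hu
    obtain ⟨n', hn', hact⟩ := C.exists_rep hw
    have hnn : n = n' := by
      have h1 : n * n'⁻¹ ∈ chevF4.diagonalSubgroup F := by
        refine C.mem_diagonal_of_moves_one (mul_mem hn (inv_mem (C.rep_mem_monomial hn'))) ?_
        simpa using ChevCore.Moves.mul C hmv (ChevCore.Moves.inv C (C.rep_mem_monomial hn') (ChevCore.Acts.moves C hact))
      rw [diagonal_eq_bot hF C, Subgroup.mem_bot, mul_inv_eq_one] at h1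
      exact h1
    have hnG : n ∈ chevF4.group F := C.monomial_le_group hn
    have hbG : b ∈ chevF4.group F :=
      C.borel_le_group (le_sup_left (b := chevF4.diagonalSubgroup F) hb)
    have huG : u ∈ chevF4.group F :=
      C.borel_le_group (le_sup_left (b := chevF4.diagonalSubgroup F) hu')
    obtain ⟨wb, hwb⟩ := hπsurj ⟨⟨b, hbG⟩, hb⟩
    obtain ⟨wu, hwu⟩ := hπsurj ⟨⟨u, huG⟩, hu'⟩
    have hgeq : g = (π wb : ↥(chevF4.group F)) * ⟨n, hnG⟩ * (π wu : ↥(chevF4.group F)) := by
      rw [hwb, hwu]; exact Subtype.ext hg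
    rw [hgeq]
    refine hright _ _ (hleft _ _ (hmono ⟨n, hnG⟩ w⁻¹ ?_))
    show C.Acts n⁻¹ w⁻¹
    rw [hnn]
    exact ChevCore.Acts.inv C hact
  refine Transfer.exists_stem hperf U (index_odd hF) π hπsurj cW hc1 hc hcc hall fun ρ => ?_
  obtain ⟨t1, t2, t3, o1, o2, o3⟩ := nonsplit_roots
  have hm : ∀ a ∈ [24, 25, 29, 33, 35, 36, 42, 43], a ∈ posList := by decide +kernel
  have single : ∀ a b k, a ∈ posList → b ∈ posList → ok b a = true → tab b a = [k] →
      ρ (yW k) = 1 := by
    intro a b k ha hb hok htab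
    have h := congrArg ρ (hSW.swap a ha b hb hok)
    rw [show twist b a = 0 by simp [twist, htab]] at h
    simp only [map_mul, htab, ev_cons, ev_nil, pow_zero, mul_one, map_one] at h
    rw [mul_comm (ρ (yW a)) (ρ (yW b))] at h
    exact mul_eq_left.1 h.symm
  have h := congrArg ρ (hSW.swap 24 (hm _ (by simp)) 35 (hm _ (by simp)) o1)
  simp only [map_mul, t1, ev_cons, ev_nil, twist, List.length_cons, List.length_nil, pow_one,
    if_true, map_one, mul_one, zero_add, Nat.reduceAdd] at h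
  rw [single 29 33 36 (hm _ (by simp)) (hm _ (by simp)) o2 t2,
    single 25 42 43 (hm _ (by simp)) (hm _ (by simp)) o3 t3, one_mul, mul_one,
    mul_comm (ρ (yW 24)) (ρ (yW 35))] at h
  exact mul_eq_left.1 h.symm

end CfsgLib.Schur.F4Two
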