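import Cfsg.Agent.Lib.Schur.F4Two.UpperCheck
import Cfsg.Agent.Lib.Schur.F4Two.GroupSide
import Cfsg.Agent.S1078
import Cfsg.Prelude.Def_KGroupFacts

/-!
The upper bound on the multiplier of F₄(2): in a stem extension the lifted root elements satisfy
the twisted rules, so modulo one central involution they satisfy Steinberg's relations.
-/

set_option autoImplicit false
set_option maxRecDepth 100000

namespace CfsgLib.Schur.F4Two

open Cfsg Cfsg.Lie CfsgLib.ChevStr

universe u v

variable {F : Type u} [Field F] [Fintype F] (hF : Fintype.card F = 2)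

theorem dec_check : (List.range 48).all (fun k =>
    let d := decList.getD k (0, 0, 0)
    Nat.beq d.1 k && ok d.2.2 d.2.1 && (tab d.2.2 d.2.1 == [k])) = true ∧
    decList.all (fun d => decList.getD d.1 (0, 0, 0) == d) = true := by
  decide +kernel

theorem dec_spec {k : ℕ} (hk : k < 48) :
    ok (decList.getD k (0, 0, 0)).2.2 (decList.getD k (0, 0, 0)).2.1 = true ∧
      tab (decList.getD k (0, 0, 0)).2.2 (decList.getD k (0, 0, 0)).2.1 = [k] := by
  have h := List.all_eq_true.1 dec_check.1 k (List.mem_range.2 hk)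
  simp only [Bool.and_eq_true, beq_iff_eq] at h
  exact ⟨h.1.2, h.2⟩

theorem comm_central {Γ : Type*} [Group Γ] {p q : Γ} (hp : ∀ g, p * g = g * p)
    (hq : ∀ g, q * g = g * q) (x y : Γ) :
    (y * q * (x * p))⁻¹ * (x * p * (y * q)) = (y * x)⁻¹ * (x * y) := by
  have hc : ∀ (p q : Γ), (∀ g, p * g = g * p) → (∀ g, q * g = g * q) → ∀ a b : Γ,
      a * p * (b * q) = p * q * (a * b) := fun p q hp hq a b => by
    rw [← hp a, ← hq b, show p * a * (q * b) = p * (a * q) * b by group, ← hq a]
    group
  rw [hc q p hq hp y x, hc p q hp hq x y, hp q]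
  group

include hF in
/-- The kernel of a stem extension is generated by an element squaring to the identity. -/
theorem exists_gen {Γ : Type v} [Group Γ] (σ : Γ →* ↥(chevF4.group F)) (hσ : IsStemExtension σ) :
    ∃ z ∈ σ.ker, z * z = 1 ∧ σ.ker ≤ Subgroup.zpowers z := by
  classical
  let C : ChevCore chevF4 F := chevCore (by simp) F
  have hz : ∀ x, σ x = 1 → ∀ g, x * g = g * x := fun x hx g =>
    (Subgroup.mem_center_iff.1 (hσ.2.1 hx) g).symm
  let yl : ℕ → Γ := fun a => Function.surjInv hσ.1 (gx C a)
  have hyl : ∀ a, σ (yl a) = gx C a := fun a => Function.surjInv_eq hσ.1 _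
  let X : ℕ → Γ := fun k =>
    let d := decList.getD k (0, 0, 0)
    if k < 48 then (yl d.2.2 * yl d.2.1)⁻¹ * (yl d.2.1 * yl d.2.2) else 1
  have hG := sat_gx hF C
  have hX : ∀ k < 48, σ (X k) = gx C k := by
    intro k hk
    obtain ⟨h1, h2⟩ := dec_spec hk
    obtain ⟨hb, ha⟩ := ok_lt h1
    simp only [X, if_pos hk, map_mul, map_inv, hyl]
    rw [hG.swap _ (List.mem_range.2 ha) _ (List.mem_range.2 hb) h1, h2]
    simp [ev_cons, mul_assoc]
  let τ : ℕ → Γ := fun u =>
    if u / 48 = u % 48 ∧ u % 48 < 48 ∧ u / 48 < 48 then X (u % 48) * X (u % 48)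
    else if ok (u / 48) (u % 48) then
      (X (u / 48) * X (u % 48) * ev X (tab (u / 48) (u % 48)))⁻¹ * (X (u % 48) * X (u / 48))
    else 1
  have hτ : ∀ u, σ (τ u) = 1 := by
    intro u
    simp only [τ]
    split
    · next h =>
      rw [map_mul, hX _ h.2.1]
      exact hG.sq _ (List.mem_range.2 h.2.1)
    · split
      · next h =>
        obtain ⟨hb, ha⟩ := ok_lt h
        have e : σ (ev X (tab (u / 48) (u % 48))) = ev (gx C) (tab (u / 48) (u % 48)) := by
          rw [map_ev σ X]
          exact ev_congr fun m hm => hX m ((tab_facts h).2.1 m hm)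
        rw [map_mul, map_inv, map_mul, map_mul, map_mul, hX _ ha, hX _ hb, e,
          hG.swap _ (List.mem_range.2 ha) _ (List.mem_range.2 hb) h, one_pow, mul_one,
          inv_mul_cancel]
      · exact map_one σ
  have hT : Tailed X τ := by
    refine ⟨fun u g => hz _ (hτ u) g, fun a ha => ?_, fun a b hok => ?_⟩
    · have h1 : (49 * a) / 48 = a := by omega
      have h2 : (49 * a) % 48 = a := by omega
      simp only [τ, h1, h2, ha, and_self, if_true]
    · obtain ⟨hb, ha⟩ := ok_lt hok
      have h1 : (48 * b + a) / 48 = b := by omega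
      have h2 : (48 * b + a) % 48 = a := by omega
      have hne : b ≠ a := fun e => by subst e; simp [ok] at hok
      simp only [τ, h1, h2, hne, false_and, if_false, hok, if_true]
      rw [mul_inv_cancel_left]
  have h0 : ∀ d ∈ decList, τ (48 * d.2.2 + d.2.1) = 1 := by
    intro d hd
    have hd1 : decList.getD d.1 (0, 0, 0) = d :=
      beq_iff_eq.1 (List.all_eq_true.1 dec_check.2 d hd)
    have hk : d.1 < 48 := by
      have hstart := startOK_eq
      have hall : decList.all (fun d => Nat.blt d.1 48) = true := by decide +kernel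
      exact Nat.le_of_ble_eq_true (List.all_eq_true.1 hall d hd)
    obtain ⟨h1, h2⟩ := dec_spec hk
    rw [hd1] at h1 h2
    obtain ⟨hb, ha⟩ := ok_lt h1
    have e := hT.swap d.2.1 d.2.2 h1
    rw [h2] at e
    simp only [ev_cons, ev_nil, mul_one] at e
    have hXd : X d.1 = (yl d.2.2 * yl d.2.1)⁻¹ * (yl d.2.1 * yl d.2.2) := by
      simp only [X, hd1, if_pos hk]
    have hp : ∀ a, a < 48 → ∀ g, (yl a)⁻¹ * X a * g = g * ((yl a)⁻¹ * X a) := fun a ha g =>
      hz _ (by rw [map_mul, map_inv, hyl, hX a ha, inv_mul_cancel]) g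
    have key : (X d.2.2 * X d.2.1)⁻¹ * (X d.2.1 * X d.2.2) = X d.1 := by
      rw [hXd, show X d.2.1 = yl d.2.1 * ((yl d.2.1)⁻¹ * X d.2.1) by group,
        show X d.2.2 = yl d.2.2 * ((yl d.2.2)⁻¹ * X d.2.2) by group]
      exact comm_central (hp _ ha) (hp _ hb) _ _
    rw [e, mul_assoc (X d.2.2 * X d.2.1), inv_mul_cancel_left] at key
    exact mul_eq_left.1 key
  obtain ⟨hz2, hS⟩ := tails_eq hT h0
  set z := τ eVar
  refine ⟨z, hτ eVar, hz2, ?_⟩
  -- the lifts generate
  have hgen : ∀ x : Γ, x ∈ gens (List.range 48) X z := by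
    have hmap : (gens (List.range 48) X z).map σ = ⊤ := by
      refine top_le_iff.1 fun g _ => ?_
      obtain ⟨e, rfl⟩ := CfsgLib.ChevCover.groupHom_surjective C g
      induction e using PresentedGroup.induction_on with
      | _ w =>
        have hle : (⊤ : Subgroup (FreeGroup (Fin chevF4.nroots × F))) ≤
            ((gens (List.range 48) X z).map σ).comap
              ((CfsgLib.ChevCover.groupHom C).comp (PresentedGroup.mk (chevF4.steinbergRels F))) := by
          rw [← FreeGroup.closure_range_of, Subgroup.closure_le]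
          rintro _ ⟨⟨r, t⟩, rfl⟩
          show CfsgLib.ChevCover.groupHom C (PresentedGroup.of (rels := chevF4.steinbergRels F) (r, t)) ∈ (gens (List.range 48) X z).map σ
          rw [CfsgLib.ChevCover.groupHom, PresentedGroup.toGroup.of]
          rcases eq_zero_or_one hF t with rfl | rfl
          · rw [show CfsgLib.ChevCover.xG C r.val (0 : F) = 1 from Subtype.ext (C.xGL_zero _)]
            exact one_mem _
          · exact ⟨X r, mem_gens X z (List.mem_range.2 r.isLt), hX r r.isLt⟩
        exact hle (Subgroup.mem_top w)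
    have hdec : ∀ g : Γ, ∃ h ∈ gens (List.range 48) X z, ∃ q, σ q = 1 ∧ g = h * q := fun g => by
      obtain ⟨h, hh, e⟩ : σ g ∈ (gens (List.range 48) X z).map σ := hmap ▸ Subgroup.mem_top _
      exact ⟨h, hh, h⁻¹ * g, by rw [map_mul, map_inv, e, inv_mul_cancel], (mul_inv_cancel_left h g).symm⟩
    have hcomm : commutator Γ ≤ gens (List.range 48) X z := by
      rw [commutator_def, Subgroup.commutator_le]
      intro a _ b _
      obtain ⟨a', ha', p, hp, rfl⟩ := hdec a
      obtain ⟨b', hb', q, hq, rfl⟩ := hdec b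
      have e : a' * p * (b' * q) * (a' * p)⁻¹ * (b' * q)⁻¹ = a' * b' * a'⁻¹ * b'⁻¹ := by
        simp only [mul_inv_rev]
        rw [show a' * p * (b' * q) * (p⁻¹ * a'⁻¹) * (q⁻¹ * b'⁻¹) =
          a' * (p * (b' * q) * p⁻¹) * (a'⁻¹ * q⁻¹) * b'⁻¹ by group, hz p hp (b' * q),
          mul_inv_cancel_right, show a' * (b' * q) * (a'⁻¹ * q⁻¹) * b'⁻¹ =
            a' * b' * (q * a'⁻¹ * q⁻¹) * b'⁻¹ by group, hz q hq, mul_inv_cancel_right]
      rw [commutatorElement_def, e]
      exact mul_mem (mul_mem (mul_mem ha' hb') (inv_mem ha')) (inv_mem hb')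
    intro x
    obtain ⟨h, hh, q, hq, rfl⟩ := hdec x
    exact mul_mem hh (hcomm (hσ.2.2 hq))
  have hZn : (Subgroup.zpowers z).Normal :=
    ⟨fun n hn g => by
      obtain ⟨m, rfl⟩ := Subgroup.mem_zpowers_iff.1 hn
      rw [show g * z ^ m * g⁻¹ = z ^ m from by
        rw [← ((show Commute z g from hz z (hτ eVar) g).zpow_left m).eq, mul_inv_cancel_right]]
      exact Subgroup.mem_zpowers_iff.2 ⟨m, rfl⟩⟩
  let Q := Γ ⧸ Subgroup.zpowers z
  let mk : Γ →* Q := QuotientGroup.mk' _
  have hmkz : mk z = 1 := (QuotientGroup.eq_one_iff z).2 (Subgroup.mem_zpowers z)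
  let xq : Fin chevF4.nroots × F → Q := fun p => if p.2 = 0 then 1 else mk (X p.1.val)
  have hsq : ∀ r < 48, mk (X r) * mk (X r) = 1 := fun r hr => by
    rw [← map_mul, hS.sq r (List.mem_range.2 hr), map_one]
  have hst : ∀ (r : ℕ) (t : F), r < 48 →
      FreeGroup.lift xq (chevF4.stX r t) = if t = 0 then 1 else mk (X r) := fun r t hr => by
    rw [ChevalleyDatum.stX, dif_pos (show r < chevF4.nroots from hr), FreeGroup.lift_apply_of]
  have hinv1 : ∀ r < 48, (mk (X r))⁻¹ = mk (X r) := fun r hr =>
    inv_eq_of_mul_eq_one_right (hsq r hr)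
  have hword : ∀ l : List (ℕ × ℤ × ℕ × ℕ), (∀ c ∈ l, c.1 < 48) →
      FreeGroup.lift xq (chevF4.stWord (l.map fun c =>
        (c.1, (c.2.1 : F) * (-(1 : F)) ^ c.2.2.1 * (1 : F) ^ c.2.2.2))) =
        mk (ev X ((l.filter fun c => decide (c.2.1 % 2 = 1)).map fun c => c.1)) := by
    intro l hl
    induction l with
    | nil => simp [ChevalleyDatum.stWord]
    | cons c l ih =>
      have ih' := ih fun d hd => hl d (List.mem_cons_of_mem _ hd)
      simp only [ChevalleyDatum.stWord, List.map_cons, List.prod_cons, map_mul] at ih' ⊢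
      rw [hst _ _ (hl c (List.mem_cons_self ..)), ih', intCast_eq hF, neg_one_eq hF, one_pow,
        one_pow, mul_one, mul_one]
      by_cases h : c.2.1 % 2 = 1
      · rw [if_pos h, if_neg one_ne_zero, List.filter_cons_of_pos (by simpa using h), List.map_cons,
          ev_cons, map_mul]
      · rw [if_neg h, if_pos rfl, one_mul, List.filter_cons_of_neg (by simpa using h)]
  have hrels : ∀ g ∈ chevF4.steinbergRels F, FreeGroup.lift xq g = 1 := by
    rintro g ((⟨r, t, u, hr, rfl⟩ | ⟨r, s, t, u, hr, hs, h1, h2, rfl⟩) | ⟨r, t, u, hr, ht, hu, rfl⟩)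
    · have hr' : r < 48 := hr
      simp only [map_mul, map_inv, hst _ _ hr']
      rcases eq_zero_or_one hF t with rfl | rfl <;> rcases eq_zero_or_one hF u with rfl | rfl <;>
        simp [one_add_one_eq_two, two_eq_zero hF, hsq r hr']
    · have hr' : r < 48 := hr
      have hs' : s < 48 := hs
      rcases eq_zero_or_one hF t with rfl | rfl
      · have : chevF4.stWord (chevF4.commWord F r s 0 u) ∈
            ((FreeGroup.lift xq).ker : Subgroup _) := by
          refine Subgroup.list_prod_mem _ fun x hx => ?_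
          simp only [ChevalleyDatum.commWord, List.map_map, List.mem_map, Function.comp] at hx
          obtain ⟨c, hc, rfl⟩ := hx
          obtain ⟨hk, hi, -, -⟩ := C.R.commTerms_spec hc
          rw [MonoidHom.mem_ker, hst _ _ hk, if_pos (by simp [zero_pow (Nat.pos_iff_ne_zero.1 hi)])]
        rw [MonoidHom.mem_ker] at this
        simp [map_mul, map_inv, hst _ _ hr', hst _ _ hs', this] <;> split_ifs <;> simp
      rcases eq_zero_or_one hF u with rfl | rfl
      · have : chevF4.stWord (chevF4.commWord F r s 1 0) ∈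
            ((FreeGroup.lift xq).ker : Subgroup _) := by
          refine Subgroup.list_prod_mem _ fun x hx => ?_
          simp only [ChevalleyDatum.commWord, List.map_map, List.mem_map, Function.comp] at hx
          obtain ⟨c, hc, rfl⟩ := hx
          obtain ⟨hk, -, hj, -⟩ := C.R.commTerms_spec hc
          rw [MonoidHom.mem_ker, hst _ _ hk, if_pos (by simp [zero_pow (Nat.pos_iff_ne_zero.1 hj)])]
        rw [MonoidHom.mem_ker] at this
        simp [map_mul, map_inv, hst _ _ hr', hst _ _ hs', this] <;> split_ifs <;> simp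
      · have hok : ok r s = true := by
          rw [neg_eq r hr'] at h2
          have e1 : Nat.beq s r = false := Bool.eq_false_iff.2 fun e => h1 (Nat.eq_of_beq_eq_true e)
          have e2 : Nat.beq s (ng r) = false :=
            Bool.eq_false_iff.2 fun e => h2 (Nat.eq_of_beq_eq_true e)
          simp [ok, hr', hs', e1, e2]
        have hw := hword (chevF4.commTerms r s) fun c hc => (C.R.commTerms_spec hc).1
        rw [tab_eq r hr' s hs' hok] at hw
        simp only [map_mul, map_inv, hst _ _ hr', hst _ _ hs', one_ne_zero, if_false,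
          ChevalleyDatum.commWord]
        rw [hw, hinv1 r hr', hinv1 s hs']
        have e := congrArg mk (hS.swap s (List.mem_range.2 hs') r (List.mem_range.2 hr') hok)
        simp only [map_mul, map_pow, hmkz, one_pow, mul_one] at e
        rw [mul_inv_eq_one, mul_assoc (mk (X s) * mk (X r))]
        nth_rewrite 2 [e]
        simp only [← mul_assoc]
        rw [show mk (X s) * mk (X r) * mk (X r) * mk (X s) = 1 by
          rw [mul_assoc (mk (X s)), hsq r hr', mul_one, hsq s hs'], one_mul]
    · have hr' : r < 48 := hr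
      have ht1 : t = 1 := (eq_zero_or_one hF t).resolve_left ht
      have hu1 : u = 1 := (eq_zero_or_one hF u).resolve_left hu
      subst ht1 hu1
      have hn : chevF4.neg r < 48 := by rw [neg_eq r hr']; exact Nat.lt_succ_of_le (Nat.sub_le _ _)
      have hH : FreeGroup.lift xq (chevF4.stH r (1 : F)) = 1 := by
        simp only [ChevalleyDatum.stH, ChevalleyDatum.stWord, ChevalleyDatum.hWord,
          ChevalleyDatum.nWord, List.map_cons, List.map_nil, List.map_append, List.prod_append,
          List.prod_cons, List.prod_nil, mul_one, map_mul, inv_one, neg_one_eq hF, hst _ _ hr',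
          hst _ _ hn, one_ne_zero, if_false]
        rw [show ∀ a b : Q, a * (b * a) * (a * (b * a)) = a * (b * (a * a) * b) * a from
          fun a b => by group, hsq r hr', mul_one, hsq _ hn, mul_one, hsq r hr']
      simp [map_mul, map_inv, hH]
  let θ : chevF4.SteinbergGroup F →* Q := PresentedGroup.toGroup hrels
  let σb : Q →* ↥(chevF4.group F) := QuotientGroup.lift _ σ (by
    rw [Subgroup.zpowers_le]; exact hτ eVar)
  have hcomp : σb.comp θ = CfsgLib.ChevCover.groupHom C := by
    refine PresentedGroup.ext fun p => ?_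
    obtain ⟨r, t⟩ := p
    simp only [MonoidHom.comp_apply, θ, CfsgLib.ChevCover.groupHom, PresentedGroup.toGroup.of, xq]
    rcases eq_zero_or_one hF t with rfl | rfl
    · rw [if_pos rfl, map_one]
      exact (Subtype.ext (C.xGL_zero _)).symm
    · rw [if_neg one_ne_zero]
      exact hX r r.isLt
  have hθ : Function.Surjective θ := by
    intro q
    obtain ⟨x, rfl⟩ := QuotientGroup.mk'_surjective _ q
    have hle : gens (List.range 48) X z ≤ θ.range.comap mk := by
      refine (Subgroup.closure_le _).2 ?_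
      intro g hg
      rcases hg with hg | ⟨a, ha, hg⟩ <;> rw [hg]
      · show mk z ∈ θ.range
        rw [hmkz]; exact one_mem _
      · refine ⟨PresentedGroup.of ((⟨a, List.mem_range.1 ha⟩ : Fin chevF4.nroots), (1 : F)), ?_⟩
        simp only [θ, PresentedGroup.toGroup.of, xq, if_neg one_ne_zero]
    exact hle (hgen x)
  have hinj : (CfsgLib.ChevCover.groupHom C).ker = ⊥ := by
    rw [CfsgLib.ChevCover.ker_groupHom_eq_center C
      (CfsgLib.ChevCover.hasNeighbours (D := chevF4) (by simp))]
    exact Cfsg.Agent.S1078.result (K := F) chevF4 (by simp)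
  intro x hx
  obtain ⟨e, he⟩ := hθ (mk x)
  have he1 : e = 1 := by
    rw [← Subgroup.mem_bot, ← hinj, MonoidHom.mem_ker, ← hcomp, MonoidHom.comp_apply, he]
    exact hx
  rw [he1, map_one] at he
  exact (QuotientGroup.eq_one_iff x).1 he.symm

end CfsgLib.Schur.F4Two
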