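import Cfsg.Agent.Lib.Schur.F4Two.Lower
import Cfsg.Agent.Lib.Schur.F4Two.Upper

/-! The Schur multiplier of F₄(2) is cyclic of order two. -/

set_option autoImplicit false

namespace CfsgLib.Schur.F4Two

open Cfsg Cfsg.Lie CfsgLib.ChevStr

universe u

theorem multiplier {F : Type u} [Field F] [Fintype F] (hF : Fintype.card F = 2) :
    HasCyclicSchurMultiplier ↥(chevF4.group F) 2 := by
  refine ⟨exists_cover hF (chevCore (by simp) F), fun Γ _ _ σ hσ => ?_⟩
  obtain ⟨z, hz, hz2, hle⟩ := exists_gen hF σ hσ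
  let zk : σ.ker := ⟨z, hz⟩
  have hzk : zk * zk = 1 := Subtype.ext hz2
  have hcases : ∀ i : Multiplicative (ZMod 2), i = 1 ∨ i = Multiplicative.ofAdd 1 := by decide
  have h11 : Multiplicative.ofAdd (1 : ZMod 2) * Multiplicative.ofAdd 1 = 1 := by decide
  have hne : Multiplicative.ofAdd (1 : ZMod 2) ≠ 1 := by decide
  let π : Multiplicative (ZMod 2) →* σ.ker :=
    MonoidHom.mk' (fun i => if i = 1 then 1 else zk) fun i j => by
      rcases hcases i with rfl | rfl <;> rcases hcases j with rfl | rfl <;>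
        simp [hne, h11, hzk]
  refine ⟨π, fun x => ?_⟩
  obtain ⟨m, hm⟩ := Subgroup.mem_zpowers_iff.1 (hle x.2)
  have hx : x ∈ π.range := by
    have h : x = zk ^ m := Subtype.ext (by rw [SubgroupClass.coe_zpow]; exact hm.symm)
    rw [h]
    exact zpow_mem (show zk ∈ π.range from
      ⟨Multiplicative.ofAdd 1, if_neg (t := (1 : σ.ker)) (e := zk) hne⟩) m
  exact hx

end CfsgLib.Schur.F4Two
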