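import Cfsg.Agent.Lib.Schur.F4Two.Tables
import Mathlib.Algebra.Group.Subgroup.Lattice
import Mathlib.Algebra.Group.Prod
import Mathlib.Algebra.BigOperators.Group.List.Basic
import Mathlib.Algebra.Group.Subgroup.Basic

/-!
Collection in the twisted commutator rules of the root system of type F₄ in characteristic two:
for a list of roots in which every rule moves forward, the ordered products form a subgroup, and
if they are distinct in one group the rules present that subgroup.
-/

set_option autoImplicit false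

namespace CfsgLib.Schur.F4Two

variable {H : Type*} [Group H]

/-- The value of a word. -/
def ev (y : ℕ → H) (w : List ℕ) : H := (w.map y).prod

@[simp] theorem ev_nil (y : ℕ → H) : ev y [] = 1 := rfl

theorem ev_cons (y : ℕ → H) (a : ℕ) (w : List ℕ) : ev y (a :: w) = y a * ev y w := by simp [ev]

theorem ev_append (y : ℕ → H) (v w : List ℕ) : ev y (v ++ w) = ev y v * ev y w := by simp [ev]

theorem ev_congr {y y' : ℕ → H} {w : List ℕ} (h : ∀ a ∈ w, y a = y' a) : ev y w = ev y' w := by
  rw [ev, ev, List.map_congr_left h]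

theorem map_ev {H' : Type*} [Group H'] (φ : H →* H') (y : ℕ → H) (w : List ℕ) :
    φ (ev y w) = ev (φ ∘ y) w := by
  rw [ev, ev, map_list_prod, List.map_map]

theorem commute_ev {y : ℕ → H} {c : H} : ∀ {w : List ℕ}, (∀ a ∈ w, c * y a = y a * c) →
    Commute c (ev y w)
  | [], _ => Commute.one_right c
  | a :: w, h => by
    rw [ev_cons]
    exact Commute.mul_right (h a (List.mem_cons_self ..))
      (commute_ev fun b hb => h b (List.mem_cons_of_mem _ hb))

/-- A list in which the rules only produce later roots. -/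
def Good : List ℕ → Prop
  | [] => True
  | k :: T => (∀ a ∈ T, ok k a = true ∧ ok a k = true ∧ ∀ m ∈ tab k a, m ∈ T) ∧ Good T

instance decidableGood : ∀ L, Decidable (Good L)
  | [] => inferInstanceAs (Decidable True)
  | k :: T =>
    have := decidableGood T
    inferInstanceAs (Decidable (_ ∧ _))

theorem Good.closed : ∀ {L : List ℕ}, Good L → ∀ a ∈ L, ∀ b ∈ L, a ≠ b →
    ok a b = true ∧ ∀ m ∈ tab a b, m ∈ L
  | [], _, a, ha, _, _, _ => absurd ha List.not_mem_nil
  | k :: T, hL, a, ha, b, hb, hab => by
    obtain ⟨hk, hT⟩ := hL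
    rcases List.mem_cons.1 ha with h1 | h1 <;> rcases List.mem_cons.1 hb with h2 | h2
    · exact absurd (h1.trans h2.symm) hab
    · subst h1
      exact ⟨(hk b h2).1, fun m hm => List.mem_cons_of_mem _ ((hk b h2).2.2 m hm)⟩
    · subst h2
      exact ⟨(hk a h1).2.1, fun m hm => List.mem_cons_of_mem _
        ((hk a h1).2.2 m (by rw [← (tab_facts (hk a h1).2.1).1]; exact hm))⟩
    · exact ⟨(hT.closed a h1 b h2 hab).1, fun m hm =>
        List.mem_cons_of_mem _ ((hT.closed a h1 b h2 hab).2 m hm)⟩

theorem Good.filter {p : ℕ → Bool} : ∀ {L : List ℕ}, Good L →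
    (∀ a ∈ L, ∀ b ∈ L, p a = true → p b = true → ∀ m ∈ tab a b, p m = true) → Good (L.filter p)
  | [], _, _ => by simp [Good]
  | k :: T, hL, h => by
    have hT : Good (T.filter p) := hL.2.filter fun a ha b hb =>
      h a (List.mem_cons_of_mem _ ha) b (List.mem_cons_of_mem _ hb)
    by_cases hp : p k = true
    · rw [List.filter_cons_of_pos hp]
      refine ⟨fun a ha => ?_, hT⟩
      obtain ⟨ha, hpa⟩ := List.mem_filter.1 ha
      exact ⟨(hL.1 a ha).1, (hL.1 a ha).2.1, fun m hm => List.mem_filter.2 ⟨(hL.1 a ha).2.2 m hm,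
        h k (List.mem_cons_self ..) a (List.mem_cons_of_mem _ ha) hp hpa m hm⟩⟩
    · rw [List.filter_cons_of_neg hp]
      exact hT

/-- The twisted rules on a list of roots. -/
structure Sat (L : List ℕ) (y : ℕ → H) (c : H) : Prop where
  c_sq : c * c = 1
  c_comm : ∀ a ∈ L, c * y a = y a * c
  sq : ∀ a ∈ L, y a * y a = 1
  swap : ∀ a ∈ L, ∀ b ∈ L, ok b a = true →
    y a * y b = y b * y a * ev y (tab b a) * c ^ twist b a

theorem Sat.mono {L L' : List ℕ} {y : ℕ → H} {c : H} (h : Sat L y c) (hL : ∀ a ∈ L', a ∈ L) :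
    Sat L' y c :=
  ⟨h.c_sq, fun a ha => h.c_comm a (hL a ha), fun a ha => h.sq a (hL a ha),
    fun a ha b hb => h.swap a (hL a ha) b (hL b hb)⟩

theorem Sat.prod {H' : Type*} [Group H'] {L : List ℕ} {y : ℕ → H} {c : H} {y' : ℕ → H'} {c' : H'}
    (h : Sat L y c) (h' : Sat L y' c') : Sat L (fun a => (y a, y' a)) (c, c') := by
  have e : ∀ w : List ℕ, ev (fun a => (y a, y' a)) w = (ev y w, ev y' w) := fun w => by
    induction w with
    | nil => rfl
    | cons a w ih => rw [ev_cons, ih, ev_cons, ev_cons]; rfl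
  exact ⟨Prod.ext h.c_sq h'.c_sq, fun a ha => Prod.ext (h.c_comm a ha) (h'.c_comm a ha),
    fun a ha => Prod.ext (h.sq a ha) (h'.sq a ha), fun a ha b hb hok => by
      rw [e, Prod.pow_mk]; exact Prod.ext (h.swap a ha b hb hok) (h'.swap a ha b hb hok)⟩

/-- The ordered products, up to the central involution. -/
def NF (L : List ℕ) (y : ℕ → H) (c : H) : Set H :=
  {g | ∃ l : List ℕ, l.Sublist L ∧ ∃ n : ℕ, g = c ^ n * ev y l}

theorem left_mul_c {L : List ℕ} {y : ℕ → H} {c g : H} (hg : g ∈ NF L y c) (m : ℕ) :
    c ^ m * g ∈ NF L y c := by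
  obtain ⟨l, hl, n, rfl⟩ := hg
  exact ⟨l, hl, m + n, by rw [pow_add, mul_assoc]⟩

theorem left_mul : ∀ {L : List ℕ} {y : ℕ → H} {c : H}, Good L → Sat L y c →
    ∀ g ∈ NF L y c, ∀ a ∈ L, y a * g ∈ NF L y c
  | [], _, _, _, _, _, _, a, ha => absurd ha List.not_mem_nil
  | k :: T, y, c, hL, hS, g, ⟨l, hl, n, hg⟩, a, ha => by
    have hST : Sat T y c := hS.mono fun b hb => List.mem_cons_of_mem _ hb
    have hcn : ∀ b ∈ k :: T, y b * c ^ n = c ^ n * y b := fun b hb =>
      ((show Commute c (y b) from hS.c_comm b hb).pow_left n).eq.symm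
    subst hg
    rw [← mul_assoc, hcn a ha, mul_assoc]
    apply left_mul_c
    have up : ∀ {h : H}, h ∈ NF T y c → h ∈ NF (k :: T) y c := by
      rintro h ⟨l', hl', n', rfl⟩
      exact ⟨l', hl'.cons k, n', rfl⟩
    have upk : ∀ {h : H}, h ∈ NF T y c → y k * h ∈ NF (k :: T) y c := by
      rintro h ⟨l', hl', n', rfl⟩
      refine ⟨k :: l', hl'.cons_cons k, n', ?_⟩
      rw [ev_cons, ← mul_assoc, ← mul_assoc,
        ((show Commute c (y k) from hS.c_comm k (List.mem_cons_self ..)).pow_left n').eq]
    have hmul : ∀ (w : List ℕ), (∀ m ∈ w, m ∈ T) → ∀ h ∈ NF T y c, ev y w * h ∈ NF T y c := by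
      intro w hw h hh
      induction w with
      | nil => simpa using hh
      | cons b w ih =>
        rw [ev_cons, mul_assoc]
        exact left_mul hL.2 hST _ (ih fun m hm => hw m (List.mem_cons_of_mem _ hm)) b
          (hw b (List.mem_cons_self ..))
    cases hl with
    | cons _ hl' =>
      have hlT : ev y l ∈ NF T y c := ⟨l, hl', 0, by simp⟩
      rcases List.mem_cons.1 ha with rfl | ha
      · exact upk hlT
      · exact up (left_mul hL.2 hST _ hlT a ha)
    | cons_cons _ hl' =>
      rename_i l'
      have hlT : ev y l' ∈ NF T y c := ⟨l', hl', 0, by simp⟩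
      rw [ev_cons, ← mul_assoc]
      rcases List.mem_cons.1 ha with rfl | ha
      · rw [hS.sq a (List.mem_cons_self ..), one_mul]
        exact up hlT
      · rw [hS.swap a (List.mem_cons_of_mem _ ha) k (List.mem_cons_self ..) (hL.1 a ha).1]
        simp only [mul_assoc]
        apply upk
        apply left_mul hL.2 hST _ _ a ha
        exact hmul _ (hL.1 a ha).2.2 _ (left_mul_c hlT _)

/-- The generators. -/
def gens (L : List ℕ) (y : ℕ → H) (c : H) : Subgroup H :=
  Subgroup.closure (insert c {g | ∃ a ∈ L, g = y a})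

theorem mem_gens {L : List ℕ} (y : ℕ → H) (c : H) {a : ℕ} (ha : a ∈ L) : y a ∈ gens L y c :=
  Subgroup.subset_closure (Set.mem_insert_of_mem _ ⟨a, ha, rfl⟩)

theorem c_mem_gens (L : List ℕ) (y : ℕ → H) (c : H) : c ∈ gens L y c :=
  Subgroup.subset_closure (Set.mem_insert _ _)

theorem ev_mem_gens {L : List ℕ} (y : ℕ → H) (c : H) {w : List ℕ} (hw : ∀ a ∈ w, a ∈ L) :
    ev y w ∈ gens L y c :=
  Subgroup.list_prod_mem _ fun x hx => by
    obtain ⟨a, ha, rfl⟩ := List.mem_map.1 hx
    exact mem_gens y c (hw a ha)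

theorem mem_NF_of_gens {L : List ℕ} {y : ℕ → H} {c : H} (hL : Good L) (hS : Sat L y c) {g : H}
    (hg : g ∈ gens L y c) : g ∈ NF L y c := by
  refine Subgroup.closure_induction_left (p := fun g _ => g ∈ NF L y c)
    ⟨[], List.nil_sublist L, 0, by simp⟩ ?_ ?_ hg
  · rintro x hx z - hz
    rcases hx with rfl | ⟨a, ha, rfl⟩
    · simpa using left_mul_c hz 1
    · exact left_mul hL hS z hz a ha
  · rintro x hx z - hz
    rcases hx with rfl | ⟨a, ha, rfl⟩
    · rw [inv_eq_of_mul_eq_one_right hS.c_sq]
      simpa using left_mul_c hz 1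
    · rw [inv_eq_of_mul_eq_one_right (hS.sq a ha)]
      exact left_mul hL hS z hz a ha

theorem exists_nf {L : List ℕ} {y : ℕ → H} {c : H} (hL : Good L) (hS : Sat L y c) {g : H}
    (hg : g ∈ gens L y c) : ∃ l : List ℕ, l.Sublist L ∧ ∃ ε : Bool,
      g = (if ε then c else 1) * ev y l := by
  obtain ⟨l, hl, n, rfl⟩ := mem_NF_of_gens hL hS hg
  refine ⟨l, hl, decide (n % 2 = 1), ?_⟩
  rw [← Nat.div_add_mod n 2, pow_add, pow_mul, sq, hS.c_sq, one_pow, one_mul]
  rcases Nat.mod_two_eq_zero_or_one n with h | h <;> simp [h]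

/-- The ordered products are distinct. -/
def Inj (L : List ℕ) (y : ℕ → H) (c : H) : Prop :=
  ∀ l l' : List ℕ, l.Sublist L → l'.Sublist L → ∀ ε ε' : Bool,
    (if ε then c else 1) * ev y l = (if ε' then c else 1) * ev y l' → ε = ε' ∧ l = l'

/-- Where the ordered products are distinct the rules are a presentation. -/
theorem universal {H' : Type*} [Group H'] {L : List ℕ} {y : ℕ → H} {c : H} {y' : ℕ → H'}
    {c' : H'} (hL : Good L) (hS : Sat L y c) (hI : Inj L y c) (hS' : Sat L y' c') :
    ∃ φ : ↥(gens L y c) →* H', (∀ a (ha : a ∈ L), φ ⟨y a, mem_gens y c ha⟩ = y' a) ∧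
      φ ⟨c, c_mem_gens L y c⟩ = c' := by
  let K := gens L (fun a => (y a, y' a)) (c, c')
  let f : K →* gens L y c := ((MonoidHom.fst H H').comp K.subtype).codRestrict _ fun x => by
    have hle : K ≤ (gens L y c).comap (MonoidHom.fst H H') := by
      refine (Subgroup.closure_le _).2 ?_
      intro z hz
      rcases hz with hz | ⟨a, ha, hz⟩ <;> rw [hz]
      · exact c_mem_gens L y c
      · exact mem_gens y c ha
    exact hle x.2
  have hsurj : Function.Surjective f := by
    intro x
    have hle : gens L y c ≤ K.map (MonoidHom.fst H H') := by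
      refine (Subgroup.closure_le _).2 ?_
      intro z hz
      rcases hz with hz | ⟨a, ha, hz⟩ <;> rw [hz]
      · exact ⟨(c, c'), c_mem_gens _ _ _, rfl⟩
      · exact ⟨(y a, y' a), mem_gens _ _ ha, rfl⟩
    obtain ⟨z, hz, e⟩ := hle x.2
    exact ⟨⟨z, hz⟩, Subtype.ext e⟩
  have hinj : Function.Injective f := by
    refine (injective_iff_map_eq_one f).2 fun x hx => Subtype.ext ?_
    have h1 : (x : H × H').1 = 1 := congrArg Subtype.val hx
    obtain ⟨l, hl, ε, hx'⟩ := exists_nf hL (hS.prod hS') x.2
    have h2 : (if ε then c else 1) * ev y l = (if false = true then c else 1) * ev y [] := by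
      have e1 : ev y l = (ev (fun a => (y a, y' a)) l).1 :=
        (map_ev (MonoidHom.fst H H') (fun a => (y a, y' a)) l).symm
      rw [hx'] at h1
      cases ε <;> simpa [e1] using h1
    obtain ⟨rfl, rfl⟩ := hI l [] hl (List.nil_sublist L) ε false h2
    simpa using hx'
  let g := (MulEquiv.ofBijective f ⟨hinj, hsurj⟩).symm
  refine ⟨((MonoidHom.snd H H').comp K.subtype).comp g.toMonoidHom, fun a ha => ?_, ?_⟩
  · have : g ⟨y a, mem_gens y c ha⟩ = ⟨(y a, y' a), mem_gens (fun a => (y a, y' a)) (c, c') ha⟩ :=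
      (MulEquiv.symm_apply_eq _).2 rfl
    show ((g _ : K) : H × H').2 = _
    rw [this]
  · have : g ⟨c, c_mem_gens L y c⟩ = ⟨(c, c'), c_mem_gens _ _ _⟩ :=
      (MulEquiv.symm_apply_eq _).2 rfl
    show ((g _ : K) : H × H').2 = _
    rw [this]

/-- Left multiplication of a sorted word by a word, with fuel. -/
def mulNF : ℕ → List ℕ → List ℕ → Option (List ℕ × ℕ)
  | 0, _, _ => none
  | _ + 1, [], g => some (g, 0)
  | f + 1, a :: w, g =>
    match mulNF f w g with
    | none => none
    | some ([], e) => some ([a], e)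
    | some (k :: z, e) =>
      if Nat.blt a k then some (a :: k :: z, e)
      else if Nat.beq a k then some (z, e)
      else if ok k a then
        match mulNF f (a :: tab k a) z with
        | none => none
        | some (z', e') => some (k :: z', e + e' + twist k a)
      else none

theorem mulNF_sound {L : List ℕ} {y : ℕ → H} {c : H} (hL : Good L) (hS : Sat L y c) :
    ∀ (f : ℕ) (w g g' : List ℕ) (e : ℕ), (∀ a ∈ w, a ∈ L) → (∀ a ∈ g, a ∈ L) →
      mulNF f w g = some (g', e) → (∀ a ∈ g', a ∈ L) ∧ ev y w * ev y g = c ^ e * ev y g' := by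
  intro f
  induction f with
  | zero => intro w g g' e _ _ h; simp [mulNF] at h
  | succ f ih =>
    intro w g g' e hw hg h
    cases w with
    | nil =>
      simp only [mulNF, Option.some.injEq, Prod.mk.injEq] at h
      obtain ⟨rfl, rfl⟩ := h
      exact ⟨hg, by simp⟩
    | cons a w =>
      have ha : a ∈ L := hw a (List.mem_cons_self ..)
      have hac : ∀ n : ℕ, y a * c ^ n = c ^ n * y a := fun n =>
        ((show Commute c (y a) from hS.c_comm a ha).pow_left n).eq.symm
      simp only [mulNF] at h
      split at h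
      · simp at h
      · next e₁ h1 =>
        obtain ⟨-, e1⟩ := ih w g _ _ (fun b hb => hw b (List.mem_cons_of_mem _ hb)) hg h1
        simp only [Option.some.injEq, Prod.mk.injEq] at h
        obtain ⟨rfl, rfl⟩ := h
        refine ⟨fun b hb => by rw [List.mem_singleton] at hb; subst hb; exact ha, ?_⟩
        rw [ev_cons, mul_assoc, e1, ← mul_assoc, hac, mul_assoc, ev_cons]
      · next k z e₁ h1 =>
        obtain ⟨hkz, e1⟩ := ih w g _ _ (fun b hb => hw b (List.mem_cons_of_mem _ hb)) hg h1
        have hk : k ∈ L := hkz k (List.mem_cons_self ..)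
        have hz : ∀ b ∈ z, b ∈ L := fun b hb => hkz b (List.mem_cons_of_mem _ hb)
        rw [ev_cons, mul_assoc, e1, ← mul_assoc, hac, mul_assoc]
        split at h
        · simp only [Option.some.injEq, Prod.mk.injEq] at h
          obtain ⟨rfl, rfl⟩ := h
          refine ⟨fun b hb => ?_, by rw [ev_cons y a]⟩
          rcases List.mem_cons.1 hb with rfl | hb
          · exact ha
          · exact hkz b hb
        · split at h
          · next hak =>
            simp only [Option.some.injEq, Prod.mk.injEq] at h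
            obtain ⟨rfl, rfl⟩ := h
            obtain rfl := Nat.eq_of_beq_eq_true hak
            exact ⟨hz, by rw [ev_cons, ← mul_assoc (y a), hS.sq a ha, one_mul]⟩
          · split at h
            · next hok =>
              split at h
              · simp at h
              · next z' e₂ h2 =>
                have htab : ∀ b ∈ tab k a, b ∈ L := by
                  rcases eq_or_ne k a with rfl | hne
                  · next hak => exact absurd (by simp) hak
                  · exact (hL.closed k hk a ha hne).2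
                obtain ⟨hz', e2⟩ := ih (a :: tab k a) z _ _
                  (fun b hb => (List.mem_cons.1 hb).elim (fun e => e ▸ ha) (htab b)) hz h2
                simp only [Option.some.injEq, Prod.mk.injEq] at h
                obtain ⟨rfl, rfl⟩ := h
                refine ⟨fun b hb => (List.mem_cons.1 hb).elim (fun e => e ▸ hk) (hz' b), ?_⟩
                have hkc : ∀ n : ℕ, y k * c ^ n = c ^ n * y k := fun n =>
                  ((show Commute c (y k) from hS.c_comm k hk).pow_left n).eq.symm
                have hwc : ev y (a :: tab k a) * c ^ twist k a = c ^ twist k a * ev y (a :: tab k a) :=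
                  ((commute_ev fun b hb => hS.c_comm b
                    ((List.mem_cons.1 hb).elim (fun e => e ▸ ha) (htab b))).pow_left _).eq.symm
                calc c ^ e₁ * (y a * ev y (k :: z))
                    = c ^ e₁ * (y a * y k * ev y z) := by rw [ev_cons]; simp only [mul_assoc]
                  _ = c ^ e₁ * (y k * (ev y (a :: tab k a) * c ^ twist k a) * ev y z) := by
                      rw [hS.swap a ha k hk hok, ev_cons]; simp only [mul_assoc]
                  _ = c ^ e₁ * (y k * c ^ twist k a * (ev y (a :: tab k a) * ev y z)) := by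
                      rw [hwc]; simp only [mul_assoc]
                  _ = c ^ e₁ * (c ^ twist k a * (y k * c ^ e₂ * ev y z')) := by
                      rw [e2, hkc]; simp only [mul_assoc]
                  _ = _ := by
                      rw [hkc, ev_cons, show e₁ + e₂ + twist k a = e₁ + (twist k a + e₂) by omega]
                      simp only [pow_add, mul_assoc]
            · simp at h

/-- Two words have the same value up to `c ^ e`. -/
def same (w w' : List ℕ) (e : ℕ) : Bool :=
  match mulNF 200 w [], mulNF 200 w' [] with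
  | some (g, m), some (g', m') => g == g' && Nat.beq ((m + e) % 2) (m' % 2)
  | _, _ => false

theorem same_sound {L : List ℕ} {y : ℕ → H} {c : H} (hL : Good L) (hS : Sat L y c)
    {w w' : List ℕ} {e : ℕ} (hw : ∀ a ∈ w, a ∈ L) (hw' : ∀ a ∈ w', a ∈ L)
    (h : same w w' e = true) : ev y w * c ^ e = ev y w' := by
  unfold same at h
  split at h
  · next g m g' m' h1 h2 =>
    rw [Bool.and_eq_true, beq_iff_eq] at h
    obtain ⟨rfl, hpar⟩ := h
    obtain ⟨-, e1⟩ := mulNF_sound hL hS _ w [] _ _ hw (by simp) h1
    obtain ⟨hg, e2⟩ := mulNF_sound hL hS _ w' [] _ _ hw' (by simp) h2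
    rw [ev_nil, mul_one] at e1 e2
    have hc2 : c ^ 2 = 1 := by rw [sq]; exact hS.c_sq
    have hc : Commute (c ^ e) (ev y g) := (commute_ev fun b hb => hS.c_comm b (hg b hb)).pow_left e
    rw [e1, e2, mul_assoc, ← hc.eq, ← mul_assoc, ← pow_add, pow_eq_pow_mod (m + e) hc2,
      pow_eq_pow_mod m' hc2, Nat.eq_of_beq_eq_true hpar]
  · simp at h

end CfsgLib.Schur.F4Two
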