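import Cfsg.Prelude.Def_ChevF4
import Cfsg.Prelude.Def_ChevStructure

/-!
The commutator table of the root system of type F₄ in characteristic two: for roots `r`, `s` with
`s ≠ ±r` the roots whose root elements make up the commutator of `x_s` and `x_r`.
-/

set_option autoImplicit false
set_option maxRecDepth 100000

namespace CfsgLib.Schur.F4Two

open Cfsg.Lie

/-- The table, by rows. -/
def tabData : List (List (List ℕ)) := [
  [[], [], [], [], [], [], [], [], [], [], [], [], [], [], [], [], [], [], [], [], [], [], [], [], [1], [], [2], [], [], [3, 6], [], [4], [5], [], [], [], [7, 17], [], [8, 22], [9, 25], [11, 30], [], [15], [16], [18, 41], [21], [23], []],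
  [[], [], [], [], [], [], [], [], [], [], [], [], [], [], [], [], [], [], [], [], [], [], [], [0], [], [2], [], [], [3, 5], [], [4], [], [6], [], [], [7, 16], [], [8, 21], [], [10, 26], [12, 31], [15], [], [17], [19, 42], [22], [], [24]],
  [[], [], [], [], [], [], [], [], [], [], [], [], [], [], [], [], [], [], [], [], [], [0], [1], [], [], [], [], [3, 4], [], [], [5], [6], [], [], [7, 15], [], [], [9, 23], [10, 24], [], [13, 32], [16], [17], [], [20, 43], [], [25], [26]],
  [[], [], [], [], [], [], [], [], [], [], [], [], [], [], [], [], [], [], [], [], [], [], [], [], [], [], [], [], [], [], [], [], [], [7], [8], [9], [10], [11], [12], [13], [14], [18, 0], [19, 1], [20, 2], [], [27, 4], [28, 5], [29, 6]],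
  [[], [], [], [], [], [], [], [], [], [], [], [], [], [], [], [], [0], [1], [], [], [3, 2], [], [], [], [], [5], [6], [], [], [], [], [], [], [8, 15], [], [11, 23], [12, 24], [], [], [14, 32], [], [21], [22], [], [27, 45], [], [30], [31]],
  [[], [], [], [], [], [], [], [], [], [], [], [], [], [], [], [0], [], [2], [], [3, 1], [], [], [4], [], [6], [], [], [], [], [], [], [], [], [9, 16], [11, 21], [], [13, 26], [], [14, 31], [], [], [23], [], [25], [28, 46], [30], [], [32]],
  [[], [], [], [], [], [], [], [], [], [], [], [], [], [], [], [1], [2], [], [3, 0], [], [], [4], [], [5], [], [], [], [], [], [], [], [], [], [10, 17], [12, 22], [13, 25], [], [14, 30], [], [], [], [], [24], [26], [29, 47], [31], [32], []],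
  [[], [], [], [], [], [], [], [], [], [], [], [], [], [], [3], [], [], [], [], [], [], [], [], [], [], [], [], [8], [9], [10], [11, 0], [12, 1], [13, 2], [], [], [], [], [18], [19], [20], [], [], [], [], [33], [34, 15], [35, 16], [36, 17]],
  [[], [], [], [], [], [], [], [], [], [], [], [], [], [3], [], [], [], [], [], [], [7], [], [], [], [], [9, 0], [10, 1], [], [11], [12], [], [], [14, 4], [], [], [18], [19], [], [], [], [27], [], [], [33, 15], [34], [], [37, 21], [38, 22]],
  [[], [], [], [], [], [], [], [], [], [], [], [], [3], [], [], [], [], [], [], [7], [], [], [8, 0], [], [10, 2], [], [], [11], [], [13], [], [14, 5], [], [], [18], [], [20], [], [], [], [28], [], [33, 16], [], [35], [37, 23], [], [39, 25]],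
  [[], [], [], [], [], [], [], [], [], [], [], [3], [], [], [], [], [], [], [7], [], [], [8, 1], [], [9, 2], [], [], [], [12], [13], [], [14, 6], [], [], [], [19], [20], [], [], [], [], [29], [33, 17], [], [], [36], [38, 24], [39, 26], []],
  [[], [], [], [], [], [], [], [], [], [], [3], [], [], [], [], [], [], [7, 0], [], [8], [9], [], [], [], [12, 4], [], [13, 5], [], [], [14], [], [], [], [18], [], [], [], [], [27], [28], [], [], [34, 21], [35, 23], [37], [], [], [40, 30]],
  [[], [], [], [], [], [], [], [], [], [3], [], [], [], [], [], [], [7, 1], [], [8], [], [10], [], [], [11, 4], [], [13, 6], [], [], [14], [], [], [], [], [19], [], [], [], [27], [], [29], [], [34, 22], [], [36, 24], [38], [], [40, 31], []],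
  [[], [], [], [], [], [], [], [], [3], [], [], [], [], [], [], [7, 2], [], [], [9], [10], [], [11, 5], [12, 6], [], [], [], [], [14], [], [], [], [], [], [20], [], [], [], [28], [29], [], [], [35, 25], [36, 26], [], [39], [40, 32], [], []],
  [[], [], [], [], [], [], [], [3], [], [], [], [], [], [], [], [8, 4], [9, 5], [10, 6], [11], [12], [13], [], [], [], [], [], [], [], [], [], [], [], [], [], [27], [28], [29], [], [], [], [], [37, 30], [38, 31], [39, 32], [40], [], [], []],
  [[], [], [], [], [], [0], [1], [], [], [], [], [], [], [7, 2], [8, 4], [], [], [], [], [], [], [], [], [], [], [16], [17], [], [18, 23], [19, 24], [21], [22], [], [], [], [], [], [], [], [33, 43], [34, 45], [], [], [], [], [], [41], [42]],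
  [[], [], [], [], [0], [], [2], [], [], [], [], [], [7, 1], [], [9, 5], [], [], [], [], [], [], [], [15], [], [17], [], [], [18, 21], [], [20, 26], [23], [], [25], [], [], [], [], [], [33, 42], [], [35, 46], [], [], [], [], [41], [], [43]],
  [[], [], [], [], [1], [2], [], [], [], [], [], [7, 0], [], [], [10, 6], [], [], [], [], [], [], [15], [], [16], [], [], [], [19, 22], [20, 25], [], [], [24], [26], [], [], [], [], [33, 41], [], [], [36, 47], [], [], [], [], [42], [43], []],
  [[], [], [], [], [], [], [3, 0], [], [], [], [7], [], [8], [9], [11], [], [], [], [], [], [], [], [], [], [19, 15], [], [20, 16], [], [], [], [], [27, 21], [28, 23], [], [], [], [33], [], [34], [35], [37], [], [], [], [], [], [], [44, 41]],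
  [[], [], [], [], [], [3, 1], [], [], [], [7], [], [8], [], [10], [12], [], [], [], [], [], [], [], [], [18, 15], [], [20, 17], [], [], [], [], [27, 22], [], [29, 24], [], [], [33], [], [34], [], [36], [38], [], [], [], [], [], [44, 42], []],
  [[], [], [], [], [3, 2], [], [], [], [7], [], [], [9], [10], [], [13], [], [], [], [], [], [], [18, 16], [19, 17], [], [], [], [], [], [], [], [28, 25], [29, 26], [], [], [33], [], [], [35], [36], [], [39], [], [], [], [], [44, 43], [], []],
  [[], [], [0], [], [], [], [4], [], [], [], [8, 1], [], [], [11, 5], [], [], [], [15], [], [], [18, 16], [], [], [], [22], [23], [], [], [], [27, 31], [], [], [30], [], [], [], [34, 42], [], [], [37, 46], [], [], [], [41], [], [], [], [45]],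
  [[], [], [1], [], [], [4], [], [], [], [8, 0], [], [], [], [12, 6], [], [], [15], [], [], [], [19, 17], [], [], [21], [], [], [24], [], [27, 30], [], [], [], [31], [], [], [34, 41], [], [], [], [38, 47], [], [], [], [42], [], [], [45], []],
  [[], [0], [], [], [], [], [5], [], [], [], [9, 2], [], [11, 4], [], [], [], [], [16], [], [18, 15], [], [], [21], [], [], [], [25], [], [], [28, 32], [], [30], [], [], [], [], [35, 43], [], [37, 45], [], [], [], [41], [], [], [], [], [46]],
  [[1], [], [], [], [], [6], [], [], [], [10, 2], [], [12, 4], [], [], [], [], [17], [], [19, 15], [], [], [22], [], [], [], [26], [], [], [29, 32], [], [31], [], [], [], [], [36, 43], [], [38, 45], [], [], [], [42], [], [], [], [], [47], []],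
  [[], [2], [], [], [5], [], [], [], [9, 0], [], [], [], [13, 6], [], [], [16], [], [], [], [20, 17], [], [23], [], [], [26], [], [], [28, 30], [], [], [], [32], [], [], [35, 41], [], [], [], [39, 47], [], [], [], [43], [], [], [46], [], []],
  [[2], [], [], [], [6], [], [], [], [10, 1], [], [], [13, 5], [], [], [], [17], [], [], [20, 16], [], [], [], [24], [25], [], [], [], [29, 31], [], [], [32], [], [], [], [36, 42], [], [], [39, 46], [], [], [], [43], [], [], [], [47], [], []],
  [[], [], [3, 4], [], [], [], [], [8], [], [11], [12], [], [], [14], [], [], [18, 21], [19, 22], [], [], [], [], [], [], [], [28, 30], [29, 31], [], [], [], [], [], [], [34], [], [37], [38], [], [], [40], [], [], [], [44, 45], [], [], [], []],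
  [[], [3, 5], [], [], [], [], [], [9], [11], [], [13], [], [14], [], [], [18, 23], [], [20, 25], [], [], [], [], [27, 30], [], [29, 32], [], [], [], [], [], [], [], [], [35], [37], [], [39], [], [40], [], [], [], [44, 46], [], [], [], [], []],
  [[3, 6], [], [], [], [], [], [], [10], [12], [13], [], [14], [], [], [], [19, 24], [20, 26], [], [], [], [], [27, 31], [], [28, 32], [], [], [], [], [], [], [], [], [], [36], [38], [39], [], [40], [], [], [], [44, 47], [], [], [], [], [], []],
  [[], [4], [5], [], [], [], [], [11, 0], [], [], [14, 6], [], [], [], [], [21], [23], [], [], [27, 22], [28, 25], [], [], [], [31], [], [32], [], [], [], [], [], [], [37, 41], [], [], [40, 47], [], [], [], [], [], [45], [46], [], [], [], []],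
  [[4], [], [6], [], [], [], [], [12, 1], [], [14, 5], [], [], [], [], [], [22], [], [24], [27, 21], [], [29, 26], [], [], [30], [], [32], [], [], [], [], [], [], [], [38, 42], [], [40, 46], [], [], [], [], [], [45], [], [47], [], [], [], []],
  [[5], [6], [], [], [], [], [], [13, 2], [14, 4], [], [], [], [], [], [], [], [25], [26], [28, 23], [29, 24], [], [30], [31], [], [], [], [], [], [], [], [], [], [], [39, 43], [40, 45], [], [], [], [], [], [], [46], [47], [], [], [], [], []],
  [[], [], [], [7], [8, 15], [9, 16], [10, 17], [], [], [], [], [18], [19], [20], [], [], [], [], [], [], [], [], [], [], [], [], [], [34], [35], [36], [37, 41], [38, 42], [39, 43], [], [], [], [], [], [], [], [44], [], [], [], [], [], [], []],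
  [[], [], [7, 15], [8], [], [11, 21], [12, 22], [], [], [18], [19], [], [], [], [27], [], [], [], [], [], [33], [], [], [], [], [35, 41], [36, 42], [], [37], [38], [], [], [40, 45], [], [], [], [], [], [], [44], [], [], [], [], [], [], [], []],
  [[], [7, 16], [], [9], [11, 23], [], [13, 25], [], [18], [], [20], [], [], [], [28], [], [], [], [], [33], [], [], [34, 41], [], [36, 43], [], [], [37], [], [39], [], [40, 46], [], [], [], [], [], [], [44], [], [], [], [], [], [], [], [], []],
  [[7, 17], [], [], [10], [12, 24], [13, 26], [], [], [19], [20], [], [], [], [], [29], [], [], [], [33], [], [], [34, 42], [], [35, 43], [], [], [], [38], [39], [], [40, 47], [], [], [], [], [], [], [44], [], [], [], [], [], [], [], [], [], []],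
  [[], [8, 21], [9, 23], [11], [], [], [14, 30], [18], [], [], [], [], [27], [28], [], [], [], [33, 41], [], [34], [35], [], [], [], [38, 45], [], [39, 46], [], [], [40], [], [], [], [], [], [], [44], [], [], [], [], [], [], [], [], [], [], []],
  [[8, 22], [], [10, 24], [12], [], [14, 31], [], [19], [], [], [], [27], [], [29], [], [], [33, 42], [], [34], [], [36], [], [], [37, 45], [], [39, 47], [], [], [40], [], [], [], [], [], [], [44], [], [], [], [], [], [], [], [], [], [], [], []],
  [[9, 25], [10, 26], [], [13], [14, 32], [], [], [20], [], [], [], [28], [29], [], [], [33, 43], [], [], [35], [36], [], [37, 46], [38, 47], [], [], [], [], [40], [], [], [], [], [], [], [44], [], [], [], [], [], [], [], [], [], [], [], [], []],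
  [[11, 30], [12, 31], [13, 32], [14], [], [], [], [], [27], [28], [29], [], [], [], [], [34, 45], [35, 46], [36, 47], [37], [38], [39], [], [], [], [], [], [], [], [], [], [], [], [], [44], [], [], [], [], [], [], [], [], [], [], [], [], [], []],
  [[], [15], [16], [18, 0], [21], [23], [], [], [], [], [33, 17], [], [34, 22], [35, 25], [37, 30], [], [], [], [], [], [], [], [], [], [42], [], [43], [], [], [44, 47], [], [45], [46], [], [], [], [], [], [], [], [], [], [], [], [], [], [], []],
  [[15], [], [17], [19, 1], [22], [], [24], [], [], [33, 16], [], [34, 21], [], [36, 26], [38, 31], [], [], [], [], [], [], [], [], [41], [], [43], [], [], [44, 46], [], [45], [], [47], [], [], [], [], [], [], [], [], [], [], [], [], [], [], []],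
  [[16], [17], [], [20, 2], [], [25], [26], [], [33, 15], [], [], [35, 23], [36, 24], [], [39, 32], [], [], [], [], [], [], [41], [42], [], [], [], [], [44, 45], [], [], [46], [47], [], [], [], [], [], [], [], [], [], [], [], [], [], [], [], []],
  [[18, 41], [19, 42], [20, 43], [], [27, 45], [28, 46], [29, 47], [33], [34], [35], [36], [37], [38], [39], [40], [], [], [], [], [], [], [], [], [], [], [], [], [], [], [], [], [], [], [], [], [], [], [], [], [], [], [], [], [], [], [], [], []],
  [[21], [22], [], [27, 4], [], [30], [31], [34, 15], [], [37, 23], [38, 24], [], [], [40, 32], [], [], [41], [42], [], [], [44, 43], [], [], [], [], [46], [47], [], [], [], [], [], [], [], [], [], [], [], [], [], [], [], [], [], [], [], [], []],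
  [[23], [], [25], [28, 5], [30], [], [32], [35, 16], [37, 21], [], [39, 26], [], [40, 31], [], [], [41], [], [43], [], [44, 42], [], [], [45], [], [47], [], [], [], [], [], [], [], [], [], [], [], [], [], [], [], [], [], [], [], [], [], [], []],
  [[], [24], [26], [29, 6], [31], [32], [], [36, 17], [38, 22], [39, 25], [], [40, 30], [], [], [], [42], [43], [], [44, 41], [], [], [45], [], [46], [], [], [], [], [], [], [], [], [], [], [], [], [], [], [], [], [], [], [], [], [], [], [], []]]

/-- The roots in the commutator of the root elements of `r` and `s`. -/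
def tab (r s : ℕ) : List ℕ := (tabData.getD r []).getD s []

/-- The negative of a root. -/
def ng (r : ℕ) : ℕ := 47 - r

/-- Two indices of roots that are neither equal nor opposite. -/
def ok (r s : ℕ) : Bool := Nat.blt r 48 && Nat.blt s 48 && !(Nat.beq s r) && !(Nat.beq s (ng r))

/-- The exponent of the central involution in a commutator relation: one for two long and short
roots at an angle of 135 degrees. -/
def twist (r s : ℕ) : ℕ := if (tab r s).length = 2 then 1 else 0

theorem neg_eq : ∀ r < 48, chevF4.neg r = ng r := by decide +kernel

theorem tab_eq : ∀ r < 48, ∀ s < 48, ok r s = true →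
    ((chevF4.commTerms r s).filter fun c => decide (c.2.1 % 2 = 1)).map (fun c => c.1) = tab r s := by
  decide +kernel

theorem tab_facts_check : ((List.range 48).all fun r => (List.range 48).all fun s =>
    !(ok r s) || ((tab r s == tab s r) && (tab r s).all (fun k => Nat.blt k 48) &&
      (tab r s).all fun k => (tab r s).all fun l => Nat.beq k l || (ok k l && (tab k l == [])))) = true := by
  decide +kernel

theorem tab_facts {r s : ℕ} (h : ok r s = true) :
    tab r s = tab s r ∧ (∀ k ∈ tab r s, k < 48) ∧
      (∀ k ∈ tab r s, ∀ l ∈ tab r s, k ≠ l → ok k l = true ∧ tab k l = []) := by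
  have hrs : r < 48 ∧ s < 48 := by
    simp only [ok, Bool.and_eq_true, Nat.blt_eq] at h
    exact ⟨h.1.1.1, h.1.1.2⟩
  have h1 := List.all_eq_true.1 (List.all_eq_true.1 tab_facts_check r (List.mem_range.2 hrs.1)) s
    (List.mem_range.2 hrs.2)
  simp only [h, Bool.not_true, Bool.false_or, Bool.and_eq_true, List.all_eq_true, Nat.blt_eq,
    beq_iff_eq, Bool.or_eq_true] at h1
  exact ⟨h1.1.1, h1.1.2, fun k hk l hl hkl =>
    (h1.2 k hk l hl).resolve_left fun e => hkl (Nat.eq_of_beq_eq_true e)⟩

end CfsgLib.Schur.F4Two
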