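/-!
The certificate for the upper bound on the multiplier of F₄(2): overlaps of the commutator rules,
each fixing one tail. Each entry is a word, two sequences of rewriting positions and the tail.
-/

set_option autoImplicit false
set_option maxRecDepth 100000

namespace CfsgLib.Schur.F4Two

/-- A step of the certificate. -/
abbrev Step : Type := List Nat × List Nat × List Nat × Nat

/-- The gauge: the roots with their decompositions. -/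
def decList : List (Nat × Nat × Nat) := [(0, 23, 1), (1, 24, 0), (2, 26, 0), (3, 14, 7), (4, 31, 0), (5, 32, 0), (6, 32, 1), (7, 33, 3), (8, 34, 3), (9, 35, 3), (10, 36, 3), (11, 37, 3), (12, 38, 3), (13, 39, 3), (14, 40, 3), (15, 42, 0), (16, 43, 0), (17, 43, 1), (18, 37, 7), (19, 38, 7), (20, 39, 7), (21, 45, 0), (22, 45, 1), (23, 46, 0), (24, 47, 1), (25, 46, 2), (26, 47, 2), (27, 40, 8), (28, 40, 9), (29, 40, 10), (30, 46, 4), (31, 47, 4), (32, 47, 5), (33, 44, 7), (34, 44, 8), (35, 44, 9), (36, 44, 10), (37, 44, 11), (38, 44, 12), (39, 44, 13), (40, 44, 14), (41, 46, 15), (42, 47, 15), (43, 47, 16), (44, 40, 33), (45, 47, 21), (46, 47, 23), (47, 46, 24)]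

/-- The tail taken as the generator of the kernel. -/
def eVar : Nat := 29

/-- The tails known at the start. -/
def knownStart : Nat := 745955565118165838903660013209022972877191514364791152035172523180093791657060137250331317993507138494556019190143951977758550033579113526426992005047156511290782202474232876128700195541961618188387274747261712702551691205340742566622572113114895025873530008364597477606834795044210706056267450383336185483704431070870733568698901340111640802887092767450966043483466396641502083162133411882165644653777606637393829017448213173698863363462446248589674058934080952568428908080910791918747648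

/-- The step showing that the generator is an involution. -/
def ordStep : Step := ([29, 29, 0], [0], [1, 0, 3, 2, 1, 2, 1, 1], 2304)

/-- A block of steps. -/
def stepsA0 : List Step := [
  ([28, 33, 26], [0, 2, 1, 0], [1, 0, 1], 1283),
  ([26, 35], [0, 0], [], 1706),
  ([22, 33, 26], [0, 1, 0], [1, 0, 2, 1], 1608),
  ([24, 33], [0, 0], [], 1185),
  ([29, 33, 26], [0, 2, 1, 0], [1, 0, 1], 1284),
  ([26, 36], [0, 0], [], 1754),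
  ([41, 33, 26], [0, 1, 0], [1, 0, 2, 1], 1627),
  ([33, 43], [0, 0], [], 2097),
  ([40, 33, 26], [0, 2, 1, 0], [1, 0, 1], 1292),
  ([26, 44], [0, 0], [], 2138),
  ([45, 33, 26], [0, 1, 0], [1, 0, 2, 1], 1631),
  ([33, 47], [0, 0], [], 2289),
  ([36, 28, 26], [0, 2, 1, 0], [1, 0, 1], 1287),
  ([26, 39], [0, 0], [], 1898),
  ([30, 28, 26], [0, 1, 0], [1, 0, 2, 1], 1376),
  ([28, 32], [0, 0], [], 1564),
  ([41, 28, 26], [0, 1, 0], [1, 0, 2, 1], 1387),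
  ([28, 43], [0, 0], [], 2092),
  ([38, 28, 26], [0, 2, 1, 0], [1, 0, 1], 1288),
  ([26, 40], [0, 0], [], 1946),
  ([45, 28, 26], [0, 1, 0], [1, 0, 2, 1], 1391),
  ([28, 47], [0, 0], [], 2284),
  ([30, 35, 26], [0, 1, 0], [1, 0, 2, 1], 1712),
  ([32, 35], [0, 0], [], 1571),
  ([41, 35, 26], [0, 1, 0], [1, 0, 2, 1], 1723),
  ([35, 43], [0, 0], [], 2099),
  ([45, 35, 26], [0, 1, 0], [1, 0, 2, 1], 1727),
  ([35, 47], [0, 0], [], 2291),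
  ([29, 22, 26], [0, 1, 0], [1, 0, 1, 2], 1181),
  ([24, 29], [0, 0], [], 1416),
  ([36, 22, 26], [0, 1, 0], [1, 0, 1, 2], 1188),
  ([24, 36], [0, 0], [], 1752),
  ([31, 22, 26], [0, 1, 0], [1, 0, 1, 2], 1183),
  ([24, 31], [0, 0], [], 1512),
  ([38, 22, 26], [0, 1, 0], [1, 0, 1, 2], 1190),
  ([24, 38], [0, 0], [], 1848),
  ([42, 22, 26], [0, 1, 0], [1, 0, 1, 2], 1194),
  ([24, 42], [0, 0], [], 2040),
  ([40, 22, 26], [0, 1, 0], [1, 0, 1, 2], 1192),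
  ([24, 40], [0, 0], [], 1944),
  ([44, 22, 26], [0, 1, 0], [1, 0, 1, 2], 1196),
  ([24, 44], [0, 0], [], 2136),
  ([47, 22, 26], [0, 1, 0], [1, 0, 1, 2], 1199),
  ([24, 47], [0, 0], [], 2280),
  ([46, 24, 24], [0, 2, 1, 0, 1], [1], 2303),
  ([24, 46], [0, 0, 2], [], 2232),
  ([46, 46, 24], [0], [1, 0, 2, 1, 1], 2255),
  ([46, 47], [0, 0], [], 2302),
  ([47, 47, 23], [0], [1, 0, 2, 1, 1], 2254),
  ([23, 47], [0, 0, 2], [], 2279),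
  ([47, 23, 23], [0, 2, 1, 0, 1], [1], 1150),
  ([23, 46], [0, 0], [], 2231),
  ([46, 46, 0], [0], [1, 0, 2, 1, 1], 1127),
  ([0, 46], [0, 0, 2], [], 2208),
  ([46, 0, 0], [0, 2, 1, 0, 1], [1], 23),
  ([0, 23], [0, 0], [], 1104),
  ([23, 23, 1], [0], [1, 0, 2, 1, 1], 0),
  ([1, 23], [0, 0, 2], [], 1105),
  ([1, 1, 23], [0], [1, 0, 2, 1, 1], 48),
  ([0, 1], [0, 0], [], 1),
  ([24, 0, 0], [0, 2, 1, 0, 1], [1], 49),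
  ([0, 24], [0, 0, 2], [], 1152),
  ([0, 24, 24], [0, 2, 1, 0, 1], [1], 1153),
  ([1, 24], [0, 0], [], 72),
  ([47, 1, 1], [0, 2, 1, 0, 1], [1], 1176),
  ([1, 47], [0, 0, 2], [], 2257),
  ([46, 24, 26], [0, 2, 1, 0], [1, 0, 1], 1295),
  ([26, 47], [0, 0], [], 2282),
  ([47, 47, 2], [0], [1, 0, 2, 1, 1], 1274),
  ([2, 47], [0, 0, 2], [], 2258),
  ([2, 2, 47], [0], [1, 0, 2, 1, 1], 122),
  ([2, 26], [0, 0], [], 1250),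
  ([26, 26, 0], [0], [1, 0, 2, 1, 1], 98),
  ([0, 26], [0, 0, 2], [], 1248),
  ([0, 0, 26], [0], [1, 0, 2, 1, 1], 2),
  ([0, 2], [0, 0], [], 96),
  ([30, 29, 26], [0, 1, 0], [1, 0, 2, 1], 1424),
  ([29, 32], [0, 0], [], 1565),
  ([45, 29, 26], [0, 1, 0], [1, 0, 2, 1], 1439),
  ([29, 47], [0, 0], [], 2285),
  ([41, 36, 26], [0, 1, 0], [1, 0, 2, 1], 1771),
  ([36, 43], [0, 0], [], 2100),
  ([45, 36, 26], [0, 1, 0], [1, 0, 2, 1], 1775),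
  ([36, 47], [0, 0], [], 2292),
  ([39, 30, 26], [0, 1, 0], [1, 0, 1, 2], 1575),
  ([32, 39], [0, 0], [], 1904),
  ([31, 30, 26], [0, 1, 0], [1, 0, 1, 2], 1567),
  ([31, 32], [0, 0], [], 1520),
  ([38, 30, 26], [0, 1, 0], [1, 0, 1, 2], 1574),
  ([32, 38], [0, 0], [], 1856),
  ([40, 30, 26], [0, 1, 0], [1, 0, 1, 2], 1576),
  ([32, 40], [0, 0], [], 1952),
  ([44, 30, 26], [0, 1, 0], [1, 0, 1, 2], 1580),
  ([32, 44], [0, 0], [], 2144),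
  ([46, 30, 26], [0, 1, 0], [1, 0, 1, 2], 1582),
  ([32, 46], [0, 0], [], 2240),
  ([47, 30, 26], [0, 1, 0], [1, 0, 1, 2], 1583),
  ([32, 47], [0, 0], [], 2288),
  ([47, 47, 5], [0], [1, 0, 2, 1, 1], 1568),
  ([5, 47], [0, 0, 2], [], 2261)]

/-- A block of steps. -/
def stepsA1 : List Step := [
  ([47, 5, 5], [0, 2, 1, 0, 1], [1], 272),
  ([5, 32], [0, 0], [], 1541),
  ([32, 32, 0], [0], [1, 0, 2, 1, 1], 245),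
  ([0, 32], [0, 0, 2], [], 1536),
  ([0, 0, 32], [0], [1, 0, 2, 1, 1], 5),
  ([0, 5], [0, 0], [], 240),
  ([41, 39, 26], [0, 1, 0], [1, 0, 2, 1], 1915),
  ([39, 43], [0, 0], [], 2103),
  ([45, 39, 26], [0, 1, 0], [1, 0, 2, 1], 1919),
  ([39, 47], [0, 0], [], 2295),
  ([38, 41, 26], [0, 1, 0], [1, 0, 1, 2], 2102),
  ([38, 43], [0, 0], [], 1867),
  ([42, 41, 26], [0, 1, 0], [1, 0, 1, 2], 2106),
  ([42, 43], [0, 0], [], 2059),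
  ([40, 41, 26], [0, 1, 0], [1, 0, 1, 2], 2104),
  ([40, 43], [0, 0], [], 1963),
  ([44, 41, 26], [0, 1, 0], [1, 0, 1, 2], 2108),
  ([43, 44], [0, 0], [], 2155),
  ([46, 41, 26], [0, 1, 0], [1, 0, 1, 2], 2110),
  ([43, 46], [0, 0], [], 2251),
  ([47, 41, 26], [0, 1, 0], [1, 0, 1, 2], 2111),
  ([43, 47], [0, 0], [], 2299),
  ([47, 47, 16], [0], [1, 0, 2, 1, 1], 2107),
  ([16, 47], [0, 0, 2], [], 2272),
  ([47, 16, 16], [0, 2, 1, 0, 1], [1], 811),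
  ([16, 43], [0, 0], [], 2080),
  ([43, 43, 0], [0], [1, 0, 2, 1, 1], 784),
  ([0, 43], [0, 0, 2], [], 2064),
  ([0, 0, 43], [0], [1, 0, 2, 1, 1], 16),
  ([0, 16], [0, 0], [], 768),
  ([45, 31, 26], [0, 1, 0], [1, 0, 2, 1], 1535),
  ([31, 47], [0, 0], [], 2287),
  ([47, 47, 4], [0], [1, 0, 2, 1, 1], 1519),
  ([4, 47], [0, 0, 2], [], 2260),
  ([47, 4, 4], [0, 2, 1, 0, 1], [1], 223),
  ([4, 31], [0, 0], [], 1492),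
  ([31, 31, 0], [0], [1, 0, 2, 1, 1], 196),
  ([0, 31], [0, 0, 2], [], 1488),
  ([0, 0, 31], [0], [1, 0, 2, 1, 1], 4),
  ([0, 4], [0, 0], [], 192),
  ([45, 38, 26], [0, 1, 0], [1, 0, 2, 1], 1871),
  ([38, 47], [0, 0], [], 2294),
  ([45, 42, 26], [0, 1, 0], [1, 0, 2, 1], 2063),
  ([42, 47], [0, 0], [], 2298),
  ([47, 47, 15], [0], [1, 0, 2, 1, 1], 2058),
  ([15, 47], [0, 0, 2], [], 2271),
  ([47, 15, 15], [0, 2, 1, 0, 1], [1], 762),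
  ([15, 42], [0, 0], [], 2031),
  ([42, 42, 0], [0], [1, 0, 2, 1, 1], 735),
  ([0, 42], [0, 0, 2], [], 2016),
  ([0, 0, 42], [0], [1, 0, 2, 1, 1], 15),
  ([0, 15], [0, 0], [], 720),
  ([45, 40, 26], [0, 1, 0], [1, 0, 2, 1], 1967),
  ([40, 47], [0, 0], [], 2296),
  ([45, 44, 26], [0, 1, 0], [1, 0, 2, 1], 2159),
  ([44, 47], [0, 0], [], 2300),
  ([37, 28, 33], [0, 1, 0], [1, 0, 1, 2], 1717),
  ([35, 37], [0, 0], [], 1811),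
  ([39, 28, 33], [0, 1, 0], [1, 0, 1, 2], 1719),
  ([35, 39], [0, 0], [], 1907),
  ([41, 28, 33], [0, 1, 0], [1, 0, 1, 2], 1721),
  ([35, 41], [0, 0], [], 2003),
  ([44, 28, 33], [0, 1, 0], [1, 0, 1, 2], 1724),
  ([35, 44], [0, 0], [], 2147),
  ([44, 44, 9], [0], [1, 0, 2, 1, 1], 1715),
  ([9, 44], [0, 0, 2], [], 2121),
  ([44, 9, 9], [0, 2, 1, 0, 1], [1], 467),
  ([9, 35], [0, 0], [], 1689),
  ([35, 35, 3], [0], [1, 0, 2, 1, 1], 441),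
  ([3, 35], [0, 0, 2], [], 1683),
  ([3, 3, 35], [0], [1, 0, 2, 1, 1], 153),
  ([3, 9], [0, 0], [], 435),
  ([46, 28, 33], [0, 1, 0], [1, 0, 1, 2], 1726),
  ([35, 46], [0, 0], [], 2243),
  ([45, 28, 33], [0, 1, 0], [1, 0, 1, 2], 1725),
  ([35, 45], [0, 0], [], 2195),
  ([38, 35, 33], [0, 2, 1, 0], [1, 0, 1], 1628),
  ([33, 44], [0, 0], [], 2145),
  ([40, 33, 33], [0, 2, 1, 0, 1], [1], 2156),
  ([33, 40], [0, 0, 2], [], 1953),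
  ([40, 40, 33], [0], [1, 0, 2, 1, 1], 1964),
  ([40, 44], [0, 0], [], 2152),
  ([44, 44, 14], [0], [1, 0, 2, 1, 1], 1960),
  ([14, 44], [0, 0, 2], [], 2126),
  ([44, 14, 14], [0, 2, 1, 0, 1], [1], 712),
  ([14, 40], [0, 0], [], 1934),
  ([40, 40, 3], [0], [1, 0, 2, 1, 1], 686),
  ([3, 40], [0, 0, 2], [], 1923),
  ([40, 3, 3], [0, 2, 1, 0, 1], [1], 158),
  ([3, 14], [0, 0], [], 675),
  ([14, 14, 7], [0], [1, 0, 2, 1, 1], 147),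
  ([7, 14], [0, 0, 2], [], 679),
  ([7, 7, 14], [0], [1, 0, 2, 1, 1], 339),
  ([3, 7], [0, 0], [], 151),
  ([33, 3, 3], [0, 2, 1, 0, 1], [1], 343),
  ([3, 33], [0, 0, 2], [], 1587),
  ([3, 33, 33], [0, 2, 1, 0, 1], [1], 1591),
  ([7, 33], [0, 0], [], 369),
  ([44, 7, 7], [0, 2, 1, 0, 1], [1], 1617),
  ([7, 44], [0, 0, 2], [], 2119)]

/-- A block of steps. -/
def stepsA2 : List Step := [
  ([27, 22, 33], [0, 1, 0], [1, 0, 2, 1], 1090),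
  ([22, 34], [0, 0], [], 1654),
  ([29, 22, 33], [0, 1, 0], [1, 0, 2, 1], 1092),
  ([22, 36], [0, 0], [], 1750),
  ([43, 22, 33], [0, 2, 1, 0], [1, 0, 1], 1626),
  ([33, 42], [0, 0], [], 2049),
  ([40, 22, 33], [0, 1, 0], [1, 0, 2, 1], 1100),
  ([22, 44], [0, 0], [], 2134),
  ([46, 22, 33], [0, 2, 1, 0], [1, 0, 1], 1629),
  ([33, 45], [0, 0], [], 2193),
  ([27, 24, 33], [0, 1, 0], [1, 0, 2, 1], 1186),
  ([24, 34], [0, 0], [], 1656),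
  ([37, 27, 33], [0, 1, 0], [1, 0, 1, 2], 1669),
  ([34, 37], [0, 0], [], 1810),
  ([41, 27, 33], [0, 1, 0], [1, 0, 1, 2], 1673),
  ([34, 41], [0, 0], [], 2002),
  ([38, 27, 33], [0, 1, 0], [1, 0, 1, 2], 1670),
  ([34, 38], [0, 0], [], 1858),
  ([42, 27, 33], [0, 1, 0], [1, 0, 1, 2], 1674),
  ([34, 42], [0, 0], [], 2050),
  ([44, 27, 33], [0, 1, 0], [1, 0, 1, 2], 1676),
  ([34, 44], [0, 0], [], 2146),
  ([44, 44, 8], [0], [1, 0, 2, 1, 1], 1666),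
  ([8, 44], [0, 0, 2], [], 2120),
  ([44, 8, 8], [0, 2, 1, 0, 1], [1], 418),
  ([8, 34], [0, 0], [], 1640),
  ([34, 34, 3], [0], [1, 0, 2, 1, 1], 392),
  ([3, 34], [0, 0, 2], [], 1635),
  ([34, 3, 3], [0, 2, 1, 0, 1], [1], 152),
  ([3, 8], [0, 0], [], 387),
  ([46, 27, 33], [0, 1, 0], [1, 0, 1, 2], 1678),
  ([34, 46], [0, 0], [], 2242),
  ([45, 27, 33], [0, 1, 0], [1, 0, 1, 2], 1677),
  ([34, 45], [0, 0], [], 2194),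
  ([47, 27, 33], [0, 1, 0], [1, 0, 1, 2], 1679),
  ([34, 47], [0, 0], [], 2290),
  ([39, 29, 33], [0, 1, 0], [1, 0, 1, 2], 1767),
  ([36, 39], [0, 0], [], 1908),
  ([38, 29, 33], [0, 1, 0], [1, 0, 1, 2], 1766),
  ([36, 38], [0, 0], [], 1860),
  ([42, 29, 33], [0, 1, 0], [1, 0, 1, 2], 1770),
  ([36, 42], [0, 0], [], 2052),
  ([44, 29, 33], [0, 1, 0], [1, 0, 1, 2], 1772),
  ([36, 44], [0, 0], [], 2148),
  ([44, 44, 10], [0], [1, 0, 2, 1, 1], 1764),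
  ([10, 44], [0, 0, 2], [], 2122),
  ([10, 10, 44], [0], [1, 0, 2, 1, 1], 516),
  ([10, 36], [0, 0], [], 1738),
  ([36, 36, 3], [0], [1, 0, 2, 1, 1], 490),
  ([3, 36], [0, 0, 2], [], 1731),
  ([3, 3, 36], [0], [1, 0, 2, 1, 1], 154),
  ([3, 10], [0, 0], [], 483),
  ([46, 29, 33], [0, 1, 0], [1, 0, 1, 2], 1774),
  ([36, 46], [0, 0], [], 2244),
  ([45, 29, 33], [0, 1, 0], [1, 0, 1, 2], 1773),
  ([36, 45], [0, 0], [], 2196),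
  ([40, 37, 33], [0, 1, 0], [1, 0, 2, 1], 1820),
  ([37, 44], [0, 0], [], 2149),
  ([44, 44, 11], [0], [1, 0, 2, 1, 1], 1813),
  ([11, 44], [0, 0, 2], [], 2123),
  ([44, 11, 11], [0, 2, 1, 0, 1], [1], 565),
  ([11, 37], [0, 0], [], 1787),
  ([37, 37, 3], [0], [1, 0, 2, 1, 1], 539),
  ([3, 37], [0, 0, 2], [], 1779),
  ([3, 3, 37], [0], [1, 0, 2, 1, 1], 155),
  ([3, 11], [0, 0], [], 531),
  ([40, 39, 33], [0, 1, 0], [1, 0, 2, 1], 1916),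
  ([39, 44], [0, 0], [], 2151),
  ([44, 44, 13], [0], [1, 0, 2, 1, 1], 1911),
  ([13, 44], [0, 0, 2], [], 2125),
  ([44, 13, 13], [0, 2, 1, 0, 1], [1], 663),
  ([13, 39], [0, 0], [], 1885),
  ([39, 39, 3], [0], [1, 0, 2, 1, 1], 637),
  ([3, 39], [0, 0, 2], [], 1875),
  ([39, 3, 3], [0, 2, 1, 0, 1], [1], 157),
  ([3, 13], [0, 0], [], 627),
  ([40, 41, 33], [0, 1, 0], [1, 0, 2, 1], 2012),
  ([41, 44], [0, 0], [], 2153),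
  ([40, 38, 33], [0, 1, 0], [1, 0, 2, 1], 1868),
  ([38, 44], [0, 0], [], 2150),
  ([44, 44, 12], [0], [1, 0, 2, 1, 1], 1862),
  ([12, 44], [0, 0, 2], [], 2124),
  ([44, 12, 12], [0, 2, 1, 0, 1], [1], 614),
  ([12, 38], [0, 0], [], 1836),
  ([38, 38, 3], [0], [1, 0, 2, 1, 1], 588),
  ([3, 38], [0, 0, 2], [], 1827),
  ([3, 3, 38], [0], [1, 0, 2, 1, 1], 156),
  ([3, 12], [0, 0], [], 579),
  ([40, 42, 33], [0, 1, 0], [1, 0, 2, 1], 2060),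
  ([42, 44], [0, 0], [], 2154),
  ([46, 40, 33], [0, 1, 0], [1, 0, 1, 2], 2158),
  ([44, 46], [0, 0], [], 2252),
  ([45, 40, 33], [0, 1, 0], [1, 0, 1, 2], 2157),
  ([44, 45], [0, 0], [], 2204),
  ([27, 35, 28], [0, 2, 1, 0], [1, 0, 1], 1381),
  ([28, 37], [0, 0], [], 1804),
  ([29, 35, 28], [0, 2, 1, 0], [1, 0, 1], 1383),
  ([28, 39], [0, 0], [], 1900),
  ([34, 27, 28], [0, 1, 0], [1, 0, 2, 1], 1333),
  ([27, 37], [0, 0], [], 1803)]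

/-- A block of steps. -/
def stepsA3 : List Step := [
  ([39, 27, 28], [0, 2, 1, 0], [1, 0, 1], 1384),
  ([28, 40], [0, 0], [], 1948),
  ([40, 40, 9], [0], [1, 0, 2, 1, 1], 1372),
  ([9, 40], [0, 0, 2], [], 1929),
  ([9, 9, 40], [0], [1, 0, 2, 1, 1], 460),
  ([9, 28], [0, 0], [], 1353),
  ([38, 27, 28], [0, 1, 0], [1, 0, 2, 1], 1336),
  ([27, 40], [0, 0], [], 1947),
  ([40, 40, 8], [0], [1, 0, 2, 1, 1], 1323),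
  ([8, 40], [0, 0, 2], [], 1928),
  ([8, 8, 40], [0], [1, 0, 2, 1, 1], 411),
  ([8, 27], [0, 0], [], 1304),
  ([36, 29, 28], [0, 1, 0], [1, 0, 2, 1], 1431),
  ([29, 39], [0, 0], [], 1901),
  ([38, 29, 28], [0, 1, 0], [1, 0, 2, 1], 1432),
  ([29, 40], [0, 0], [], 1949),
  ([40, 40, 10], [0], [1, 0, 2, 1, 1], 1421),
  ([10, 40], [0, 0, 2], [], 1930),
  ([40, 10, 10], [0, 2, 1, 0, 1], [1], 509),
  ([10, 29], [0, 0], [], 1402),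
  ([30, 34, 28], [0, 1, 0, 2], [1, 0, 1], 1477),
  ([30, 37], [0, 0], [], 1806),
  ([41, 34, 28], [0, 1, 0], [1, 0, 1, 2], 1817),
  ([37, 41], [0, 0], [], 2005),
  ([43, 34, 28], [0, 1, 0], [1, 0, 1, 2], 1819),
  ([37, 43], [0, 0], [], 2101),
  ([31, 34, 28], [0, 1, 0], [1, 0, 1, 2], 1807),
  ([31, 37], [0, 0], [], 1525),
  ([40, 34, 28], [0, 1, 0], [1, 0, 1, 2], 1816),
  ([37, 40], [0, 0], [], 1957),
  ([46, 34, 28], [0, 1, 0], [1, 0, 1, 2], 1822),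
  ([37, 46], [0, 0], [], 2245),
  ([45, 34, 28], [0, 1, 0], [1, 0, 1, 2], 1821),
  ([37, 45], [0, 0], [], 2197),
  ([47, 34, 28], [0, 1, 0], [1, 0, 1, 2], 1823),
  ([37, 47], [0, 0], [], 2293),
  ([41, 36, 28], [0, 1, 0], [1, 0, 1, 2], 1913),
  ([39, 41], [0, 0], [], 2007),
  ([31, 36, 28], [0, 1, 0], [1, 0, 1, 2], 1903),
  ([31, 39], [0, 0], [], 1527),
  ([40, 36, 28], [0, 1, 0], [1, 0, 1, 2], 1912),
  ([39, 40], [0, 0], [], 1959),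
  ([46, 36, 28], [0, 1, 0], [1, 0, 1, 2], 1918),
  ([39, 46], [0, 0], [], 2247),
  ([45, 36, 28], [0, 1, 0], [1, 0, 1, 2], 1917),
  ([39, 45], [0, 0], [], 2199),
  ([43, 30, 28], [0, 2, 1, 0], [1, 0, 1], 1390),
  ([28, 46], [0, 0], [], 2236),
  ([38, 30, 28], [0, 1, 0], [1, 0, 2, 1], 1480),
  ([30, 40], [0, 0], [], 1950),
  ([31, 41, 28], [0, 2, 1, 0], [1, 0, 1], 1389),
  ([28, 45], [0, 0], [], 2188),
  ([38, 41, 28], [0, 1, 0], [1, 0, 2, 1], 2008),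
  ([40, 41], [0, 0], [], 1961),
  ([38, 31, 28], [0, 1, 0], [1, 0, 2, 1], 1528),
  ([31, 40], [0, 0], [], 1951),
  ([46, 38, 28], [0, 1, 0], [1, 0, 1, 2], 1966),
  ([40, 46], [0, 0], [], 2248),
  ([45, 38, 28], [0, 1, 0], [1, 0, 1, 2], 1965),
  ([40, 45], [0, 0], [], 2200),
  ([32, 27, 35], [0, 1, 0, 2], [1, 0, 1], 1573),
  ([32, 37], [0, 0], [], 1808),
  ([42, 27, 35], [0, 1, 0], [1, 0, 1, 2], 1818),
  ([37, 42], [0, 0], [], 2053),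
  ([30, 29, 35], [0, 1, 0, 2], [1, 0, 1], 1479),
  ([30, 39], [0, 0], [], 1902),
  ([42, 29, 35], [0, 1, 0], [1, 0, 1, 2], 1914),
  ([39, 42], [0, 0], [], 2055),
  ([38, 30, 35], [0, 1, 0], [1, 0, 2, 1], 1484),
  ([30, 44], [0, 0], [], 2142),
  ([30, 24, 22], [0, 2, 1, 0], [1, 0, 1], 1087),
  ([22, 31], [0, 0], [], 1510),
  ([41, 24, 22], [0, 2, 1, 0], [1, 0, 1], 1098),
  ([22, 42], [0, 0], [], 2038),
  ([36, 27, 22], [0, 2, 1, 0], [1, 0, 1], 1094),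
  ([22, 38], [0, 0], [], 1846),
  ([32, 27, 22], [0, 1, 0], [1, 0, 2, 1], 1327),
  ([27, 31], [0, 0], [], 1515),
  ([46, 27, 22], [0, 1, 0], [1, 0, 2, 1], 1341),
  ([27, 45], [0, 0], [], 2187),
  ([32, 29, 22], [0, 1, 0], [1, 0, 2, 1], 1423),
  ([29, 31], [0, 0], [], 1517),
  ([37, 29, 22], [0, 2, 1, 0], [1, 0, 1], 1096),
  ([22, 40], [0, 0], [], 1942),
  ([43, 29, 22], [0, 1, 0], [1, 0, 2, 1], 1434),
  ([29, 42], [0, 0], [], 2045),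
  ([46, 29, 22], [0, 1, 0], [1, 0, 2, 1], 1437),
  ([29, 45], [0, 0], [], 2189),
  ([32, 36, 22], [0, 1, 0], [1, 0, 2, 1], 1759),
  ([31, 36], [0, 0], [], 1524),
  ([32, 30, 22], [0, 1, 0], [1, 0, 2, 1], 1471),
  ([30, 31], [0, 0], [], 1518),
  ([42, 30, 22], [0, 2, 1, 0], [1, 0, 1], 1101),
  ([22, 45], [0, 0], [], 2182),
  ([45, 45, 1], [0], [1, 0, 2, 1, 1], 1078),
  ([1, 45], [0, 0, 2], [], 2161),
  ([45, 1, 1], [0, 2, 1, 0, 1], [1], 70),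
  ([1, 22], [0, 0], [], 1057),
  ([46, 30, 22], [0, 1, 0], [1, 0, 2, 1], 1485),
  ([30, 45], [0, 0], [], 2190)]

/-- A block of steps. -/
def stepsA4 : List Step := [
  ([38, 32, 22], [0, 1, 0], [1, 0, 1, 2], 1526),
  ([31, 38], [0, 0], [], 1855),
  ([44, 32, 22], [0, 1, 0], [1, 0, 1, 2], 1532),
  ([31, 44], [0, 0], [], 2143),
  ([45, 32, 22], [0, 1, 0], [1, 0, 1, 2], 1533),
  ([31, 45], [0, 0], [], 2191),
  ([43, 41, 22], [0, 1, 0], [1, 0, 2, 1], 2010),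
  ([41, 42], [0, 0], [], 2057),
  ([46, 41, 22], [0, 1, 0], [1, 0, 2, 1], 2013),
  ([41, 45], [0, 0], [], 2201),
  ([38, 43, 22], [0, 1, 0, 2], [1, 0, 1], 1866),
  ([38, 42], [0, 0], [], 2054),
  ([40, 43, 22], [0, 1, 0], [1, 0, 1, 2], 2056),
  ([40, 42], [0, 0], [], 1962),
  ([45, 43, 22], [0, 1, 0], [1, 0, 1, 2], 2061),
  ([42, 45], [0, 0], [], 2202),
  ([46, 38, 22], [0, 1, 0], [1, 0, 2, 1], 1869),
  ([38, 45], [0, 0], [], 2198),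
  ([47, 46, 22], [0, 1, 0], [1, 0, 1, 2], 2207),
  ([45, 47], [0, 0], [], 2301),
  ([47, 47, 21], [0], [1, 0, 2, 1, 1], 2205),
  ([21, 47], [0, 0, 2], [], 2277),
  ([47, 21, 21], [0, 2, 1, 0, 1], [1], 1053),
  ([21, 45], [0, 0], [], 2181),
  ([45, 45, 0], [0], [1, 0, 2, 1, 1], 1029),
  ([0, 45], [0, 0, 2], [], 2160),
  ([45, 0, 0], [0, 2, 1, 0, 1], [1], 21),
  ([0, 21], [0, 0], [], 1008),
  ([41, 27, 24], [0, 1, 0], [1, 0, 2, 1], 1338),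
  ([27, 42], [0, 0], [], 2043),
  ([46, 27, 24], [0, 1, 0], [1, 0, 2, 1], 1343),
  ([27, 47], [0, 0], [], 2283),
  ([30, 34, 24], [0, 1, 0], [1, 0, 2, 1], 1663),
  ([31, 34], [0, 0], [], 1522),
  ([34, 29, 27], [0, 2, 1, 0], [1, 0, 1], 1334),
  ([27, 38], [0, 0], [], 1851),
  ([36, 29, 27], [0, 1, 0], [1, 0, 2, 1], 1430),
  ([29, 38], [0, 0], [], 1853),
  ([41, 36, 27], [0, 1, 0, 2], [1, 0, 1], 2006),
  ([38, 41], [0, 0], [], 1865),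
  ([40, 36, 27], [0, 1, 0], [1, 0, 1, 2], 1864),
  ([38, 40], [0, 0], [], 1958),
  ([46, 36, 27], [0, 1, 0], [1, 0, 1, 2], 1870),
  ([38, 46], [0, 0], [], 2246),
  ([41, 32, 27], [0, 2, 1, 0], [1, 0, 1], 1342),
  ([27, 46], [0, 0], [], 2235),
  ([30, 34, 29], [0, 1, 0, 2], [1, 0, 1], 1478),
  ([30, 38], [0, 0], [], 1854),
  ([43, 30, 29], [0, 2, 1, 0], [1, 0, 1], 1438),
  ([29, 46], [0, 0], [], 2237),
  ([41, 32, 30], [0, 2, 1, 0], [1, 0, 1], 1486),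
  ([30, 46], [0, 0], [], 2238),
  ([46, 46, 4], [0], [1, 0, 2, 1, 1], 1470),
  ([4, 46], [0, 0, 2], [], 2212),
  ([46, 4, 4], [0, 2, 1, 0, 1], [1], 222),
  ([4, 30], [0, 0], [], 1444),
  ([43, 41, 30], [0, 1, 0], [1, 0, 2, 1], 2014),
  ([41, 46], [0, 0], [], 2249),
  ([46, 46, 15], [0], [1, 0, 2, 1, 1], 2009),
  ([15, 46], [0, 0, 2], [], 2223),
  ([46, 15, 15], [0, 2, 1, 0, 1], [1], 761),
  ([15, 41], [0, 0], [], 1983),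
  ([45, 43, 30], [0, 1, 0], [1, 0, 1, 2], 2253),
  ([45, 46], [0, 0], [], 2206),
  ([20, 14, 24], [0, 2, 1, 0], [1, 0, 1], 1165),
  ([13, 24], [0, 0], [], 648),
  ([30, 14, 24], [0, 1, 0], [1, 0, 2, 1], 703),
  ([14, 31], [0, 0], [], 1502),
  ([25, 14, 24], [0, 1, 0], [1, 0, 2, 1], 698),
  ([14, 26], [0, 0], [], 1262),
  ([46, 14, 24], [0, 1, 0], [1, 0, 2, 1], 719),
  ([14, 47], [0, 0], [], 2270),
  ([41, 20, 24], [0, 1, 0], [1, 0, 2, 1], 1002),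
  ([20, 42], [0, 0], [], 2036),
  ([25, 20, 24], [0, 1, 0], [1, 0, 2, 1], 986),
  ([20, 26], [0, 0], [], 1268),
  ([40, 20, 24], [0, 2, 1, 0], [1, 0, 1], 1191),
  ([24, 39], [0, 0], [], 1896),
  ([46, 20, 24], [0, 1, 0], [1, 0, 2, 1], 1007),
  ([20, 47], [0, 0], [], 2276),
  ([30, 13, 24], [0, 1, 0], [1, 0, 2, 1], 655),
  ([13, 31], [0, 0], [], 1501),
  ([25, 13, 24], [0, 1, 0], [1, 0, 2, 1], 650),
  ([13, 26], [0, 0], [], 1261),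
  ([46, 13, 24], [0, 1, 0], [1, 0, 2, 1], 671),
  ([13, 47], [0, 0], [], 2269),
  ([25, 29, 24], [0, 1, 0], [1, 0, 2, 1], 1418),
  ([26, 29], [0, 0], [], 1277),
  ([43, 25, 24], [0, 1, 0], [1, 0, 1, 2], 1291),
  ([26, 43], [0, 0], [], 2090),
  ([32, 25, 24], [0, 1, 0], [1, 0, 1, 2], 1280),
  ([26, 32], [0, 0], [], 1562),
  ([28, 20, 14], [0, 1, 0], [1, 0, 1, 2], 652),
  ([13, 28], [0, 0], [], 1357),
  ([29, 20, 14], [0, 1, 0], [1, 0, 1, 2], 653),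
  ([13, 29], [0, 0], [], 1405),
  ([25, 20, 14], [0, 1, 0], [1, 0, 1, 2], 649),
  ([13, 25], [0, 0], [], 1213),
  ([32, 20, 14], [0, 1, 0], [1, 0, 1, 2], 656),
  ([13, 32], [0, 0], [], 1549)]

/-- A block of steps. -/
def stepsA5 : List Step := [
  ([46, 20, 14], [0, 1, 0], [1, 0, 1, 2], 670),
  ([13, 46], [0, 0], [], 2221),
  ([37, 13, 14], [0, 2, 1, 0], [1, 0, 1], 700),
  ([14, 28], [0, 0], [], 1358),
  ([38, 13, 14], [0, 2, 1, 0], [1, 0, 1], 701),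
  ([14, 29], [0, 0], [], 1406),
  ([35, 30, 14], [0, 1, 0], [1, 0, 2, 1], 1468),
  ([28, 30], [0, 0], [], 1374),
  ([26, 30, 14], [0, 2, 1, 0], [1, 0, 1], 704),
  ([14, 32], [0, 0], [], 1550),
  ([25, 35, 14], [0, 1, 0], [1, 0, 1, 2], 1369),
  ([25, 28], [0, 0], [], 1228),
  ([26, 35, 14], [0, 1, 0], [1, 0, 1, 2], 1370),
  ([26, 28], [0, 0], [], 1276),
  ([25, 36, 14], [0, 1, 0], [1, 0, 1, 2], 1417),
  ([25, 29], [0, 0], [], 1229),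
  ([45, 25, 14], [0, 2, 1, 0], [1, 0, 1], 718),
  ([14, 46], [0, 0], [], 2222),
  ([44, 25, 14], [0, 1, 0], [1, 0, 2, 1], 1240),
  ([25, 40], [0, 0], [], 1945),
  ([44, 13, 20], [0, 2, 1, 0], [1, 0, 1], 999),
  ([20, 39], [0, 0], [], 1892),
  ([39, 39, 7], [0], [1, 0, 2, 1, 1], 980),
  ([7, 39], [0, 0, 2], [], 1879),
  ([7, 7, 39], [0], [1, 0, 2, 1, 1], 356),
  ([7, 20], [0, 0], [], 967),
  ([38, 41, 20], [0, 1, 0], [1, 0, 2, 1], 2004),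
  ([36, 41], [0, 0], [], 1769),
  ([26, 41, 20], [0, 2, 1, 0], [1, 0, 1], 1003),
  ([20, 43], [0, 0], [], 2084),
  ([32, 41, 20], [0, 2, 1, 0], [1, 0, 1], 1006),
  ([20, 46], [0, 0], [], 2228),
  ([37, 42, 20], [0, 1, 0], [1, 0, 2, 1], 2051),
  ([35, 42], [0, 0], [], 1722),
  ([28, 37, 20], [0, 1, 0], [1, 0, 1, 2], 1708),
  ([28, 35], [0, 0], [], 1379),
  ([25, 37, 20], [0, 1, 0], [1, 0, 1, 2], 1705),
  ([25, 35], [0, 0], [], 1235),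
  ([29, 38, 20], [0, 1, 0], [1, 0, 1, 2], 1757),
  ([29, 36], [0, 0], [], 1428),
  ([32, 38, 20], [0, 1, 0], [1, 0, 1, 2], 1760),
  ([32, 36], [0, 0], [], 1572),
  ([40, 25, 20], [0, 1, 0], [1, 0, 2, 1], 1239),
  ([25, 39], [0, 0], [], 1897),
  ([31, 37, 13], [0, 1, 0, 2], [1, 0, 1], 1516),
  ([28, 31], [0, 0], [], 1375),
  ([30, 38, 13], [0, 1, 0, 2], [1, 0, 1], 1469),
  ([29, 30], [0, 0], [], 1422),
  ([43, 38, 13], [0, 1, 0], [1, 0, 1, 2], 1435),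
  ([29, 43], [0, 0], [], 2093),
  ([25, 42, 41], [0, 2, 1, 0], [1, 0, 1], 2011),
  ([41, 43], [0, 0], [], 2105),
  ([26, 25, 41], [0, 1, 0], [1, 0, 2, 1], 1243),
  ([25, 43], [0, 0], [], 2089),
  ([32, 25, 41], [0, 1, 0], [1, 0, 2, 1], 1246),
  ([25, 46], [0, 0], [], 2233),
  ([46, 46, 2], [0], [1, 0, 2, 1, 1], 1225),
  ([2, 46], [0, 0, 2], [], 2210),
  ([46, 2, 2], [0, 2, 1, 0, 1], [1], 121),
  ([2, 25], [0, 0], [], 1202),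
  ([25, 36, 37], [0, 1, 0, 2], [1, 0, 1], 1244),
  ([25, 44], [0, 0], [], 2137),
  ([25, 31, 30], [0, 2, 1, 0], [1, 0, 1], 1472),
  ([30, 32], [0, 0], [], 1566),
  ([26, 25, 30], [0, 1, 0], [1, 0, 2, 1], 1232),
  ([25, 32], [0, 0], [], 1561),
  ([34, 14, 23], [0, 2, 1, 0], [1, 0, 1], 1131),
  ([23, 27], [0, 0], [], 1319),
  ([26, 14, 23], [0, 1, 0], [1, 0, 2, 1], 697),
  ([14, 25], [0, 0], [], 1214),
  ([35, 14, 23], [0, 2, 1, 0], [1, 0, 1], 1132),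
  ([23, 28], [0, 0], [], 1367),
  ([31, 14, 23], [0, 1, 0], [1, 0, 2, 1], 702),
  ([14, 30], [0, 0], [], 1454),
  ([44, 14, 23], [0, 2, 1, 0], [1, 0, 1], 1144),
  ([23, 40], [0, 0], [], 1943),
  ([28, 34, 23], [0, 2, 1, 0], [1, 0, 1], 1141),
  ([23, 37], [0, 0], [], 1799),
  ([31, 34, 23], [0, 1, 0], [1, 0, 2, 1], 1662),
  ([30, 34], [0, 0], [], 1474),
  ([39, 34, 23], [0, 2, 1, 0], [1, 0, 1], 1148),
  ([23, 44], [0, 0], [], 2135),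
  ([42, 27, 23], [0, 1, 0], [1, 0, 2, 1], 1337),
  ([27, 41], [0, 0], [], 1995),
  ([31, 27, 23], [0, 1, 0], [1, 0, 2, 1], 1326),
  ([27, 30], [0, 0], [], 1467),
  ([33, 23, 22], [0, 1, 0, 2], [1, 0, 1], 1605),
  ([21, 33], [0, 0], [], 1041),
  ([11, 23, 22], [0, 1, 0], [1, 0, 1, 2], 1019),
  ([11, 21], [0, 0], [], 549),
  ([18, 23, 22], [0, 1, 0], [1, 0, 1, 2], 1026),
  ([18, 21], [0, 0], [], 885),
  ([4, 23, 22], [0, 1, 0], [1, 0, 1, 2], 1012),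
  ([4, 21], [0, 0], [], 213),
  ([8, 23, 22], [0, 1, 0], [1, 0, 1, 2], 1016),
  ([8, 21], [0, 0], [], 405),
  ([3, 23, 22], [0, 1, 0], [1, 0, 1, 2], 1011),
  ([3, 21], [0, 0], [], 165),
  ([15, 23, 22], [0, 1, 0], [1, 0, 1, 2], 1023),
  ([15, 21], [0, 0], [], 741)]

/-- A block of steps. -/
def stepsA6 : List Step := [
  ([7, 23, 22], [0, 1, 0], [1, 0, 1, 2], 1015),
  ([7, 21], [0, 0], [], 357),
  ([12, 33, 22], [0, 2, 1, 0], [1, 0, 1], 1075),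
  ([19, 22], [0, 0], [], 934),
  ([11, 33, 22], [0, 2, 1, 0], [1, 0, 1], 1074),
  ([18, 22], [0, 0], [], 886),
  ([16, 33, 22], [0, 1, 0], [1, 0, 2, 1], 1599),
  ([15, 33], [0, 0], [], 753),
  ([3, 33, 22], [0, 2, 1, 0], [1, 0, 1], 1063),
  ([7, 22], [0, 0], [], 358),
  ([2, 33, 22], [0, 1, 0], [1, 0, 2, 1], 1585),
  ([1, 33], [0, 0], [], 81),
  ([5, 12, 22], [0, 1, 0], [1, 0, 2, 1], 580),
  ([4, 12], [0, 0], [], 204),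
  ([18, 12, 22], [0, 2, 1, 0], [1, 0, 1], 1064),
  ([8, 22], [0, 0], [], 406),
  ([2, 12, 22], [0, 1, 0], [1, 0, 2, 1], 577),
  ([1, 12], [0, 0], [], 60),
  ([6, 21, 22], [0, 2, 1, 0], [1, 0, 1], 1060),
  ([4, 22], [0, 0], [], 214),
  ([17, 21, 22], [0, 2, 1, 0], [1, 0, 1], 1071),
  ([15, 22], [0, 0], [], 742),
  ([5, 6, 22], [0, 1, 0], [1, 0, 2, 1], 292),
  ([4, 6], [0, 0], [], 198),
  ([2, 6, 22], [0, 1, 0], [1, 0, 2, 1], 289),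
  ([1, 6], [0, 0], [], 54),
  ([32, 1, 1], [0, 2, 1, 0, 1], [1], 294),
  ([1, 32], [0, 0, 2], [], 1537),
  ([1, 32, 32], [0, 2, 1, 0, 1], [1], 1542),
  ([6, 32], [0, 0], [], 320),
  ([5, 11, 22], [0, 1, 0], [1, 0, 2, 1], 532),
  ([4, 11], [0, 0], [], 203),
  ([10, 11, 22], [0, 2, 1, 0], [1, 0, 1], 1059),
  ([3, 22], [0, 0], [], 166),
  ([16, 11, 22], [0, 1, 0], [1, 0, 2, 1], 543),
  ([11, 15], [0, 0], [], 731),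
  ([2, 11, 22], [0, 1, 0], [1, 0, 2, 1], 529),
  ([1, 11], [0, 0], [], 59),
  ([16, 19, 22], [0, 1, 0], [1, 0, 2, 1], 927),
  ([15, 19], [0, 0], [], 739),
  ([2, 19, 22], [0, 1, 0], [1, 0, 2, 1], 913),
  ([1, 19], [0, 0], [], 67),
  ([10, 5, 22], [0, 1, 0, 2], [1, 0, 1], 484),
  ([4, 10], [0, 0], [], 202),
  ([18, 5, 22], [0, 1, 0, 2], [1, 0, 1], 868),
  ([4, 18], [0, 0], [], 210),
  ([8, 5, 22], [0, 1, 0], [1, 0, 1, 2], 200),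
  ([4, 8], [0, 0], [], 388),
  ([3, 5, 22], [0, 1, 0], [1, 0, 1, 2], 195),
  ([3, 4], [0, 0], [], 148),
  ([7, 5, 22], [0, 1, 0], [1, 0, 1, 2], 199),
  ([4, 7], [0, 0], [], 340),
  ([1, 5, 22], [0, 1, 0], [1, 0, 1, 2], 193),
  ([1, 4], [0, 0], [], 52),
  ([16, 10, 22], [0, 1, 0], [1, 0, 2, 1], 495),
  ([10, 15], [0, 0], [], 730),
  ([2, 10, 22], [0, 1, 0], [1, 0, 2, 1], 481),
  ([1, 10], [0, 0], [], 58),
  ([16, 18, 22], [0, 1, 0], [1, 0, 2, 1], 879),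
  ([15, 18], [0, 0], [], 738),
  ([2, 18, 22], [0, 1, 0], [1, 0, 2, 1], 865),
  ([1, 18], [0, 0], [], 66),
  ([16, 17, 22], [0, 1, 0], [1, 0, 2, 1], 831),
  ([15, 17], [0, 0], [], 737),
  ([2, 17, 22], [0, 1, 0], [1, 0, 2, 1], 817),
  ([1, 17], [0, 0], [], 65),
  ([43, 1, 1], [0, 2, 1, 0, 1], [1], 833),
  ([1, 43], [0, 0, 2], [], 2065),
  ([1, 43, 43], [0, 2, 1, 0, 1], [1], 2081),
  ([17, 43], [0, 0], [], 859),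
  ([16, 8, 22], [0, 1, 0], [1, 0, 2, 1], 399),
  ([8, 15], [0, 0], [], 728),
  ([2, 8, 22], [0, 1, 0], [1, 0, 2, 1], 385),
  ([1, 8], [0, 0], [], 56),
  ([3, 16, 22], [0, 1, 0, 2], [1, 0, 1], 159),
  ([3, 15], [0, 0], [], 723),
  ([7, 16, 22], [0, 1, 0], [1, 0, 1, 2], 727),
  ([7, 15], [0, 0], [], 351),
  ([1, 16, 22], [0, 1, 0], [1, 0, 1, 2], 721),
  ([1, 15], [0, 0], [], 63),
  ([2, 3, 22], [0, 1, 0], [1, 0, 2, 1], 145),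
  ([1, 3], [0, 0], [], 51),
  ([2, 7, 22], [0, 1, 0], [1, 0, 2, 1], 337),
  ([1, 7], [0, 0], [], 55),
  ([33, 23, 13], [0, 1, 0], [1, 0, 2, 1], 1124),
  ([20, 23], [0, 0], [], 983),
  ([6, 23, 13], [0, 2, 1, 0], [1, 0, 1], 629),
  ([5, 13], [0, 0], [], 253),
  ([18, 23, 13], [0, 1, 0], [1, 0, 2, 1], 1113),
  ([9, 23], [0, 0], [], 455),
  ([17, 23, 13], [0, 2, 1, 0], [1, 0, 1], 640),
  ([13, 16], [0, 0], [], 781),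
  ([8, 23, 13], [0, 1, 0], [1, 0, 2, 1], 1107),
  ([3, 23], [0, 0], [], 167),
  ([1, 23, 13], [0, 2, 1, 0], [1, 0, 1], 624),
  ([0, 13], [0, 0], [], 13),
  ([10, 33, 13], [0, 1, 0], [1, 0, 1, 2], 970),
  ([10, 20], [0, 0], [], 500),
  ([9, 33, 13], [0, 1, 0], [1, 0, 1, 2], 969),
  ([9, 20], [0, 0], [], 452)]

/-- A block of steps. -/
def stepsA7 : List Step := [
  ([17, 33, 13], [0, 1, 0], [1, 0, 1, 2], 977),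
  ([17, 20], [0, 0], [], 836),
  ([16, 33, 13], [0, 1, 0], [1, 0, 1, 2], 976),
  ([16, 20], [0, 0], [], 788),
  ([2, 33, 13], [0, 1, 0], [1, 0, 1, 2], 962),
  ([2, 20], [0, 0], [], 116),
  ([1, 33, 13], [0, 1, 0], [1, 0, 1, 2], 961),
  ([1, 20], [0, 0], [], 68),
  ([0, 33, 13], [0, 1, 0], [1, 0, 1, 2], 960),
  ([0, 20], [0, 0], [], 20),
  ([20, 12, 13], [0, 2, 1, 0], [1, 0, 1], 634),
  ([10, 13], [0, 0], [], 493),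
  ([19, 12, 13], [0, 1, 0], [1, 0, 2, 1], 586),
  ([10, 12], [0, 0], [], 492),
  ([11, 20, 13], [0, 2, 1, 0], [1, 0, 1], 633),
  ([9, 13], [0, 0], [], 445),
  ([19, 6, 13], [0, 1, 0], [1, 0, 2, 1], 298),
  ([6, 10], [0, 0], [], 486),
  ([8, 6, 13], [0, 1, 0], [1, 0, 2, 1], 291),
  ([3, 6], [0, 0], [], 150),
  ([16, 6, 13], [0, 2, 1, 0], [1, 0, 1], 626),
  ([2, 13], [0, 0], [], 109),
  ([18, 11, 13], [0, 1, 0], [1, 0, 2, 1], 537),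
  ([9, 11], [0, 0], [], 443),
  ([17, 19, 13], [0, 1, 0], [1, 0, 1, 2], 497),
  ([10, 17], [0, 0], [], 826),
  ([16, 19, 13], [0, 1, 0], [1, 0, 1, 2], 496),
  ([10, 16], [0, 0], [], 778),
  ([7, 19, 13], [0, 1, 0], [1, 0, 1, 2], 487),
  ([7, 10], [0, 0], [], 346),
  ([2, 19, 13], [0, 1, 0], [1, 0, 1, 2], 482),
  ([2, 10], [0, 0], [], 106),
  ([0, 19, 13], [0, 1, 0], [1, 0, 1, 2], 480),
  ([0, 10], [0, 0], [], 10),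
  ([18, 5, 13], [0, 1, 0], [1, 0, 2, 1], 249),
  ([5, 9], [0, 0], [], 437),
  ([8, 5, 13], [0, 1, 0], [1, 0, 2, 1], 243),
  ([3, 5], [0, 0], [], 149),
  ([4, 18, 13], [0, 1, 0, 2], [1, 0, 1], 201),
  ([4, 9], [0, 0], [], 436),
  ([17, 18, 13], [0, 1, 0], [1, 0, 1, 2], 449),
  ([9, 17], [0, 0], [], 825),
  ([16, 18, 13], [0, 1, 0], [1, 0, 1, 2], 448),
  ([9, 16], [0, 0], [], 777),
  ([7, 18, 13], [0, 1, 0], [1, 0, 1, 2], 439),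
  ([7, 9], [0, 0], [], 345),
  ([2, 18, 13], [0, 1, 0], [1, 0, 1, 2], 434),
  ([2, 9], [0, 0], [], 105),
  ([1, 18, 13], [0, 1, 0], [1, 0, 1, 2], 433),
  ([1, 9], [0, 0], [], 57),
  ([0, 18, 13], [0, 1, 0], [1, 0, 1, 2], 432),
  ([0, 9], [0, 0], [], 9),
  ([17, 4, 13], [0, 2, 1, 0], [1, 0, 1], 625),
  ([1, 13], [0, 0], [], 61),
  ([8, 17, 13], [0, 1, 0], [1, 0, 2, 1], 819),
  ([3, 17], [0, 0], [], 161),
  ([16, 8, 13], [0, 1, 0, 2], [1, 0, 1], 771),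
  ([3, 16], [0, 0], [], 160),
  ([2, 8, 13], [0, 1, 0], [1, 0, 1, 2], 146),
  ([2, 3], [0, 0], [], 99),
  ([0, 8, 13], [0, 1, 0], [1, 0, 1, 2], 144),
  ([0, 3], [0, 0], [], 3),
  ([11, 33, 23], [0, 2, 1, 0], [1, 0, 1], 1122),
  ([18, 23], [0, 0], [], 887),
  ([17, 33, 23], [0, 1, 0], [1, 0, 2, 1], 1600),
  ([16, 33], [0, 0], [], 801),
  ([3, 33, 23], [0, 2, 1, 0], [1, 0, 1], 1111),
  ([7, 23], [0, 0], [], 359),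
  ([1, 33, 23], [0, 1, 0], [1, 0, 2, 1], 1584),
  ([0, 33], [0, 0], [], 33),
  ([6, 20, 23], [0, 1, 0], [1, 0, 2, 1], 965),
  ([5, 20], [0, 0], [], 260),
  ([11, 6, 23], [0, 1, 0, 2], [1, 0, 1], 533),
  ([5, 11], [0, 0], [], 251),
  ([4, 6, 23], [0, 1, 0], [1, 0, 1, 2], 244),
  ([4, 5], [0, 0], [], 197),
  ([8, 6, 23], [0, 1, 0], [1, 0, 1, 2], 248),
  ([5, 8], [0, 0], [], 389),
  ([7, 6, 23], [0, 1, 0], [1, 0, 1, 2], 247),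
  ([5, 7], [0, 0], [], 341),
  ([2, 6, 23], [0, 1, 0], [1, 0, 1, 2], 242),
  ([2, 5], [0, 0], [], 101),
  ([1, 11, 23], [0, 1, 0], [1, 0, 2, 1], 528),
  ([0, 11], [0, 0], [], 11),
  ([17, 18, 23], [0, 1, 0], [1, 0, 2, 1], 880),
  ([16, 18], [0, 0], [], 786),
  ([1, 18, 23], [0, 1, 0], [1, 0, 2, 1], 864),
  ([0, 18], [0, 0], [], 18),
  ([8, 17, 23], [0, 1, 0, 2], [1, 0, 1], 400),
  ([8, 16], [0, 0], [], 776),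
  ([15, 17, 23], [0, 1, 0], [1, 0, 1, 2], 783),
  ([15, 16], [0, 0], [], 736),
  ([7, 17, 23], [0, 1, 0], [1, 0, 1, 2], 775),
  ([7, 16], [0, 0], [], 352),
  ([2, 17, 23], [0, 1, 0], [1, 0, 1, 2], 770),
  ([2, 16], [0, 0], [], 112),
  ([1, 8, 23], [0, 1, 0], [1, 0, 2, 1], 384),
  ([0, 8], [0, 0], [], 8),
  ([1, 7, 23], [0, 1, 0], [1, 0, 2, 1], 336),
  ([0, 7], [0, 0], [], 7)]

/-- A block of steps. -/
def stepsA8 : List Step := [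
  ([21, 12, 33], [0, 1, 0, 2], [1, 0, 1], 1027),
  ([19, 21], [0, 0], [], 933),
  ([10, 12, 33], [0, 1, 0], [1, 0, 1, 2], 922),
  ([10, 19], [0, 0], [], 499),
  ([17, 12, 33], [0, 1, 0], [1, 0, 1, 2], 929),
  ([17, 19], [0, 0], [], 835),
  ([8, 12, 33], [0, 1, 0], [1, 0, 1, 2], 920),
  ([8, 19], [0, 0], [], 403),
  ([7, 12, 33], [0, 1, 0], [1, 0, 1, 2], 919),
  ([7, 19], [0, 0], [], 355),
  ([38, 7, 7], [0, 2, 1, 0, 1], [1], 931),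
  ([7, 38], [0, 0, 2], [], 1831),
  ([7, 38, 38], [0, 2, 1, 0, 1], [1], 1843),
  ([19, 38], [0, 0], [], 950),
  ([2, 12, 33], [0, 1, 0], [1, 0, 1, 2], 914),
  ([2, 19], [0, 0], [], 115),
  ([0, 12, 33], [0, 1, 0], [1, 0, 1, 2], 912),
  ([0, 19], [0, 0], [], 19),
  ([9, 11, 33], [0, 1, 0], [1, 0, 1, 2], 873),
  ([9, 18], [0, 0], [], 450),
  ([8, 11, 33], [0, 1, 0], [1, 0, 1, 2], 872),
  ([8, 18], [0, 0], [], 402),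
  ([7, 11, 33], [0, 1, 0], [1, 0, 1, 2], 871),
  ([7, 18], [0, 0], [], 354),
  ([37, 7, 7], [0, 2, 1, 0, 1], [1], 882),
  ([7, 37], [0, 0, 2], [], 1783),
  ([37, 37, 7], [0], [1, 0, 2, 1, 1], 1794),
  ([18, 37], [0, 0], [], 901),
  ([2, 11, 33], [0, 1, 0], [1, 0, 1, 2], 866),
  ([2, 18], [0, 0], [], 114),
  ([3, 17, 33], [0, 1, 0], [1, 0, 2, 1], 823),
  ([7, 17], [0, 0], [], 353),
  ([3, 8, 33], [0, 1, 0], [1, 0, 2, 1], 391),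
  ([7, 8], [0, 0], [], 344),
  ([2, 3, 33], [0, 1, 0], [1, 0, 1, 2], 338),
  ([2, 7], [0, 0], [], 103),
  ([17, 21, 12], [0, 2, 1, 0], [1, 0, 1], 591),
  ([12, 15], [0, 0], [], 732),
  ([2, 21, 12], [0, 2, 1, 0], [1, 0, 1], 576),
  ([0, 12], [0, 0], [], 12),
  ([5, 20, 12], [0, 1, 0, 2], [1, 0, 1], 250),
  ([5, 10], [0, 0], [], 485),
  ([19, 11, 12], [0, 2, 1, 0], [1, 0, 1], 584),
  ([8, 12], [0, 0], [], 396),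
  ([18, 11, 12], [0, 1, 0], [1, 0, 2, 1], 536),
  ([8, 11], [0, 0], [], 395),
  ([17, 5, 12], [0, 2, 1, 0], [1, 0, 1], 578),
  ([2, 12], [0, 0], [], 108),
  ([17, 18, 12], [0, 1, 0, 2], [1, 0, 1], 824),
  ([8, 17], [0, 0], [], 401),
  ([2, 18, 12], [0, 1, 0], [1, 0, 1, 2], 386),
  ([2, 8], [0, 0], [], 104),
  ([19, 6, 21], [0, 1, 0, 2], [1, 0, 1], 916),
  ([4, 19], [0, 0], [], 211),
  ([17, 9, 21], [0, 1, 0], [1, 0, 2, 1], 447),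
  ([9, 15], [0, 0], [], 729),
  ([11, 6, 20], [0, 1, 0], [1, 0, 2, 1], 297),
  ([6, 9], [0, 0], [], 438),
  ([8, 6, 20], [0, 1, 0], [1, 0, 2, 1], 295),
  ([6, 7], [0, 0], [], 342),
  ([19, 11, 6], [0, 2, 1, 0], [1, 0, 1], 296),
  ([6, 8], [0, 0], [], 390),
  ([16, 11, 6], [0, 1, 0], [1, 0, 2, 1], 530),
  ([2, 11], [0, 0], [], 107),
  ([17, 5, 6], [0, 2, 1, 0], [1, 0, 1], 290),
  ([2, 6], [0, 0], [], 102),
  ([16, 17, 6], [0, 1, 0], [1, 0, 2, 1], 818),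
  ([2, 17], [0, 0], [], 113),
  ([1, 16, 6], [0, 1, 0], [1, 0, 1, 2], 97),
  ([1, 2], [0, 0], [], 50),
  ([20, 14, 23], [0, 2, 1, 0], [1, 0, 1], 1117),
  ([13, 23], [0, 0], [], 647),
  ([22, 14, 23], [0, 1, 0], [1, 0, 2, 1], 693),
  ([14, 21], [0, 0], [], 1022),
  ([18, 14, 23], [0, 2, 1, 0], [1, 0, 1], 1115),
  ([11, 23], [0, 0], [], 551),
  ([6, 14, 23], [0, 1, 0], [1, 0, 2, 1], 677),
  ([5, 14], [0, 0], [], 254),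
  ([1, 14, 23], [0, 1, 0], [1, 0, 2, 1], 672),
  ([0, 14], [0, 0], [], 14),
  ([6, 20, 14], [0, 1, 0], [1, 0, 1, 2], 630),
  ([6, 13], [0, 0], [], 301),
  ([19, 22, 14], [0, 1, 0], [1, 0, 2, 1], 1068),
  ([12, 22], [0, 0], [], 598),
  ([18, 22, 14], [0, 1, 0], [1, 0, 2, 1], 1067),
  ([11, 22], [0, 0], [], 550),
  ([5, 22, 14], [0, 2, 1, 0], [1, 0, 1], 676),
  ([4, 14], [0, 0], [], 206),
  ([2, 22, 14], [0, 2, 1, 0], [1, 0, 1], 673),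
  ([1, 14], [0, 0], [], 62),
  ([19, 21, 14], [0, 1, 0], [1, 0, 2, 1], 1020),
  ([12, 21], [0, 0], [], 597),
  ([6, 19, 14], [0, 1, 0], [1, 0, 1, 2], 582),
  ([6, 12], [0, 0], [], 300),
  ([21, 14, 25], [0, 1, 0], [1, 0, 2, 1], 695),
  ([14, 23], [0, 0], [], 1118),
  ([18, 14, 25], [0, 2, 1, 0], [1, 0, 1], 1211),
  ([11, 25], [0, 0], [], 553),
  ([7, 14, 25], [0, 2, 1, 0], [1, 0, 1], 1203),
  ([3, 25], [0, 0], [], 169)]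

/-- A block of steps. -/
def stepsA9 : List Step := [
  ([1, 14, 25], [0, 1, 0], [1, 0, 2, 1], 674),
  ([2, 14], [0, 0], [], 110),
  ([11, 20, 25], [0, 2, 1, 0], [1, 0, 1], 1209),
  ([9, 25], [0, 0], [], 457),
  ([23, 17, 25], [0, 2, 1, 0], [1, 0, 1], 1216),
  ([16, 25], [0, 0], [], 793),
  ([15, 17, 25], [0, 1, 0], [1, 0, 2, 1], 832),
  ([16, 17], [0, 0], [], 785),
  ([18, 10, 25], [0, 2, 1, 0], [1, 0, 1], 1207),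
  ([7, 25], [0, 0], [], 361),
  ([23, 6, 25], [0, 2, 1, 0], [1, 0, 1], 1205),
  ([5, 25], [0, 0], [], 265),
  ([4, 6, 25], [0, 1, 0], [1, 0, 2, 1], 293),
  ([5, 6], [0, 0], [], 246),
  ([16, 21, 25], [0, 1, 0], [1, 0, 1, 2], 1120),
  ([16, 23], [0, 0], [], 791),
  ([5, 21, 25], [0, 1, 0], [1, 0, 1, 2], 1109),
  ([5, 23], [0, 0], [], 263),
  ([4, 18, 25], [0, 1, 0], [1, 0, 2, 1], 869),
  ([5, 18], [0, 0], [], 258),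
  ([15, 11, 25], [0, 1, 0], [1, 0, 2, 1], 544),
  ([11, 16], [0, 0], [], 779),
  ([34, 21, 14], [0, 1, 0], [1, 0, 2, 1], 1035),
  ([21, 27], [0, 0], [], 1317),
  ([35, 21, 14], [0, 1, 0], [1, 0, 2, 1], 1036),
  ([21, 28], [0, 0], [], 1365),
  ([44, 21, 14], [0, 1, 0], [1, 0, 2, 1], 1048),
  ([21, 40], [0, 0], [], 1941),
  ([47, 21, 14], [0, 2, 1, 0], [1, 0, 1], 717),
  ([14, 45], [0, 0], [], 2174),
  ([28, 34, 21], [0, 2, 1, 0], [1, 0, 1], 1045),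
  ([21, 37], [0, 0], [], 1797),
  ([23, 42, 21], [0, 2, 1, 0], [1, 0, 1], 1049),
  ([21, 41], [0, 0], [], 1989),
  ([35, 38, 21], [0, 2, 1, 0], [1, 0, 1], 1052),
  ([21, 44], [0, 0], [], 2133),
  ([23, 31, 21], [0, 2, 1, 0], [1, 0, 1], 1038),
  ([21, 30], [0, 0], [], 1461),
  ([35, 25, 21], [0, 1, 0], [1, 0, 1, 2], 1139),
  ([23, 35], [0, 0], [], 1703),
  ([41, 25, 21], [0, 1, 0], [1, 0, 1, 2], 1145),
  ([23, 41], [0, 0], [], 1991),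
  ([30, 25, 21], [0, 1, 0], [1, 0, 1, 2], 1134),
  ([23, 30], [0, 0], [], 1463),
  ([32, 35, 21], [0, 1, 0], [1, 0, 2, 1], 1710),
  ([30, 35], [0, 0], [], 1475),
  ([28, 43, 21], [0, 1, 0, 2], [1, 0, 1], 1385),
  ([28, 41], [0, 0], [], 1996),
  ([13, 18, 30], [0, 2, 1, 0], [1, 0, 1], 1449),
  ([9, 30], [0, 0], [], 462),
  ([14, 18, 30], [0, 2, 1, 0], [1, 0, 1], 1451),
  ([11, 30], [0, 0], [], 558),
  ([12, 18, 30], [0, 2, 1, 0], [1, 0, 1], 1448),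
  ([8, 30], [0, 0], [], 414),
  ([8, 13, 30], [0, 2, 1, 0], [1, 0, 1], 1443),
  ([3, 30], [0, 0], [], 174),
  ([1, 13, 30], [0, 1, 0], [1, 0, 2, 1], 628),
  ([4, 13], [0, 0], [], 205),
  ([15, 9, 30], [0, 1, 0], [1, 0, 2, 1], 453),
  ([9, 21], [0, 0], [], 1017),
  ([12, 24, 30], [0, 1, 0], [1, 0, 1, 2], 1500),
  ([12, 31], [0, 0], [], 607),
  ([8, 24, 30], [0, 1, 0], [1, 0, 1, 2], 1496),
  ([8, 31], [0, 0], [], 415),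
  ([6, 24, 30], [0, 1, 0], [1, 0, 1, 2], 1494),
  ([6, 31], [0, 0], [], 319),
  ([3, 24, 30], [0, 1, 0], [1, 0, 1, 2], 1491),
  ([3, 31], [0, 0], [], 175),
  ([1, 27, 30], [0, 1, 0], [1, 0, 2, 1], 1300),
  ([4, 27], [0, 0], [], 219),
  ([22, 15, 30], [0, 1, 0], [1, 0, 1, 2], 1030),
  ([21, 22], [0, 0], [], 1077),
  ([12, 2, 30], [0, 1, 0], [1, 0, 1, 2], 252),
  ([5, 12], [0, 0], [], 581),
  ([27, 9, 18], [0, 2, 1, 0], [1, 0, 1], 875),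
  ([11, 18], [0, 0], [], 546),
  ([14, 27, 18], [0, 1, 0], [1, 0, 2, 1], 1307),
  ([11, 27], [0, 0], [], 555),
  ([19, 24, 13], [0, 1, 0], [1, 0, 2, 1], 1162),
  ([10, 24], [0, 0], [], 504),
  ([27, 24, 13], [0, 1, 0], [1, 0, 2, 1], 1166),
  ([14, 24], [0, 0], [], 696),
  ([8, 24, 13], [0, 1, 0], [1, 0, 2, 1], 1155),
  ([3, 24], [0, 0], [], 168),
  ([19, 31, 13], [0, 1, 0], [1, 0, 2, 1], 1498),
  ([10, 31], [0, 0], [], 511),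
  ([11, 27, 13], [0, 1, 0], [1, 0, 1, 2], 683),
  ([11, 14], [0, 0], [], 542),
  ([12, 27, 13], [0, 1, 0], [1, 0, 1, 2], 684),
  ([12, 14], [0, 0], [], 590),
  ([6, 27, 13], [0, 1, 0], [1, 0, 1, 2], 678),
  ([6, 14], [0, 0], [], 302),
  ([6, 27, 9], [0, 1, 0], [1, 0, 1, 2], 534),
  ([6, 11], [0, 0], [], 299),
  ([15, 31, 24], [0, 2, 1, 0], [1, 0, 1], 1174),
  ([22, 24], [0, 0], [], 1080),
  ([2, 31, 24], [0, 2, 1, 0], [1, 0, 1], 1158),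
  ([6, 24], [0, 0], [], 312),
  ([14, 19, 24], [0, 2, 1, 0], [1, 0, 1], 1164),
  ([12, 24], [0, 0], [], 600)]

/-- A block of steps. -/
def stepsA10 : List Step := [
  ([21, 27, 24], [0, 1, 0], [1, 0, 2, 1], 1318),
  ([22, 27], [0, 0], [], 1083),
  ([7, 27, 24], [0, 2, 1, 0], [1, 0, 1], 1160),
  ([8, 24], [0, 0], [], 408),
  ([5, 27, 24], [0, 1, 0], [1, 0, 2, 1], 1302),
  ([6, 27], [0, 0], [], 315),
  ([0, 27, 24], [0, 1, 0], [1, 0, 2, 1], 1297),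
  ([1, 27], [0, 0], [], 75),
  ([14, 21, 24], [0, 1, 0, 2], [1, 0, 1], 694),
  ([14, 22], [0, 0], [], 1070),
  ([2, 19, 31], [0, 1, 0], [1, 0, 2, 1], 918),
  ([6, 19], [0, 0], [], 307),
  ([10, 15, 31], [0, 1, 0, 2], [1, 0, 1], 502),
  ([10, 22], [0, 0], [], 1066),
  ([10, 27, 19], [0, 2, 1, 0], [1, 0, 1], 924),
  ([12, 19], [0, 0], [], 595),
  ([14, 27, 19], [0, 1, 0], [1, 0, 2, 1], 1308),
  ([12, 27], [0, 0], [], 603),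
  ([5, 15, 27], [0, 2, 1, 0], [1, 0, 1], 1296),
  ([0, 27], [0, 0], [], 27),
  ([20, 17, 34], [0, 1, 0], [1, 0, 2, 1], 849),
  ([17, 33], [0, 0], [], 1601),
  ([29, 17, 34], [0, 1, 0], [1, 0, 2, 1], 854),
  ([17, 38], [0, 0], [], 1841),
  ([39, 17, 34], [0, 1, 0], [1, 0, 2, 1], 860),
  ([17, 44], [0, 0], [], 2129),
  ([46, 17, 34], [0, 2, 1, 0], [1, 0, 1], 1675),
  ([34, 43], [0, 0], [], 2098),
  ([35, 20, 34], [0, 1, 0], [1, 0, 1, 2], 1619),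
  ([33, 35], [0, 0], [], 1713),
  ([41, 20, 34], [0, 1, 0], [1, 0, 1, 2], 1625),
  ([33, 41], [0, 0], [], 2001),
  ([36, 20, 34], [0, 1, 0], [1, 0, 1, 2], 1620),
  ([33, 36], [0, 0], [], 1761),
  ([46, 20, 34], [0, 1, 0], [1, 0, 1, 2], 1630),
  ([33, 46], [0, 0], [], 2241),
  ([33, 20, 28], [0, 1, 0], [1, 0, 2, 1], 995),
  ([20, 35], [0, 0], [], 1700),
  ([38, 20, 17], [0, 2, 1, 0], [1, 0, 1], 852),
  ([17, 36], [0, 0], [], 1745),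
  ([26, 31, 17], [0, 1, 0], [1, 0, 1, 2], 1178),
  ([24, 26], [0, 0], [], 1272),
  ([24, 25, 17], [0, 2, 1, 0], [1, 0, 1], 842),
  ([17, 26], [0, 0], [], 1265),
  ([32, 25, 17], [0, 1, 0], [1, 0, 2, 1], 1226),
  ([25, 26], [0, 0], [], 1273),
  ([29, 35, 17], [0, 2, 1, 0], [1, 0, 1], 855),
  ([17, 39], [0, 0], [], 1889),
  ([24, 41, 17], [0, 2, 1, 0], [1, 0, 1], 858),
  ([17, 42], [0, 0], [], 2033),
  ([32, 38, 17], [0, 1, 0], [1, 0, 2, 1], 1850),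
  ([26, 38], [0, 0], [], 1286),
  ([29, 33, 20], [0, 2, 1, 0], [1, 0, 1], 996),
  ([20, 36], [0, 0], [], 1748),
  ([24, 25, 33], [0, 2, 1, 0], [1, 0, 1], 1610),
  ([26, 33], [0, 0], [], 1281),
  ([29, 25, 33], [0, 1, 0], [1, 0, 2, 1], 1236),
  ([25, 36], [0, 0], [], 1753),
  ([33, 35, 10], [0, 1, 0], [1, 0, 1, 2], 993),
  ([20, 33], [0, 0], [], 1604),
  ([15, 35, 10], [0, 1, 0], [1, 0, 1, 2], 975),
  ([15, 20], [0, 0], [], 740),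
  ([34, 42, 10], [0, 1, 0], [1, 0, 2, 1], 2035),
  ([19, 42], [0, 0], [], 954),
  ([18, 42, 10], [0, 1, 0], [1, 0, 2, 1], 2023),
  ([7, 42], [0, 0], [], 378),
  ([33, 34, 10], [0, 1, 0], [1, 0, 1, 2], 945),
  ([19, 33], [0, 0], [], 1603),
  ([16, 34, 10], [0, 1, 0], [1, 0, 1, 2], 928),
  ([16, 19], [0, 0], [], 787),
  ([41, 23, 4], [0, 1, 0], [1, 0, 2, 1], 1125),
  ([21, 23], [0, 0], [], 1031),
  ([41, 34, 4], [0, 1, 0], [1, 0, 2, 1], 1653),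
  ([21, 34], [0, 0], [], 1042),
  ([17, 34, 4], [0, 1, 0], [1, 0, 2, 1], 1633),
  ([1, 34], [0, 0], [], 82),
  ([16, 34, 4], [0, 1, 0], [1, 0, 2, 1], 1632),
  ([0, 34], [0, 0], [], 34),
  ([33, 11, 35], [0, 2, 1, 0], [1, 0, 1], 1698),
  ([18, 35], [0, 0], [], 899),
  ([2, 42, 35], [0, 2, 1, 0], [1, 0, 1], 1697),
  ([17, 35], [0, 0], [], 851),
  ([8, 42, 35], [0, 1, 0], [1, 0, 2, 1], 2034),
  ([18, 42], [0, 0], [], 906),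
  ([0, 42, 35], [0, 2, 1, 0], [1, 0, 1], 1695),
  ([15, 35], [0, 0], [], 755),
  ([17, 23, 35], [0, 2, 1, 0], [1, 0, 1], 1696),
  ([16, 35], [0, 0], [], 803),
  ([19, 2, 35], [0, 1, 0], [1, 0, 2, 1], 129),
  ([2, 33], [0, 0], [], 1586),
  ([21, 2, 35], [0, 2, 1, 0], [1, 0, 1], 1680),
  ([0, 35], [0, 0], [], 35),
  ([19, 34, 35], [0, 1, 0], [1, 0, 2, 1], 1665),
  ([33, 34], [0, 0], [], 1618),
  ([8, 34, 35], [0, 1, 0], [1, 0, 2, 1], 1650),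
  ([18, 34], [0, 0], [], 898),
  ([18, 19, 35], [0, 1, 0], [1, 0, 1, 2], 1602),
  ([18, 33], [0, 0], [], 897),
  ([8, 41, 35], [0, 1, 0], [1, 0, 2, 1], 1986),
  ([18, 41], [0, 0], [], 905)]

/-- A block of steps. -/
def stepsA11 : List Step := [
  ([8, 17, 35], [0, 1, 0], [1, 0, 2, 1], 834),
  ([17, 18], [0, 0], [], 881),
  ([41, 11, 20], [0, 1, 0], [1, 0, 1, 2], 473),
  ([9, 41], [0, 0], [], 1977),
  ([23, 42, 20], [0, 2, 1, 0], [1, 0, 1], 1001),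
  ([20, 41], [0, 0], [], 1988),
  ([34, 23, 20], [0, 1, 0], [1, 0, 2, 1], 1137),
  ([23, 33], [0, 0], [], 1607),
  ([8, 41, 20], [0, 1, 0], [1, 0, 2, 1], 1975),
  ([7, 41], [0, 0], [], 377),
  ([41, 19, 11], [0, 1, 0, 2], [1, 0, 1], 1976),
  ([8, 41], [0, 0], [], 425),
  ([34, 23, 3], [0, 1, 0], [1, 0, 2, 1], 1112),
  ([8, 23], [0, 0], [], 407),
  ([16, 23, 42], [0, 1, 0], [1, 0, 1, 2], 1984),
  ([16, 41], [0, 0], [], 809),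
  ([0, 34, 42], [0, 1, 0], [1, 0, 2, 1], 1647),
  ([15, 34], [0, 0], [], 754),
  ([17, 34, 23], [0, 1, 0], [1, 0, 2, 1], 1648),
  ([16, 34], [0, 0], [], 802),
  ([9, 29, 20], [0, 2, 1, 0], [1, 0, 1], 973),
  ([13, 20], [0, 0], [], 644),
  ([12, 26, 20], [0, 1, 0], [1, 0, 2, 1], 1258),
  ([10, 26], [0, 0], [], 506),
  ([8, 24, 20], [0, 1, 0], [1, 0, 2, 1], 1159),
  ([7, 24], [0, 0], [], 360),
  ([5, 24, 20], [0, 2, 1, 0], [1, 0, 1], 966),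
  ([6, 20], [0, 0], [], 308),
  ([2, 29, 31], [0, 1, 0], [1, 0, 2, 1], 1398),
  ([6, 29], [0, 0], [], 317),
  ([2, 26, 31], [0, 1, 0], [1, 0, 2, 1], 1254),
  ([6, 26], [0, 0], [], 314),
  ([17, 19, 31], [0, 1, 0], [1, 0, 2, 1], 936),
  ([19, 24], [0, 0], [], 1171),
  ([13, 11, 29], [0, 1, 0], [1, 0, 1, 2], 685),
  ([13, 14], [0, 0], [], 638),
  ([5, 22, 29], [0, 2, 1, 0], [1, 0, 1], 1396),
  ([4, 29], [0, 0], [], 221),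
  ([2, 22, 29], [0, 2, 1, 0], [1, 0, 1], 1393),
  ([1, 29], [0, 0], [], 77),
  ([17, 9, 29], [0, 1, 0, 2], [1, 0, 1], 829),
  ([13, 17], [0, 0], [], 641),
  ([14, 19, 29], [0, 2, 1, 0], [1, 0, 1], 1404),
  ([12, 29], [0, 0], [], 605),
  ([8, 17, 29], [0, 1, 0], [1, 0, 2, 1], 828),
  ([12, 17], [0, 0], [], 593),
  ([5, 17, 29], [0, 2, 1, 0], [1, 0, 1], 1394),
  ([2, 29], [0, 0], [], 125),
  ([24, 15, 26], [0, 1, 0], [1, 0, 1, 2], 840),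
  ([17, 24], [0, 0], [], 1169),
  ([19, 9, 26], [0, 2, 1, 0], [1, 0, 1], 1255),
  ([7, 26], [0, 0], [], 362),
  ([12, 9, 26], [0, 2, 1, 0], [1, 0, 1], 1251),
  ([3, 26], [0, 0], [], 170),
  ([14, 19, 26], [0, 2, 1, 0], [1, 0, 1], 1260),
  ([12, 26], [0, 0], [], 602),
  ([8, 41, 36], [0, 1, 0], [1, 0, 2, 1], 1987),
  ([19, 41], [0, 0], [], 953),
  ([1, 41, 36], [0, 2, 1, 0], [1, 0, 1], 1743),
  ([15, 36], [0, 0], [], 756),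
  ([2, 41, 36], [0, 2, 1, 0], [1, 0, 1], 1744),
  ([16, 36], [0, 0], [], 804),
  ([3, 25, 36], [0, 1, 0], [1, 0, 2, 1], 1210),
  ([10, 25], [0, 0], [], 505),
  ([18, 25, 36], [0, 1, 0], [1, 0, 2, 1], 1233),
  ([25, 33], [0, 0], [], 1609),
  ([9, 25, 36], [0, 1, 0], [1, 0, 2, 1], 1220),
  ([20, 25], [0, 0], [], 985),
  ([1, 25, 36], [0, 2, 1, 0], [1, 0, 1], 1730),
  ([2, 36], [0, 0], [], 132),
  ([25, 41, 5], [0, 1, 0], [1, 0, 1, 2], 1129),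
  ([23, 25], [0, 0], [], 1223),
  ([17, 35, 5], [0, 1, 0], [1, 0, 2, 1], 1682),
  ([2, 35], [0, 0], [], 131),
  ([18, 43, 5], [0, 1, 0], [1, 0, 1, 2], 1218),
  ([18, 25], [0, 0], [], 889),
  ([19, 43, 13], [0, 1, 0], [1, 0, 2, 1], 2074),
  ([10, 43], [0, 0], [], 523),
  ([18, 43, 13], [0, 1, 0], [1, 0, 2, 1], 2073),
  ([9, 43], [0, 0], [], 475),
  ([19, 41, 26], [0, 1, 0], [1, 0, 1, 2], 2083),
  ([19, 43], [0, 0], [], 955),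
  ([7, 41, 26], [0, 1, 0], [1, 0, 1, 2], 2071),
  ([7, 43], [0, 0], [], 379),
  ([3, 35, 26], [0, 2, 1, 0], [1, 0, 1], 1257),
  ([9, 26], [0, 0], [], 458),
  ([35, 14, 5], [0, 2, 1, 0], [1, 0, 1], 268),
  ([5, 28], [0, 0], [], 1349),
  ([23, 31, 5], [0, 2, 1, 0], [1, 0, 1], 270),
  ([5, 30], [0, 0], [], 1445),
  ([39, 18, 5], [0, 2, 1, 0], [1, 0, 1], 275),
  ([5, 35], [0, 0], [], 1685),
  ([40, 18, 5], [0, 2, 1, 0], [1, 0, 1], 277),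
  ([5, 37], [0, 0], [], 1781),
  ([45, 18, 5], [0, 1, 0], [1, 0, 2, 1], 894),
  ([18, 30], [0, 0], [], 1458),
  ([39, 27, 5], [0, 2, 1, 0], [1, 0, 1], 280),
  ([5, 40], [0, 0], [], 1925),
  ([47, 27, 5], [0, 1, 0], [1, 0, 2, 1], 1328),
  ([27, 32], [0, 0], [], 1563)]

/-- A block of steps. -/
def stepsA12 : List Step := [
  ([37, 43, 5], [0, 1, 0], [1, 0, 1, 2], 1237),
  ([25, 37], [0, 0], [], 1801),
  ([41, 39, 5], [0, 1, 0], [1, 0, 2, 1], 1895),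
  ([23, 39], [0, 0], [], 1143),
  ([11, 14, 38], [0, 1, 0], [1, 0, 2, 1], 699),
  ([14, 27], [0, 0], [], 1310),
  ([27, 18, 38], [0, 1, 0], [1, 0, 1, 2], 1659),
  ([27, 34], [0, 0], [], 1330),
  ([28, 18, 14], [0, 1, 0], [1, 0, 1, 2], 556),
  ([11, 28], [0, 0], [], 1355),
  ([45, 18, 14], [0, 1, 0], [1, 0, 1, 2], 573),
  ([11, 45], [0, 0], [], 2171),
  ([46, 18, 14], [0, 1, 0], [1, 0, 1, 2], 574),
  ([11, 46], [0, 0], [], 2219),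
  ([25, 11, 31], [0, 1, 0], [1, 0, 2, 1], 560),
  ([11, 32], [0, 0], [], 1547),
  ([30, 43, 18], [0, 2, 1, 0], [1, 0, 1], 910),
  ([18, 46], [0, 0], [], 2226),
  ([33, 24, 21], [0, 1, 0], [1, 0, 1, 2], 1089),
  ([22, 33], [0, 0], [], 1606),
  ([33, 28, 21], [0, 2, 1, 0], [1, 0, 1], 1043),
  ([21, 35], [0, 0], [], 1701),
  ([12, 33, 34], [0, 2, 1, 0], [1, 0, 1], 1651),
  ([19, 34], [0, 0], [], 946),
  ([4, 42, 29], [0, 2, 1, 0], [1, 0, 1], 1414),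
  ([22, 29], [0, 0], [], 1085),
  ([34, 4, 29], [0, 1, 0], [1, 0, 2, 1], 230),
  ([4, 38], [0, 0], [], 1828),
  ([37, 4, 29], [0, 1, 0], [1, 0, 2, 1], 232),
  ([4, 40], [0, 0], [], 1924),
  ([37, 4, 42], [0, 1, 0], [1, 0, 1, 2], 1093),
  ([22, 37], [0, 0], [], 1798),
  ([34, 28, 4], [0, 2, 1, 0], [1, 0, 1], 229),
  ([4, 37], [0, 0], [], 1780),
  ([41, 38, 4], [0, 1, 0], [1, 0, 2, 1], 1845),
  ([21, 38], [0, 0], [], 1046),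
  ([22, 32, 11], [0, 2, 1, 0], [1, 0, 1], 559),
  ([11, 31], [0, 0], [], 1499),
  ([27, 23, 33], [0, 1, 0], [1, 0, 2, 1], 1138),
  ([23, 34], [0, 0], [], 1655),
  ([45, 26, 19], [0, 2, 1, 0], [1, 0, 1], 959),
  ([19, 47], [0, 0], [], 2275),
  ([33, 29, 19], [0, 2, 1, 0], [1, 0, 1], 948),
  ([19, 36], [0, 0], [], 1747),
  ([41, 31, 19], [0, 2, 1, 0], [1, 0, 1], 957),
  ([19, 45], [0, 0], [], 2179),
  ([16, 24, 34], [0, 2, 1, 0], [1, 0, 1], 1649),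
  ([17, 34], [0, 0], [], 850),
  ([42, 20, 6], [0, 1, 0], [1, 0, 2, 1], 984),
  ([20, 24], [0, 0], [], 1172),
  ([12, 42, 20], [0, 1, 0], [1, 0, 2, 1], 2026),
  ([10, 42], [0, 0], [], 522),
  ([18, 12, 42], [0, 2, 1, 0], [1, 0, 1], 2024),
  ([8, 42], [0, 0], [], 426),
  ([42, 18, 30], [0, 1, 0], [1, 0, 2, 1], 909),
  ([18, 45], [0, 0], [], 2178),
  ([37, 22, 16], [0, 1, 0], [1, 0, 1, 2], 757),
  ([15, 37], [0, 0], [], 1791),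
  ([44, 22, 16], [0, 1, 0], [1, 0, 1, 2], 764),
  ([15, 44], [0, 0], [], 2127),
  ([34, 39, 16], [0, 2, 1, 0], [1, 0, 1], 812),
  ([16, 44], [0, 0], [], 2128),
  ([36, 15, 27], [0, 1, 0], [1, 0, 2, 1], 758),
  ([15, 38], [0, 0], [], 1839),
  ([24, 14, 34], [0, 1, 0, 2], [1, 0, 1], 1179),
  ([24, 27], [0, 0], [], 1320),
  ([36, 28, 6], [0, 2, 1, 0], [1, 0, 1], 327),
  ([6, 39], [0, 0], [], 1878),
  ([38, 28, 6], [0, 2, 1, 0], [1, 0, 1], 328),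
  ([6, 40], [0, 0], [], 1926),
  ([27, 36, 6], [0, 2, 1, 0], [1, 0, 1], 326),
  ([6, 38], [0, 0], [], 1830),
  ([30, 26, 12], [0, 2, 1, 0], [1, 0, 1], 608),
  ([12, 32], [0, 0], [], 1548),
  ([45, 26, 12], [0, 2, 1, 0], [1, 0, 1], 623),
  ([12, 47], [0, 0], [], 2268),
  ([30, 42, 12], [0, 2, 1, 0], [1, 0, 1], 621),
  ([12, 45], [0, 0], [], 2172),
  ([8, 42, 29], [0, 1, 0], [1, 0, 2, 1], 2028),
  ([12, 42], [0, 0], [], 618),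
  ([2, 42, 29], [0, 2, 1, 0], [1, 0, 1], 1409),
  ([17, 29], [0, 0], [], 845),
  ([1, 33, 29], [0, 1, 0], [1, 0, 1, 2], 1729),
  ([1, 36], [0, 0], [], 84),
  ([12, 26, 33], [0, 1, 0], [1, 0, 2, 1], 1267),
  ([19, 26], [0, 0], [], 938),
  ([2, 41, 39], [0, 2, 1, 0], [1, 0, 1], 1888),
  ([16, 39], [0, 0], [], 807),
  ([43, 34, 9], [0, 1, 0], [1, 0, 1, 2], 907),
  ([18, 43], [0, 0], [], 2082),
  ([21, 6, 28], [0, 2, 1, 0], [1, 0, 1], 1348),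
  ([4, 28], [0, 0], [], 220),
  ([16, 6, 28], [0, 2, 1, 0], [1, 0, 1], 1346),
  ([2, 28], [0, 0], [], 124),
  ([2, 21, 28], [0, 2, 1, 0], [1, 0, 1], 1344),
  ([0, 28], [0, 0], [], 28),
  ([3, 35, 32], [0, 2, 1, 0], [1, 0, 1], 1545),
  ([9, 32], [0, 0], [], 464),
  ([10, 35, 32], [0, 2, 1, 0], [1, 0, 1], 1556),
  ([20, 32], [0, 0], [], 992)]

/-- A block of steps. -/
def stepsA13 : List Step := [
  ([10, 42, 32], [0, 1, 0], [1, 0, 1, 2], 2266),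
  ([10, 47], [0, 0], [], 527),
  ([36, 3, 32], [0, 2, 1, 0], [1, 0, 1], 1546),
  ([10, 32], [0, 0], [], 512),
  ([36, 1, 32], [0, 1, 0], [1, 0, 1, 2], 324),
  ([6, 36], [0, 0], [], 1734),
  ([2, 29, 35], [0, 1, 0], [1, 0, 1, 2], 1874),
  ([2, 39], [0, 0], [], 135),
  ([16, 13, 47], [0, 1, 0], [1, 0, 2, 1], 667),
  ([13, 43], [0, 0], [], 2077),
  ([28, 26, 4], [0, 1, 0], [1, 0, 1, 2], 316),
  ([6, 28], [0, 0], [], 1350),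
  ([46, 13, 4], [0, 1, 0], [1, 0, 2, 1], 654),
  ([13, 30], [0, 0], [], 1453),
  ([29, 25, 4], [0, 1, 0], [1, 0, 1, 2], 269),
  ([5, 29], [0, 0], [], 1397),
  ([29, 5, 35], [0, 1, 0], [1, 0, 2, 1], 279),
  ([5, 39], [0, 0], [], 1877),
  ([27, 6, 23], [0, 1, 0, 2], [1, 0, 1], 1301),
  ([5, 27], [0, 0], [], 267),
  ([30, 3, 38], [0, 1, 0], [1, 0, 1, 2], 606),
  ([12, 30], [0, 0], [], 1452),
  ([30, 3, 26], [0, 1, 0], [1, 0, 2, 1], 176),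
  ([3, 32], [0, 0], [], 1539),
  ([28, 16, 34], [0, 1, 0], [1, 0, 2, 1], 805),
  ([16, 37], [0, 0], [], 1792),
  ([37, 16, 4], [0, 1, 0], [1, 0, 1, 2], 37),
  ([0, 37], [0, 0], [], 1776),
  ([18, 38, 4], [0, 2, 1, 0], [1, 0, 1], 226),
  ([4, 34], [0, 0], [], 1636),
  ([41, 8, 28], [0, 1, 0], [1, 0, 1, 2], 569),
  ([11, 41], [0, 0], [], 1979),
  ([15, 11, 38], [0, 1, 0], [1, 0, 1, 2], 1311),
  ([15, 27], [0, 0], [], 747),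
  ([30, 42, 8], [0, 2, 1, 0], [1, 0, 1], 429),
  ([8, 45], [0, 0], [], 2168),
  ([47, 4, 19], [0, 2, 1, 0], [1, 0, 1], 943),
  ([19, 31], [0, 0], [], 1507),
  ([38, 15, 6], [0, 1, 0, 2], [1, 0, 1], 1825),
  ([1, 38], [0, 0], [], 86),
  ([30, 43, 9], [0, 2, 1, 0], [1, 0, 1], 478),
  ([9, 46], [0, 0], [], 2217),
  ([28, 43, 0], [0, 1, 0, 2], [1, 0, 1], 1360),
  ([16, 28], [0, 0], [], 796),
  ([37, 33, 26], [0, 1, 0], [1, 0, 3, 2, 1], 1623),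
  ([33, 39], [0, 0], [], 1905),
  ([31, 33, 26], [0, 3, 2, 1, 0], [1, 0, 1], 1290),
  ([26, 42], [0, 0], [], 2042),
  ([27, 28, 26], [0, 1, 0], [1, 0, 3, 2, 1], 1373),
  ([28, 29], [0, 0], [], 1420),
  ([42, 28, 26], [0, 3, 2, 1, 0], [1, 0, 1], 1294),
  ([26, 46], [0, 0], [], 2234),
  ([34, 35, 26], [0, 1, 0], [1, 0, 3, 2, 1], 1716),
  ([35, 36], [0, 0], [], 1763),
  ([42, 27, 26], [0, 1, 0], [1, 0, 1, 2, 3], 1530),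
  ([31, 42], [0, 0], [], 2047),
  ([44, 27, 26], [0, 1, 0], [1, 0, 1, 2, 3], 1436),
  ([29, 44], [0, 0], [], 2141),
  ([46, 27, 26], [0, 1, 0], [1, 0, 1, 2, 3], 1534),
  ([31, 46], [0, 0], [], 2239),
  ([40, 34, 26], [0, 1, 0], [1, 0, 1, 2, 3], 1768),
  ([36, 40], [0, 0], [], 1956),
  ([46, 34, 26], [0, 1, 0], [1, 0, 1, 2, 3], 2062),
  ([42, 46], [0, 0], [], 2250),
  ([38, 37, 26], [0, 1, 0, 3], [1, 0, 1, 2], 1910),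
  ([38, 39], [0, 0], [], 1863),
  ([30, 22, 33], [0, 1, 0], [1, 0, 3, 2, 1], 1097),
  ([22, 41], [0, 0], [], 1990),
  ([39, 22, 33], [0, 3, 2, 1, 0], [1, 0, 1], 1622),
  ([33, 38], [0, 0], [], 1857),
  ([32, 24, 33], [0, 1, 0], [1, 0, 3, 2, 1], 1195),
  ([24, 43], [0, 0], [], 2088),
  ([39, 30, 33], [0, 1, 0, 3], [1, 0, 1, 2], 1815),
  ([37, 39], [0, 0], [], 1909),
  ([38, 30, 33], [0, 1, 0], [1, 0, 1, 2, 3], 1814),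
  ([37, 38], [0, 0], [], 1861),
  ([47, 30, 33], [0, 1, 0], [1, 0, 1, 2, 3], 2015),
  ([41, 47], [0, 0], [], 2297),
  ([45, 32, 33], [0, 1, 0], [1, 0, 1, 2, 3], 2109),
  ([43, 45], [0, 0], [], 2203),
  ([29, 22, 28], [0, 1, 0, 3], [1, 0, 1, 2], 1325),
  ([27, 29], [0, 0], [], 1419),
  ([41, 22, 28], [0, 1, 0], [1, 0, 1, 2, 3], 1481),
  ([30, 41], [0, 0], [], 1998),
  ([44, 22, 28], [0, 1, 0], [1, 0, 1, 2, 3], 1340),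
  ([27, 44], [0, 0], [], 2139),
  ([47, 22, 28], [0, 1, 0], [1, 0, 1, 2, 3], 1487),
  ([30, 47], [0, 0], [], 2286),
  ([43, 24, 28], [0, 1, 0], [1, 0, 1, 2, 3], 1579),
  ([32, 43], [0, 0], [], 2096),
  ([45, 24, 28], [0, 1, 0], [1, 0, 1, 2, 3], 1581),
  ([32, 45], [0, 0], [], 2192),
  ([43, 27, 28], [0, 3, 2, 1, 0], [1, 0, 1], 1388),
  ([28, 44], [0, 0], [], 2140),
  ([36, 22, 35], [0, 1, 0, 3], [1, 0, 1, 2], 1668),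
  ([34, 36], [0, 0], [], 1762),
  ([40, 22, 35], [0, 1, 0], [1, 0, 1, 2, 3], 1672),
  ([34, 40], [0, 0], [], 1954),
  ([32, 34, 35], [0, 3, 2, 1, 0], [1, 0, 1], 1720),
  ([35, 40], [0, 0], [], 1955)]

/-- A block of steps. -/
def stepsA14 : List Step := [
  ([41, 29, 22], [0, 3, 2, 1, 0], [1, 0, 1], 1103),
  ([22, 47], [0, 0], [], 2278),
  ([43, 27, 24], [0, 3, 2, 1, 0], [1, 0, 1], 1197),
  ([24, 45], [0, 0], [], 2184),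
  ([37, 14, 24], [0, 1, 0], [1, 0, 3, 2, 1], 710),
  ([14, 38], [0, 0], [], 1838),
  ([43, 14, 24], [0, 3, 2, 1, 0], [1, 0, 1], 1184),
  ([24, 32], [0, 0], [], 1560),
  ([28, 20, 24], [0, 1, 0], [1, 0, 3, 2, 1], 989),
  ([20, 29], [0, 0], [], 1412),
  ([35, 13, 24], [0, 1, 0], [1, 0, 3, 2, 1], 660),
  ([13, 36], [0, 0], [], 1741),
  ([25, 41, 14], [0, 1, 0], [1, 0, 1, 2, 3], 1465),
  ([25, 30], [0, 0], [], 1230),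
  ([26, 42, 14], [0, 1, 0], [1, 0, 1, 2, 3], 1514),
  ([26, 31], [0, 0], [], 1279),
  ([26, 37, 14], [0, 3, 2, 1, 0], [1, 0, 1], 711),
  ([14, 39], [0, 0], [], 1886),
  ([30, 41, 20], [0, 1, 0], [1, 0, 3, 2, 1], 1993),
  ([25, 41], [0, 0], [], 1241),
  ([29, 41, 20], [0, 3, 2, 1, 0], [1, 0, 1], 1004),
  ([20, 44], [0, 0], [], 2132),
  ([47, 30, 20], [0, 1, 0], [1, 0, 1, 2, 3], 1247),
  ([25, 47], [0, 0], [], 2281),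
  ([36, 30, 13], [0, 3, 2, 1, 0], [1, 0, 1], 664),
  ([13, 40], [0, 0], [], 1933),
  ([38, 14, 23], [0, 1, 0], [1, 0, 3, 2, 1], 709),
  ([14, 37], [0, 0], [], 1790),
  ([43, 14, 23], [0, 3, 2, 1, 0], [1, 0, 1], 1136),
  ([23, 32], [0, 0], [], 1559),
  ([36, 34, 23], [0, 1, 0], [1, 0, 3, 2, 1], 1667),
  ([34, 35], [0, 0], [], 1714),
  ([32, 34, 23], [0, 3, 2, 1, 0], [1, 0, 1], 1149),
  ([23, 45], [0, 0], [], 2183),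
  ([29, 27, 23], [0, 1, 0], [1, 0, 3, 2, 1], 1324),
  ([27, 28], [0, 0], [], 1371),
  ([11, 13, 22], [0, 1, 0], [1, 0, 1, 2, 3], 587),
  ([11, 12], [0, 0], [], 540),
  ([17, 13, 22], [0, 1, 0], [1, 0, 1, 2, 3], 305),
  ([6, 17], [0, 0], [], 822),
  ([7, 13, 22], [0, 1, 0], [1, 0, 1, 2, 3], 583),
  ([7, 12], [0, 0], [], 348),
  ([0, 13, 22], [0, 1, 0], [1, 0, 1, 2, 3], 288),
  ([0, 6], [0, 0], [], 6),
  ([6, 33, 22], [0, 3, 2, 1, 0], [1, 0, 1], 1073),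
  ([17, 22], [0, 0], [], 838),
  ([9, 33, 22], [0, 1, 0], [1, 0, 3, 2, 1], 1592),
  ([8, 33], [0, 0], [], 417),
  ([18, 20, 22], [0, 1, 0, 3], [1, 0, 1, 2], 930),
  ([18, 19], [0, 0], [], 883),
  ([3, 20, 22], [0, 1, 0], [1, 0, 1, 2, 3], 915),
  ([3, 19], [0, 0], [], 163),
  ([0, 20, 22], [0, 1, 0], [1, 0, 1, 2, 3], 816),
  ([0, 17], [0, 0], [], 17),
  ([18, 6, 22], [0, 3, 2, 1, 0], [1, 0, 1], 1056),
  ([0, 22], [0, 0], [], 22),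
  ([9, 10, 22], [0, 1, 0], [1, 0, 3, 2, 1], 488),
  ([8, 10], [0, 0], [], 394),
  ([12, 23, 13], [0, 3, 2, 1, 0], [1, 0, 1], 635),
  ([11, 13], [0, 0], [], 541),
  ([15, 23, 13], [0, 1, 0], [1, 0, 3, 2, 1], 1106),
  ([2, 23], [0, 0], [], 119),
  ([16, 12, 13], [0, 3, 2, 1, 0], [1, 0, 1], 631),
  ([7, 13], [0, 0], [], 349),
  ([16, 21, 13], [0, 1, 0], [1, 0, 1, 2, 3], 256),
  ([5, 16], [0, 0], [], 773),
  ([7, 21, 13], [0, 1, 0], [1, 0, 1, 2, 3], 535),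
  ([7, 11], [0, 0], [], 347),
  ([1, 21, 13], [0, 1, 0], [1, 0, 1, 2, 3], 241),
  ([1, 5], [0, 0], [], 53),
  ([15, 4, 13], [0, 1, 0], [1, 0, 3, 2, 1], 194),
  ([2, 4], [0, 0], [], 100),
  ([10, 33, 23], [0, 1, 0], [1, 0, 3, 2, 1], 1593),
  ([9, 33], [0, 0], [], 465),
  ([4, 33, 23], [0, 3, 2, 1, 0], [1, 0, 1], 1119),
  ([15, 23], [0, 0], [], 743),
  ([15, 12, 23], [0, 1, 0], [1, 0, 1, 2, 3], 207),
  ([4, 15], [0, 0], [], 724),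
  ([19, 20, 23], [0, 1, 0], [1, 0, 3, 2, 1], 978),
  ([18, 20], [0, 0], [], 884),
  ([3, 19, 23], [0, 1, 0, 3], [1, 0, 1, 2], 867),
  ([3, 18], [0, 0], [], 162),
  ([2, 19, 23], [0, 1, 0], [1, 0, 1, 2, 3], 722),
  ([2, 15], [0, 0], [], 111),
  ([8, 10, 23], [0, 1, 0, 3], [1, 0, 1, 2], 440),
  ([8, 9], [0, 0], [], 393),
  ([5, 21, 33], [0, 1, 0], [1, 0, 3, 2, 1], 1024),
  ([16, 21], [0, 0], [], 789),
  ([9, 6, 33], [0, 1, 0, 3], [1, 0, 1, 2], 489),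
  ([9, 10], [0, 0], [], 442),
  ([1, 5, 33], [0, 1, 0], [1, 0, 1, 2, 3], 769),
  ([1, 16], [0, 0], [], 64),
  ([16, 21, 12], [0, 1, 0], [1, 0, 3, 2, 1], 1009),
  ([1, 21], [0, 0], [], 69),
  ([18, 6, 20], [0, 3, 2, 1, 0], [1, 0, 1], 963),
  ([3, 20], [0, 0], [], 164),
  ([10, 14, 23], [0, 1, 0], [1, 0, 3, 2, 1], 681),
  ([9, 14], [0, 0], [], 446),
  ([15, 14, 23], [0, 3, 2, 1, 0], [1, 0, 1], 1108),
  ([4, 23], [0, 0], [], 215)]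

/-- A block of steps. -/
def stepsA15 : List Step := [
  ([17, 22, 14], [0, 1, 0], [1, 0, 3, 2, 1], 1062),
  ([6, 22], [0, 0], [], 310),
  ([9, 22, 14], [0, 3, 2, 1, 0], [1, 0, 1], 680),
  ([8, 14], [0, 0], [], 398),
  ([16, 21, 14], [0, 1, 0], [1, 0, 3, 2, 1], 1013),
  ([5, 21], [0, 0], [], 261),
  ([17, 14, 25], [0, 3, 2, 1, 0], [1, 0, 1], 1206),
  ([6, 25], [0, 0], [], 313),
  ([11, 17, 25], [0, 3, 2, 1, 0], [1, 0, 1], 1200),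
  ([0, 25], [0, 0], [], 25),
  ([42, 21, 14], [0, 1, 0], [1, 0, 3, 2, 1], 1039),
  ([21, 31], [0, 0], [], 1509),
  ([28, 42, 21], [0, 3, 2, 1, 0], [1, 0, 1], 1054),
  ([21, 46], [0, 0], [], 2229),
  ([19, 18, 30], [0, 1, 0], [1, 0, 3, 2, 1], 891),
  ([18, 27], [0, 0], [], 1314),
  ([6, 18, 30], [0, 3, 2, 1, 0], [1, 0, 1], 1440),
  ([0, 30], [0, 0], [], 30),
  ([22, 13, 30], [0, 3, 2, 1, 0], [1, 0, 1], 1446),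
  ([6, 30], [0, 0], [], 318),
  ([3, 19, 30], [0, 1, 0], [1, 0, 1, 2, 3], 1299),
  ([3, 27], [0, 0], [], 171),
  ([27, 24, 18], [0, 1, 0, 3], [1, 0, 1, 2], 939),
  ([19, 27], [0, 0], [], 1315),
  ([15, 24, 13], [0, 1, 0], [1, 0, 3, 2, 1], 1154),
  ([2, 24], [0, 0], [], 120),
  ([11, 24, 13], [0, 3, 2, 1, 0], [1, 0, 1], 636),
  ([12, 13], [0, 0], [], 589),
  ([21, 31, 13], [0, 1, 0], [1, 0, 3, 2, 1], 1493),
  ([5, 31], [0, 0], [], 271),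
  ([14, 24, 9], [0, 1, 0, 3], [1, 0, 1, 2], 494),
  ([10, 14], [0, 0], [], 682),
  ([2, 27, 24], [0, 3, 2, 1, 0], [1, 0, 1], 1156),
  ([4, 24], [0, 0], [], 216),
  ([5, 19, 31], [0, 3, 2, 1, 0], [1, 0, 1], 1489),
  ([1, 31], [0, 0], [], 79),
  ([25, 17, 34], [0, 1, 0], [1, 0, 3, 2, 1], 857),
  ([17, 41], [0, 0], [], 1985),
  ([38, 25, 17], [0, 3, 2, 1, 0], [1, 0, 1], 863),
  ([17, 47], [0, 0], [], 2273),
  ([9, 42, 10], [0, 3, 2, 1, 0], [1, 0, 1], 513),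
  ([10, 33], [0, 0], [], 1594),
  ([21, 42, 10], [0, 1, 0], [1, 0, 3, 2, 1], 2017),
  ([1, 42], [0, 0], [], 90),
  ([34, 35, 4], [0, 1, 0], [1, 0, 1, 2, 3], 562),
  ([11, 34], [0, 0], [], 1643),
  ([17, 11, 35], [0, 3, 2, 1, 0], [1, 0, 1], 1687),
  ([7, 35], [0, 0], [], 371),
  ([1, 42, 35], [0, 1, 0], [1, 0, 3, 2, 1], 2032),
  ([16, 42], [0, 0], [], 810),
  ([7, 22, 35], [0, 1, 0], [1, 0, 1, 2, 3], 1639),
  ([7, 34], [0, 0], [], 370),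
  ([0, 22, 35], [0, 1, 0], [1, 0, 1, 2, 3], 1968),
  ([0, 41], [0, 0], [], 41),
  ([42, 3, 20], [0, 3, 2, 1, 0], [1, 0, 1], 979),
  ([19, 20], [0, 0], [], 932),
  ([19, 31, 20], [0, 1, 0], [1, 0, 1, 2, 3], 1411),
  ([19, 29], [0, 0], [], 941),
  ([5, 31, 20], [0, 1, 0], [1, 0, 1, 2, 3], 1253),
  ([5, 26], [0, 0], [], 266),
  ([3, 31, 20], [0, 1, 0], [1, 0, 1, 2, 3], 1395),
  ([3, 29], [0, 0], [], 173),
  ([1, 31, 20], [0, 1, 0], [1, 0, 1, 2, 3], 1249),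
  ([1, 26], [0, 0], [], 74),
  ([35, 5, 36], [0, 1, 0], [1, 0, 1, 2, 3], 659),
  ([13, 35], [0, 0], [], 1693),
  ([16, 5, 36], [0, 1, 0], [1, 0, 1, 2, 3], 1264),
  ([16, 26], [0, 0], [], 794),
  ([15, 13, 36], [0, 3, 2, 1, 0], [1, 0, 1], 1735),
  ([7, 36], [0, 0], [], 372),
  ([15, 23, 36], [0, 1, 0], [1, 0, 1, 2, 3], 2079),
  ([15, 43], [0, 0], [], 763),
  ([2, 23, 36], [0, 1, 0], [1, 0, 1, 2, 3], 2066),
  ([2, 43], [0, 0], [], 139),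
  ([0, 25, 36], [0, 1, 0], [1, 0, 3, 2, 1], 1217),
  ([17, 25], [0, 0], [], 841),
  ([35, 31, 5], [0, 3, 2, 1, 0], [1, 0, 1], 286),
  ([5, 46], [0, 0], [], 2213),
  ([44, 18, 5], [0, 1, 0], [1, 0, 3, 2, 1], 892),
  ([18, 28], [0, 0], [], 1362),
  ([35, 34, 5], [0, 1, 0], [1, 0, 1, 2, 3], 563),
  ([11, 35], [0, 0], [], 1691),
  ([40, 34, 5], [0, 1, 0], [1, 0, 1, 2, 3], 568),
  ([11, 40], [0, 0], [], 1931),
  ([43, 27, 18], [0, 3, 2, 1, 0], [1, 0, 1], 908),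
  ([18, 44], [0, 0], [], 2130),
  ([32, 43, 18], [0, 1, 0], [1, 0, 3, 2, 1], 2087),
  ([23, 43], [0, 0], [], 1147),
  ([31, 33, 21], [0, 3, 2, 1, 0], [1, 0, 1], 1050),
  ([21, 42], [0, 0], [], 2037),
  ([39, 33, 21], [0, 1, 0], [1, 0, 3, 2, 1], 1621),
  ([33, 37], [0, 0], [], 1809),
  ([23, 4, 29], [0, 1, 0], [1, 0, 3, 2, 1], 224),
  ([4, 32], [0, 0], [], 1540),
  ([38, 23, 4], [0, 3, 2, 1, 0], [1, 0, 1], 237),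
  ([4, 45], [0, 0], [], 2164),
  ([47, 22, 11], [0, 1, 0], [1, 0, 3, 2, 1], 1086),
  ([22, 30], [0, 0], [], 1462),
  ([43, 27, 19], [0, 3, 2, 1, 0], [1, 0, 1], 956),
  ([19, 44], [0, 0], [], 2131)]

/-- A block of steps. -/
def stepsA16 : List Step := [
  ([11, 24, 34], [0, 3, 2, 1, 0], [1, 0, 1], 1644),
  ([12, 34], [0, 0], [], 610),
  ([2, 24, 34], [0, 1, 0], [1, 0, 3, 2, 1], 1167),
  ([15, 24], [0, 0], [], 744),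
  ([45, 23, 19], [0, 1, 0], [1, 0, 1, 2, 3], 765),
  ([15, 45], [0, 0], [], 2175),
  ([39, 21, 16], [0, 3, 2, 1, 0], [1, 0, 1], 814),
  ([16, 46], [0, 0], [], 2224),
  ([36, 6, 34], [0, 1, 0], [1, 0, 1, 2, 3], 612),
  ([12, 36], [0, 0], [], 1740),
  ([40, 6, 34], [0, 1, 0], [1, 0, 1, 2, 3], 616),
  ([12, 40], [0, 0], [], 1932),
  ([39, 22, 6], [0, 3, 2, 1, 0], [1, 0, 1], 335),
  ([6, 47], [0, 0], [], 2262),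
  ([24, 9, 39], [0, 3, 2, 1, 0], [1, 0, 1], 1882),
  ([10, 39], [0, 0], [], 519),
  ([3, 30, 20], [0, 1, 0], [1, 0, 1, 2, 3], 1347),
  ([3, 28], [0, 0], [], 172),
  ([43, 3, 32], [0, 3, 2, 1, 0], [1, 0, 1], 1538),
  ([2, 32], [0, 0], [], 128),
  ([33, 9, 32], [0, 1, 0], [1, 0, 3, 2, 1], 471),
  ([9, 39], [0, 0], [], 1881),
  ([28, 16, 29], [0, 1, 0], [1, 0, 1, 2, 3], 988),
  ([20, 28], [0, 0], [], 1364),
  ([33, 38, 4], [0, 1, 0], [1, 0, 3, 2, 1], 1832),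
  ([8, 38], [0, 0], [], 422),
  ([37, 33, 4], [0, 1, 0], [1, 0, 1, 2, 3], 421),
  ([8, 37], [0, 0], [], 1784),
  ([10, 39, 22], [0, 1, 0], [1, 0, 1, 2, 3], 1834),
  ([10, 38], [0, 0], [], 518),
  ([16, 14, 37], [0, 3, 2, 1, 0], [1, 0, 1], 1785),
  ([9, 37], [0, 0], [], 469),
  ([41, 32, 24], [0, 2, 1, 0], [1, 0, 2, 1, 3], 1578),
  ([32, 42], [0, 0, 2], [], 2048),
  ([36, 37, 14], [0, 2, 1, 0], [1, 0, 2, 1, 3], 1805),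
  ([29, 37], [0, 0, 2], [], 1429),
  ([34, 29, 28], [0, 2, 1, 0], [1, 0, 2, 1, 3], 1382),
  ([28, 38], [0, 0, 2], [], 1852),
  ([36, 27, 28], [0, 2, 1, 0], [1, 0, 2, 1, 3], 1335),
  ([27, 39], [0, 0, 2], [], 1899),
  ([25, 31, 42], [0, 2, 1, 0], [1, 0, 2, 1, 3], 1531),
  ([31, 43], [0, 0, 2], [], 2095),
  ([30, 42, 26], [0, 2, 1, 0], [1, 0, 2, 1, 3], 1293),
  ([26, 45], [0, 0, 2], [], 2186),
  ([17, 4, 23], [0, 2, 1, 0], [1, 0, 2, 1, 3], 208),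
  ([4, 16], [0, 0, 2], [], 772),
  ([6, 15, 23], [0, 2, 1, 0], [1, 0, 2, 1, 3], 725),
  ([5, 15], [0, 0, 2], [], 255),
  ([17, 5, 21], [0, 2, 1, 0], [1, 0, 2, 1, 3], 1010),
  ([2, 21], [0, 0, 2], [], 117),
  ([18, 10, 14], [0, 2, 1, 0], [1, 0, 2, 1, 3], 491),
  ([10, 11], [0, 0, 2], [], 538),
  ([19, 11, 13], [0, 2, 1, 0], [1, 0, 2, 1, 3], 632),
  ([8, 13], [0, 0, 2], [], 397),
  ([18, 12, 13], [0, 2, 1, 0], [1, 0, 2, 1, 3], 585),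
  ([9, 12], [0, 0, 2], [], 444),
  ([32, 42, 21], [0, 2, 1, 0], [1, 0, 2, 1, 3], 2046),
  ([30, 42], [0, 0, 2], [], 1482),
  ([43, 30, 22], [0, 2, 1, 0], [1, 0, 2, 1, 3], 1102),
  ([22, 46], [0, 0, 2], [], 2230),
  ([43, 31, 21], [0, 2, 1, 0], [1, 0, 2, 1, 3], 1529),
  ([31, 41], [0, 0, 2], [], 1999),
  ([5, 15, 24], [0, 2, 1, 0], [1, 0, 2, 1, 3], 726),
  ([6, 15], [0, 0, 2], [], 303),
  ([16, 6, 22], [0, 2, 1, 0], [1, 0, 2, 1, 3], 1058),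
  ([2, 22], [0, 0, 2], [], 118),
  ([5, 17, 22], [0, 2, 1, 0], [1, 0, 2, 1, 3], 820),
  ([4, 17], [0, 0, 2], [], 209),
  ([2, 21, 31], [0, 2, 1, 0], [1, 0, 2, 1, 3], 1014),
  ([6, 21], [0, 0, 2], [], 309),
  ([29, 33, 37], [0, 2, 1, 0], [1, 0, 2, 1, 3], 1812),
  ([36, 37], [0, 0, 2], [], 1765),
  ([28, 36, 34], [0, 2, 1, 0], [1, 0, 2, 1, 3], 1671),
  ([34, 39], [0, 0, 2], [], 1906),
  ([29, 35, 34], [0, 2, 1, 0], [1, 0, 2, 1, 3], 1718),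
  ([35, 38], [0, 0, 2], [], 1859),
  ([34, 3, 20], [0, 2, 1, 0], [1, 0, 2, 1, 3], 968),
  ([8, 20], [0, 0, 2], [], 404),
  ([11, 19, 20], [0, 2, 1, 0], [1, 0, 2, 1, 3], 921),
  ([9, 19], [0, 0, 2], [], 451),
  ([12, 18, 20], [0, 2, 1, 0], [1, 0, 2, 1, 3], 874),
  ([10, 18], [0, 0, 2], [], 498),
  ([8, 13, 36], [0, 2, 1, 0], [1, 0, 2, 1, 3], 643),
  ([13, 19], [0, 0, 2], [], 925),
  ([14, 19, 20], [0, 2, 1, 0], [1, 0, 2, 1, 3], 972),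
  ([12, 20], [0, 0, 2], [], 596),
  ([8, 29, 20], [0, 2, 1, 0], [1, 0, 2, 1, 3], 1399),
  ([7, 29], [0, 0, 2], [], 365),
  ([15, 26, 5], [0, 2, 1, 0], [1, 0, 2, 1, 3], 257),
  ([5, 17], [0, 0, 2], [], 821),
  ([4, 17, 25], [0, 2, 1, 0], [1, 0, 2, 1, 3], 1201),
  ([1, 25], [0, 0, 2], [], 73),
  ([15, 6, 25], [0, 2, 1, 0], [1, 0, 2, 1, 3], 304),
  ([6, 16], [0, 0, 2], [], 774),
  ([8, 35, 13], [0, 2, 1, 0], [1, 0, 2, 1, 3], 642),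
  ([13, 18], [0, 0, 2], [], 877),
  ([33, 11, 13], [0, 2, 1, 0], [1, 0, 2, 1, 3], 548),
  ([11, 20], [0, 0, 2], [], 971),
  ([1, 43, 23], [0, 2, 1, 0], [1, 0, 2, 1, 3], 1121),
  ([17, 23], [0, 0, 2], [], 839)]

/-- A block of steps. -/
def stepsA17 : List Step := [
  ([21, 17, 25], [0, 2, 1, 0], [1, 0, 2, 1, 3], 1215),
  ([15, 25], [0, 0, 2], [], 745),
  ([1, 25, 41], [0, 2, 1, 0], [1, 0, 2, 1, 3], 1970),
  ([2, 41], [0, 0, 2], [], 137),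
  ([43, 31, 5], [0, 2, 1, 0], [1, 0, 2, 1, 3], 1513),
  ([25, 31], [0, 0, 2], [], 1231),
  ([39, 11, 34], [0, 2, 1, 0], [1, 0, 2, 1, 3], 1660),
  ([28, 34], [0, 0, 2], [], 1378),
  ([33, 27, 28], [0, 2, 1, 0], [1, 0, 2, 1, 3], 1331),
  ([27, 35], [0, 0, 2], [], 1707),
  ([39, 27, 18], [0, 2, 1, 0], [1, 0, 2, 1, 3], 904),
  ([18, 40], [0, 0, 2], [], 1938),
  ([31, 43, 23], [0, 2, 1, 0], [1, 0, 2, 1, 3], 2094),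
  ([30, 43], [0, 0, 2], [], 1483),
  ([26, 30, 41], [0, 2, 1, 0], [1, 0, 2, 1, 3], 2000),
  ([32, 41], [0, 0, 2], [], 1577),
  ([31, 41, 25], [0, 2, 1, 0], [1, 0, 2, 1, 3], 1245),
  ([25, 45], [0, 0, 2], [], 2185),
  ([9, 12, 34], [0, 2, 1, 0], [1, 0, 2, 1, 3], 594),
  ([12, 18], [0, 0, 2], [], 876),
  ([14, 19, 18], [0, 2, 1, 0], [1, 0, 2, 1, 3], 923),
  ([11, 19], [0, 0, 2], [], 547),
  ([10, 27, 18], [0, 2, 1, 0], [1, 0, 2, 1, 3], 1303),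
  ([7, 27], [0, 0, 2], [], 363),
  ([47, 23, 4], [0, 2, 1, 0], [1, 0, 2, 1, 3], 1135),
  ([23, 31], [0, 0, 2], [], 1511),
  ([25, 31, 21], [0, 2, 1, 0], [1, 0, 2, 1, 3], 1040),
  ([21, 32], [0, 0, 2], [], 1557),
  ([41, 31, 5], [0, 2, 1, 0], [1, 0, 2, 1, 3], 285),
  ([5, 45], [0, 0, 2], [], 2165),
  ([2, 21, 42], [0, 2, 1, 0], [1, 0, 2, 1, 3], 1025),
  ([17, 21], [0, 0, 2], [], 837),
  ([23, 17, 22], [0, 2, 1, 0], [1, 0, 2, 1, 3], 1072),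
  ([16, 22], [0, 0, 2], [], 790),
  ([47, 15, 23], [0, 2, 1, 0], [1, 0, 2, 1, 3], 1146),
  ([23, 42], [0, 0, 2], [], 2039),
  ([25, 42, 21], [0, 2, 1, 0], [1, 0, 2, 1, 3], 1051),
  ([21, 43], [0, 0, 2], [], 2085),
  ([47, 21, 16], [0, 2, 1, 0], [1, 0, 2, 1, 3], 813),
  ([16, 45], [0, 0, 2], [], 2176),
  ([39, 12, 34], [0, 2, 1, 0], [1, 0, 2, 1, 3], 1661),
  ([29, 34], [0, 0, 2], [], 1426),
  ([33, 27, 29], [0, 2, 1, 0], [1, 0, 2, 1, 3], 1332),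
  ([27, 36], [0, 0, 2], [], 1755),
  ([39, 27, 19], [0, 2, 1, 0], [1, 0, 2, 1, 3], 952),
  ([19, 40], [0, 0, 2], [], 1939),
  ([24, 41, 0], [0, 2, 1, 0], [1, 0, 2, 1, 3], 1969),
  ([1, 41], [0, 0, 2], [], 89),
  ([34, 9, 39], [0, 2, 1, 0], [1, 0, 2, 1, 3], 1890),
  ([18, 39], [0, 0, 2], [], 903),
  ([19, 9, 39], [0, 2, 1, 0], [1, 0, 2, 1, 3], 468),
  ([9, 36], [0, 0, 2], [], 1737),
  ([18, 13, 36], [0, 2, 1, 0], [1, 0, 2, 1, 3], 657),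
  ([13, 33], [0, 0, 2], [], 1597),
  ([3, 35, 36], [0, 2, 1, 0], [1, 0, 2, 1, 3], 1690),
  ([10, 35], [0, 0, 2], [], 515),
  ([10, 18, 44], [0, 2, 1, 0], [1, 0, 2, 1, 3], 900),
  ([18, 36], [0, 0, 2], [], 1746),
  ([8, 35, 36], [0, 2, 1, 0], [1, 0, 2, 1, 3], 1699),
  ([19, 35], [0, 0, 2], [], 947),
  ([10, 35, 34], [0, 2, 1, 0], [1, 0, 2, 1, 3], 1652),
  ([20, 34], [0, 0, 2], [], 994),
  ([8, 28, 20], [0, 2, 1, 0], [1, 0, 2, 1, 3], 1351),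
  ([7, 28], [0, 0, 2], [], 364),
  ([25, 1, 42], [0, 2, 1, 0], [1, 0, 2, 1, 3], 2018),
  ([2, 42], [0, 0, 2], [], 138),
  ([6, 16, 42], [0, 2, 1, 0], [1, 0, 2, 1, 3], 792),
  ([16, 24], [0, 0, 2], [], 1168),
  ([0, 26, 42], [0, 2, 1, 0], [1, 0, 2, 1, 3], 1263),
  ([15, 26], [0, 0, 2], [], 746),
  ([16, 6, 47], [0, 2, 1, 0], [1, 0, 2, 1, 3], 331),
  ([6, 43], [0, 0, 2], [], 2070),
  ([45, 5, 26], [0, 2, 1, 0], [1, 0, 2, 1, 3], 1278),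
  ([26, 30], [0, 0, 2], [], 1466),
  ([45, 25, 6], [0, 2, 1, 0], [1, 0, 2, 1, 3], 334),
  ([6, 46], [0, 0, 2], [], 2214),
  ([45, 26, 16], [0, 2, 1, 0], [1, 0, 2, 1, 3], 1289),
  ([26, 41], [0, 0, 2], [], 1994),
  ([32, 41, 17], [0, 2, 1, 0], [1, 0, 2, 1, 3], 862),
  ([17, 46], [0, 0, 2], [], 2225),
  ([45, 25, 17], [0, 2, 1, 0], [1, 0, 2, 1, 3], 1242),
  ([25, 42], [0, 0, 2], [], 2041),
  ([35, 8, 38], [0, 2, 1, 0], [1, 0, 2, 1, 3], 1842),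
  ([18, 38], [0, 0, 2], [], 902),
  ([40, 18, 19], [0, 2, 1, 0], [1, 0, 2, 1, 3], 949),
  ([19, 37], [0, 0, 2], [], 1795),
  ([35, 27, 19], [0, 2, 1, 0], [1, 0, 2, 1, 3], 1329),
  ([27, 33], [0, 0, 2], [], 1611),
  ([46, 22, 0], [0, 2, 1, 0], [1, 0, 2, 1, 3], 1079),
  ([22, 23], [0, 0, 2], [], 1126),
  ([1, 23, 32], [0, 2, 1, 0], [1, 0, 2, 1, 3], 1110),
  ([6, 23], [0, 0, 2], [], 311),
  ([21, 6, 25], [0, 2, 1, 0], [1, 0, 2, 1, 3], 1204),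
  ([4, 25], [0, 0, 2], [], 217),
  ([1, 25, 30], [0, 2, 1, 0], [1, 0, 2, 1, 3], 1442),
  ([2, 30], [0, 0, 2], [], 126),
  ([0, 24, 32], [0, 2, 1, 0], [1, 0, 2, 1, 3], 1157),
  ([5, 24], [0, 0, 2], [], 264),
  ([12, 9, 39], [0, 2, 1, 0], [1, 0, 2, 1, 3], 461),
  ([9, 29], [0, 0, 2], [], 1401)]

/-- A block of steps. -/
def stepsA18 : List Step := [
  ([11, 29, 20], [0, 2, 1, 0], [1, 0, 2, 1, 3], 974),
  ([14, 20], [0, 0, 2], [], 692),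
  ([7, 29, 28], [0, 2, 1, 0], [1, 0, 2, 1, 3], 1354),
  ([10, 28], [0, 0, 2], [], 508),
  ([16, 47, 22], [0, 2, 1, 0], [1, 0, 2, 1, 3], 1099),
  ([22, 43], [0, 0, 2], [], 2086),
  ([21, 43, 24], [0, 2, 1, 0], [1, 0, 2, 1, 3], 1193),
  ([24, 41], [0, 0, 2], [], 1992),
  ([40, 10, 33], [0, 2, 1, 0], [1, 0, 2, 1, 3], 1613),
  ([29, 33], [0, 0, 2], [], 1425),
  ([34, 29, 20], [0, 2, 1, 0], [1, 0, 2, 1, 3], 998),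
  ([20, 38], [0, 0, 2], [], 1844),
  ([7, 38, 39], [0, 2, 1, 0], [1, 0, 2, 1, 3], 1891),
  ([19, 39], [0, 0, 2], [], 951),
  ([46, 24, 2], [0, 2, 1, 0], [1, 0, 2, 1, 3], 1177),
  ([24, 25], [0, 0, 2], [], 1224),
  ([46, 17, 6], [0, 2, 1, 0], [1, 0, 2, 1, 3], 848),
  ([17, 32], [0, 0, 2], [], 1553),
  ([15, 30, 6], [0, 2, 1, 0], [1, 0, 2, 1, 3], 1441),
  ([1, 30], [0, 0, 2], [], 78),
  ([2, 30, 22], [0, 2, 1, 0], [1, 0, 2, 1, 3], 1061),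
  ([5, 22], [0, 0, 2], [], 262),
  ([7, 14, 37], [0, 2, 1, 0], [1, 0, 2, 1, 3], 690),
  ([14, 18], [0, 0, 2], [], 878),
  ([12, 28, 18], [0, 2, 1, 0], [1, 0, 2, 1, 3], 1352),
  ([8, 28], [0, 0, 2], [], 412),
  ([16, 22, 30], [0, 2, 1, 0], [1, 0, 2, 1, 3], 1455),
  ([15, 30], [0, 0, 2], [], 750),
  ([46, 15, 4], [0, 2, 1, 0], [1, 0, 2, 1, 3], 233),
  ([4, 41], [0, 0, 2], [], 1972),
  ([42, 32, 4], [0, 2, 1, 0], [1, 0, 2, 1, 3], 1558),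
  ([22, 32], [0, 0, 2], [], 1088),
  ([26, 22, 30], [0, 2, 1, 0], [1, 0, 2, 1, 3], 1464),
  ([24, 30], [0, 0, 2], [], 1182),
  ([46, 22, 6], [0, 2, 1, 0], [1, 0, 2, 1, 3], 333),
  ([6, 45], [0, 0, 2], [], 2166),
  ([28, 38, 10], [0, 2, 1, 0], [1, 0, 2, 1, 3], 1837),
  ([13, 38], [0, 0, 2], [], 662),
  ([3, 39, 38], [0, 2, 1, 0], [1, 0, 2, 1, 3], 1884),
  ([12, 39], [0, 0, 2], [], 615),
  ([28, 36, 12], [0, 2, 1, 0], [1, 0, 2, 1, 3], 1742),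
  ([14, 36], [0, 0, 2], [], 708),
  ([20, 8, 38], [0, 2, 1, 0], [1, 0, 2, 1, 3], 420),
  ([8, 36], [0, 0, 2], [], 1736),
  ([20, 8, 37], [0, 2, 1, 0], [1, 0, 2, 1, 3], 419),
  ([8, 35], [0, 0, 2], [], 1688),
  ([19, 11, 35], [0, 2, 1, 0], [1, 0, 2, 1, 3], 561),
  ([11, 33], [0, 0, 2], [], 1595),
  ([20, 11, 34], [0, 2, 1, 0], [1, 0, 2, 1, 3], 1641),
  ([9, 34], [0, 0, 2], [], 466),
  ([15, 47, 6], [0, 2, 1, 0], [1, 0, 2, 1, 3], 330),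
  ([6, 42], [0, 0, 2], [], 2022),
  ([43, 22, 6], [0, 2, 1, 0], [1, 0, 2, 1, 3], 1082),
  ([22, 26], [0, 0, 2], [], 1270),
  ([15, 26, 31], [0, 2, 1, 0], [1, 0, 2, 1, 3], 1505),
  ([17, 31], [0, 0, 2], [], 847),
  ([29, 7, 34], [0, 2, 1, 0], [1, 0, 2, 1, 3], 1642),
  ([10, 34], [0, 0, 2], [], 514),
  ([45, 0, 25], [0, 2, 1, 0], [1, 0, 2, 1, 3], 1221),
  ([21, 25], [0, 0, 2], [], 1033),
  ([43, 21, 5], [0, 2, 1, 0], [1, 0, 2, 1, 3], 281),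
  ([5, 41], [0, 0, 2], [], 1973),
  ([15, 25, 30], [0, 2, 1, 0], [1, 0, 2, 1, 3], 1456),
  ([16, 30], [0, 0, 2], [], 798),
  ([21, 47, 17], [0, 2, 1, 0], [1, 0, 2, 1, 3], 861),
  ([17, 45], [0, 0, 2], [], 2177),
  ([25, 4, 24], [0, 2, 1, 0], [1, 0, 2, 1, 3], 218),
  ([4, 26], [0, 0, 2], [], 1252),
  ([0, 26, 31], [0, 2, 1, 0], [1, 0, 2, 1, 3], 1490),
  ([2, 31], [0, 0, 2], [], 127),
  ([3, 40, 34], [0, 2, 1, 0], [1, 0, 2, 1, 3], 1646),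
  ([14, 34], [0, 0, 2], [], 706),
  ([18, 14, 38], [0, 2, 1, 0], [1, 0, 2, 1, 3], 1835),
  ([11, 38], [0, 0, 2], [], 566),
  ([28, 12, 34], [0, 2, 1, 0], [1, 0, 2, 1, 3], 613),
  ([12, 37], [0, 0, 2], [], 1788),
  ([12, 37, 9], [0, 2, 1, 0], [1, 0, 2, 1, 3], 459),
  ([9, 27], [0, 0, 2], [], 1305),
  ([38, 35, 13], [0, 2, 1, 0], [1, 0, 2, 1, 3], 1709),
  ([29, 35], [0, 0, 2], [], 1427),
  ([33, 29, 28], [0, 2, 1, 0], [1, 0, 2, 1, 3], 1380),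
  ([28, 36], [0, 0, 2], [], 1756),
  ([38, 20, 28], [0, 2, 1, 0], [1, 0, 2, 1, 3], 1000),
  ([20, 40], [0, 0, 2], [], 1940),
  ([20, 34, 12], [0, 2, 1, 0], [1, 0, 2, 1, 3], 609),
  ([12, 33], [0, 0, 2], [], 1596),
  ([40, 18, 20], [0, 2, 1, 0], [1, 0, 2, 1, 3], 997),
  ([20, 37], [0, 0, 2], [], 1796),
  ([34, 28, 20], [0, 2, 1, 0], [1, 0, 2, 1, 3], 1377),
  ([28, 33], [0, 0, 2], [], 1612),
  ([30, 2, 43], [0, 2, 1, 0], [1, 0, 2, 1, 3], 2069),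
  ([5, 43], [0, 0, 2], [], 283),
  ([41, 26, 5], [0, 2, 1, 0], [1, 0, 2, 1, 3], 1271),
  ([23, 26], [0, 0, 2], [], 1130),
  ([38, 28, 3], [0, 2, 1, 0], [1, 0, 2, 1, 3], 1356),
  ([12, 28], [0, 0, 2], [], 604),
  ([8, 29, 28], [0, 2, 1, 0], [1, 0, 2, 1, 3], 1403),
  ([11, 29], [0, 0, 2], [], 557),
  ([10, 27, 28], [0, 2, 1, 0], [1, 0, 2, 1, 3], 1309),
  ([13, 27], [0, 0, 2], [], 651)]

/-- A block of steps. -/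
def stepsA19 : List Step := [
  ([36, 27, 3], [0, 2, 1, 0], [1, 0, 2, 1, 3], 1306),
  ([10, 27], [0, 0, 2], [], 507),
  ([13, 19, 27], [0, 2, 1, 0], [1, 0, 2, 1, 3], 926),
  ([14, 19], [0, 0, 2], [], 691),
  ([11, 19, 29], [0, 2, 1, 0], [1, 0, 2, 1, 3], 1400),
  ([8, 29], [0, 0, 2], [], 413),
  ([6, 15, 45], [0, 2, 1, 0], [1, 0, 2, 1, 3], 751),
  ([15, 31], [0, 0, 2], [], 1503),
  ([47, 15, 4], [0, 2, 1, 0], [1, 0, 2, 1, 3], 234),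
  ([4, 42], [0, 0, 2], [], 2020),
  ([41, 24, 4], [0, 2, 1, 0], [1, 0, 2, 1, 3], 1173),
  ([21, 24], [0, 0, 2], [], 1032),
  ([32, 17, 23], [0, 2, 1, 0], [1, 0, 1, 3, 2, 4], 800),
  ([16, 32], [0, 0, 2], [], 1552),
  ([9, 29, 37], [0, 2, 1, 0], [1, 0, 1, 3, 2, 4], 1789),
  ([13, 37], [0, 0, 2], [], 661),
  ([27, 13, 35], [0, 2, 1, 0], [1, 0, 2, 1, 3], 1694),
  ([14, 35], [0, 0, 2], [], 707),
  ([29, 11, 35], [0, 2, 1, 0], [1, 0, 2, 1, 3], 567),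
  ([11, 39], [0, 0, 2], [], 1883)]

/-- The steps before the generator is known to be an involution. -/
def stepsA : List (List Step) := [stepsA0, stepsA1, stepsA2, stepsA3, stepsA4, stepsA5, stepsA6, stepsA7, stepsA8, stepsA9, stepsA10, stepsA11, stepsA12, stepsA13, stepsA14, stepsA15, stepsA16, stepsA17, stepsA18, stepsA19]

/-- A block of steps. -/
def stepsB0 : List Step := [
  ([0, 29], [0, 0, 3, 2, 2], [], 1392),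
  ([9, 22, 29], [0, 3, 2, 1, 0], [1, 0, 2, 1, 4, 3, 5, 6, 5], 1069),
  ([13, 22], [0, 0, 3, 2, 2], [], 646),
  ([20, 22, 14], [0, 3, 2, 1, 0], [1, 0, 2, 1, 4, 3, 5, 6, 5], 689),
  ([14, 17], [0, 0, 3, 2, 2], [], 830),
  ([19, 25, 14], [0, 3, 2, 1, 0], [1, 0, 2, 1, 4, 3, 5, 6, 5], 1212),
  ([12, 25], [0, 0, 3, 2, 2], [], 601),
  ([20, 30, 12], [0, 3, 2, 1, 0], [1, 0, 2, 1, 4, 3, 5, 6, 5], 1450),
  ([10, 30], [0, 0, 3, 2, 2], [], 510),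
  ([21, 24, 13], [0, 2, 1, 0], [1, 0, 3, 2, 1, 3, 6, 5, 4, 6, 7], 1163),
  ([11, 24], [0, 0, 3, 2, 2], [], 552),
  ([18, 24, 14], [0, 3, 2, 1, 0], [1, 0, 2, 1, 4, 3, 5, 6, 5], 687),
  ([14, 15], [0, 0, 3, 2, 2], [], 734),
  ([19, 23, 14], [0, 3, 2, 1, 0], [1, 0, 2, 1, 4, 3, 5, 6, 5], 1116),
  ([12, 23], [0, 0, 3, 2, 2], [], 599),
  ([9, 24, 27], [0, 3, 2, 1, 0], [1, 0, 2, 1, 4, 3, 5, 6, 5], 1298),
  ([2, 27], [0, 0, 3, 2, 2], [], 123),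
  ([37, 24, 3], [0, 3, 2, 1, 0], [1, 0, 2, 1, 4, 3, 5, 6, 5], 189),
  ([3, 45], [0, 0, 3, 2, 2], [], 2163),
  ([28, 24, 8], [0, 3, 2, 1, 0], [1, 0, 2, 1, 4, 3, 5, 6, 5], 416),
  ([8, 32], [0, 0, 3, 2, 2], [], 1544),
  ([17, 21, 14], [0, 2, 1, 0], [1, 0, 3, 2, 1, 3, 6, 5, 4, 6, 7], 1018),
  ([10, 21], [0, 0, 3, 2, 2], [], 501),
  ([20, 21, 12], [0, 3, 2, 1, 0], [1, 0, 2, 1, 4, 3, 5, 6, 5], 592),
  ([12, 16], [0, 0, 3, 2, 2], [], 780),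
  ([33, 5, 12], [0, 3, 2, 1, 0], [1, 0, 2, 1, 4, 3, 5, 6, 5], 259),
  ([5, 19], [0, 0, 3, 2, 2], [], 917),
  ([9, 31, 19], [0, 3, 2, 1, 0], [1, 0, 2, 1, 4, 3, 5, 6, 5], 1495),
  ([7, 31], [0, 0, 3, 2, 2], [], 367),
  ([20, 31, 8], [0, 3, 2, 1, 0], [1, 0, 2, 1, 4, 3, 5, 6, 5], 410),
  ([8, 26], [0, 0, 3, 2, 2], [], 1256),
  ([23, 6, 19], [0, 2, 1, 0], [1, 0, 3, 2, 1, 3, 6, 5, 4, 6, 7], 306),
  ([6, 18], [0, 0, 3, 2, 2], [], 870),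
  ([13, 22, 18], [0, 3, 2, 1, 0], [1, 0, 2, 1, 4, 3, 5, 6, 5], 1065),
  ([9, 22], [0, 0, 3, 2, 2], [], 454),
  ([20, 22, 11], [0, 3, 2, 1, 0], [1, 0, 2, 1, 4, 3, 5, 6, 5], 545),
  ([11, 17], [0, 0, 3, 2, 2], [], 827),
  ([19, 25, 11], [0, 3, 2, 1, 0], [1, 0, 2, 1, 4, 3, 5, 6, 5], 1208),
  ([8, 25], [0, 0, 3, 2, 2], [], 409),
  ([37, 6, 7], [0, 3, 2, 1, 0], [1, 0, 2, 1, 4, 3, 5, 6, 5], 366),
  ([7, 30], [0, 0, 3, 2, 2], [], 1447),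
  ([35, 22, 3], [0, 3, 2, 1, 0], [1, 0, 2, 1, 4, 3, 5, 6, 5], 185),
  ([3, 41], [0, 0, 3, 2, 2], [], 1971),
  ([21, 6, 20], [0, 2, 1, 0], [1, 0, 3, 2, 1, 3, 6, 5, 4, 6, 7], 964),
  ([4, 20], [0, 0, 3, 2, 2], [], 212),
  ([12, 23, 20], [0, 3, 2, 1, 0], [1, 0, 2, 1, 4, 3, 5, 6, 5], 1114),
  ([10, 23], [0, 0, 3, 2, 2], [], 503),
  ([19, 23, 13], [0, 3, 2, 1, 0], [1, 0, 2, 1, 4, 3, 5, 6, 5], 639),
  ([13, 15], [0, 0, 3, 2, 2], [], 733),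
  ([8, 43, 13], [0, 3, 2, 1, 0], [1, 0, 2, 1, 4, 3, 5, 6, 5], 2067),
  ([3, 43], [0, 0, 3, 2, 2], [], 187),
  ([11, 24, 20], [0, 3, 2, 1, 0], [1, 0, 2, 1, 4, 3, 5, 6, 5], 1161),
  ([9, 24], [0, 0, 3, 2, 2], [], 456),
  ([28, 24, 7], [0, 3, 2, 1, 0], [1, 0, 2, 1, 4, 3, 5, 6, 5], 368),
  ([7, 32], [0, 0, 3, 2, 2], [], 1543),
  ([17, 23, 14], [0, 2, 1, 0], [1, 0, 3, 2, 1, 3, 6, 5, 4, 6, 7], 688),
  ([14, 16], [0, 0, 3, 2, 2], [], 782),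
  ([20, 21, 14], [0, 3, 2, 1, 0], [1, 0, 2, 1, 4, 3, 5, 6, 5], 1021),
  ([13, 21], [0, 0, 3, 2, 2], [], 645),
  ([10, 21, 28], [0, 3, 2, 1, 0], [1, 0, 2, 1, 4, 3, 5, 6, 5], 1345),
  ([1, 28], [0, 0, 3, 2, 2], [], 76),
  ([18, 26, 14], [0, 3, 2, 1, 0], [1, 0, 2, 1, 4, 3, 5, 6, 5], 1259),
  ([11, 26], [0, 0, 3, 2, 2], [], 554),
  ([20, 31, 11], [0, 3, 2, 1, 0], [1, 0, 2, 1, 4, 3, 5, 6, 5], 1497),
  ([9, 31], [0, 0, 3, 2, 2], [], 463),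
  ([41, 4, 10], [0, 2, 1, 0], [1, 0, 3, 2, 1, 3, 6, 5, 4, 6, 7], 225),
  ([4, 33], [0, 0, 3, 2, 2], [], 1588),
  ([12, 23, 33], [0, 3, 2, 1, 0], [1, 0, 2, 1, 4, 3, 5, 6, 5], 1123),
  ([19, 23], [0, 0, 3, 2, 2], [], 935),
  ([10, 23, 34], [0, 3, 2, 1, 0], [1, 0, 2, 1, 4, 3, 5, 6, 5], 1634),
  ([2, 34], [0, 0, 3, 2, 2], [], 130),
  ([9, 24, 34], [0, 3, 2, 1, 0], [1, 0, 2, 1, 4, 3, 5, 6, 5], 1170),
  ([18, 24], [0, 0, 3, 2, 2], [], 888),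
  ([38, 23, 7], [0, 3, 2, 1, 0], [1, 0, 2, 1, 4, 3, 5, 6, 5], 381),
  ([7, 45], [0, 0, 3, 2, 2], [], 2167),
  ([3, 43, 34], [0, 3, 2, 1, 0], [1, 0, 2, 1, 4, 3, 5, 6, 5], 2072),
  ([8, 43], [0, 0, 3, 2, 2], [], 427),
  ([25, 21, 19], [0, 2, 1, 0], [1, 0, 3, 2, 1, 3, 6, 5, 4, 6, 7], 1028),
  ([20, 21], [0, 0, 3, 2, 2], [], 981),
  ([39, 21, 7], [0, 3, 2, 1, 0], [1, 0, 2, 1, 4, 3, 5, 6, 5], 382),
  ([7, 46], [0, 0, 3, 2, 2], [], 2215),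
  ([13, 21, 33], [0, 3, 2, 1, 0], [1, 0, 2, 1, 4, 3, 5, 6, 5], 1589),
  ([5, 33], [0, 0, 3, 2, 2], [], 273),
  ([11, 26, 33], [0, 3, 2, 1, 0], [1, 0, 2, 1, 4, 3, 5, 6, 5], 1266),
  ([18, 26], [0, 0, 3, 2, 2], [], 890),
  ([10, 21, 35], [0, 3, 2, 1, 0], [1, 0, 2, 1, 4, 3, 5, 6, 5], 1681),
  ([1, 35], [0, 0, 3, 2, 2], [], 83),
  ([3, 42, 35], [0, 3, 2, 1, 0], [1, 0, 2, 1, 4, 3, 5, 6, 5], 2025),
  ([9, 42], [0, 0, 3, 2, 2], [], 474),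
  ([23, 42, 10], [0, 2, 1, 0], [1, 0, 3, 2, 1, 3, 6, 5, 4, 6, 7], 521),
  ([10, 41], [0, 0, 3, 2, 2], [], 1978),
  ([3, 41, 36], [0, 3, 2, 1, 0], [1, 0, 2, 1, 4, 3, 5, 6, 5], 1728),
  ([0, 36], [0, 0, 3, 2, 2], [], 36),
  ([35, 22, 10], [0, 3, 2, 1, 0], [1, 0, 2, 1, 4, 3, 5, 6, 5], 1076),
  ([20, 22], [0, 0, 3, 2, 2], [], 982),
  ([13, 22, 33], [0, 3, 2, 1, 0], [1, 0, 2, 1, 4, 3, 5, 6, 5], 1590),
  ([6, 33], [0, 0, 3, 2, 2], [], 321),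
  ([12, 25, 33], [0, 3, 2, 1, 0], [1, 0, 2, 1, 4, 3, 5, 6, 5], 1219),
  ([19, 25], [0, 0, 3, 2, 2], [], 937),
  ([38, 25, 7], [0, 3, 2, 1, 0], [1, 0, 2, 1, 4, 3, 5, 6, 5], 383)]

/-- A block of steps. -/
def stepsB1 : List Step := [
  ([7, 47], [0, 0, 3, 2, 2], [], 2263),
  ([1, 41, 39], [0, 2, 1, 0], [1, 0, 3, 2, 1, 3, 6, 5, 4, 6, 7], 1887),
  ([15, 39], [0, 0, 3, 2, 2], [], 759),
  ([1, 47, 35], [0, 2, 1, 0], [1, 0, 3, 2, 1, 3, 6, 5, 4, 6, 7], 1704),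
  ([24, 35], [0, 0, 3, 2, 2], [], 1187),
  ([37, 24, 20], [0, 3, 2, 1, 0], [1, 0, 2, 1, 4, 3, 5, 6, 5], 1005),
  ([20, 45], [0, 0, 3, 2, 2], [], 2180),
  ([28, 24, 33], [0, 3, 2, 1, 0], [1, 0, 2, 1, 4, 3, 5, 6, 5], 1616),
  ([32, 33], [0, 0, 3, 2, 2], [], 1569),
  ([29, 23, 33], [0, 3, 2, 1, 0], [1, 0, 2, 1, 4, 3, 5, 6, 5], 1140),
  ([23, 36], [0, 0, 3, 2, 2], [], 1751),
  ([40, 2, 33], [0, 3, 2, 1, 0], [1, 0, 2, 1, 4, 3, 5, 6, 5], 140),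
  ([2, 44], [0, 0, 3, 2, 2], [], 2114),
  ([31, 41, 20], [0, 2, 1, 0], [1, 0, 3, 2, 1, 3, 6, 5, 4, 6, 7], 1997),
  ([29, 41], [0, 0, 3, 2, 2], [], 1433),
  ([33, 30, 29], [0, 3, 2, 1, 0], [1, 0, 2, 1, 4, 3, 5, 6, 5], 1476),
  ([30, 36], [0, 0, 3, 2, 2], [], 1758),
  ([35, 22, 29], [0, 3, 2, 1, 0], [1, 0, 2, 1, 4, 3, 5, 6, 5], 1095),
  ([22, 39], [0, 0, 3, 2, 2], [], 1894),
  ([34, 25, 29], [0, 3, 2, 1, 0], [1, 0, 2, 1, 4, 3, 5, 6, 5], 1238),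
  ([25, 38], [0, 0, 3, 2, 2], [], 1849),
  ([35, 6, 38], [0, 3, 2, 1, 0], [1, 0, 2, 1, 4, 3, 5, 6, 5], 332),
  ([6, 44], [0, 0, 3, 2, 2], [], 2118),
  ([37, 17, 29], [0, 3, 2, 1, 0], [1, 0, 2, 1, 4, 3, 5, 6, 5], 856),
  ([17, 40], [0, 0, 3, 2, 2], [], 1937),
  ([32, 22, 33], [0, 2, 1, 0], [1, 0, 3, 2, 1, 3, 6, 5, 4, 6, 7], 1615),
  ([31, 33], [0, 0, 3, 2, 2], [], 1521),
  ([7, 31, 44], [0, 3, 2, 1, 0], [1, 0, 2, 1, 4, 3, 5, 6, 5], 2113),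
  ([1, 44], [0, 0, 3, 2, 2], [], 92),
  ([27, 26, 33], [0, 3, 2, 1, 0], [1, 0, 2, 1, 4, 3, 5, 6, 5], 1282),
  ([26, 34], [0, 0, 3, 2, 2], [], 1658),
  ([37, 26, 19], [0, 3, 2, 1, 0], [1, 0, 2, 1, 4, 3, 5, 6, 5], 958),
  ([19, 46], [0, 0, 3, 2, 2], [], 2227),
  ([40, 16, 19], [0, 3, 2, 1, 0], [1, 0, 2, 1, 4, 3, 5, 6, 5], 806),
  ([16, 38], [0, 0, 3, 2, 2], [], 1840),
  ([39, 21, 19], [0, 3, 2, 1, 0], [1, 0, 2, 1, 4, 3, 5, 6, 5], 1044),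
  ([21, 36], [0, 0, 3, 2, 2], [], 1749),
  ([30, 24, 33], [0, 2, 1, 0], [1, 0, 3, 2, 1, 3, 6, 5, 4, 6, 7], 1189),
  ([24, 37], [0, 0, 3, 2, 2], [], 1800),
  ([35, 24, 27], [0, 3, 2, 1, 0], [1, 0, 2, 1, 4, 3, 5, 6, 5], 1339),
  ([27, 43], [0, 0, 3, 2, 2], [], 2091),
  ([33, 32, 27], [0, 3, 2, 1, 0], [1, 0, 2, 1, 4, 3, 5, 6, 5], 1570),
  ([32, 34], [0, 0, 3, 2, 2], [], 1664),
  ([36, 23, 27], [0, 3, 2, 1, 0], [1, 0, 2, 1, 4, 3, 5, 6, 5], 1142),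
  ([23, 38], [0, 0, 3, 2, 2], [], 1847),
  ([39, 15, 27], [0, 3, 2, 1, 0], [1, 0, 2, 1, 4, 3, 5, 6, 5], 760),
  ([15, 40], [0, 0, 3, 2, 2], [], 1935),
  ([39, 4, 34], [0, 3, 2, 1, 0], [1, 0, 2, 1, 4, 3, 5, 6, 5], 236),
  ([4, 44], [0, 0, 3, 2, 2], [], 2116),
  ([30, 42, 20], [0, 2, 1, 0], [1, 0, 3, 2, 1, 3, 6, 5, 4, 6, 7], 2044),
  ([28, 42], [0, 0, 3, 2, 2], [], 1386),
  ([14, 42, 35], [0, 3, 2, 1, 0], [1, 0, 2, 1, 4, 3, 5, 6, 5], 1711),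
  ([31, 35], [0, 0, 3, 2, 2], [], 1523),
  ([11, 42, 39], [0, 3, 2, 1, 0], [1, 0, 2, 1, 4, 3, 5, 6, 5], 1893),
  ([21, 39], [0, 0, 3, 2, 2], [], 1047),
  ([27, 26, 35], [0, 3, 2, 1, 0], [1, 0, 2, 1, 4, 3, 5, 6, 5], 1285),
  ([26, 37], [0, 0, 3, 2, 2], [], 1802),
  ([38, 16, 28], [0, 3, 2, 1, 0], [1, 0, 2, 1, 4, 3, 5, 6, 5], 808),
  ([16, 40], [0, 0, 3, 2, 2], [], 1936),
  ([38, 5, 35], [0, 3, 2, 1, 0], [1, 0, 2, 1, 4, 3, 5, 6, 5], 284),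
  ([5, 44], [0, 0, 3, 2, 2], [], 2117),
  ([41, 26, 14], [0, 2, 1, 0], [1, 0, 3, 2, 1, 3, 6, 5, 4, 6, 7], 715),
  ([14, 43], [0, 0, 3, 2, 2], [], 2078),
  ([35, 24, 14], [0, 3, 2, 1, 0], [1, 0, 2, 1, 4, 3, 5, 6, 5], 1180),
  ([24, 28], [0, 0, 3, 2, 2], [], 1368),
  ([36, 4, 28], [0, 3, 2, 1, 0], [1, 0, 2, 1, 4, 3, 5, 6, 5], 231),
  ([4, 39], [0, 0, 3, 2, 2], [], 1876),
  ([12, 23, 39], [0, 3, 2, 1, 0], [1, 0, 2, 1, 4, 3, 5, 6, 5], 1133),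
  ([23, 29], [0, 0, 3, 2, 2], [], 1415),
  ([3, 45, 39], [0, 3, 2, 1, 0], [1, 0, 2, 1, 4, 3, 5, 6, 5], 2173),
  ([13, 45], [0, 0, 3, 2, 2], [], 669),
  ([10, 23, 40], [0, 3, 2, 1, 0], [1, 0, 2, 1, 4, 3, 5, 6, 5], 1922),
  ([2, 40], [0, 0, 3, 2, 2], [], 136),
  ([43, 21, 14], [0, 2, 1, 0], [1, 0, 3, 2, 1, 3, 6, 5, 4, 6, 7], 713),
  ([14, 41], [0, 0, 3, 2, 2], [], 1982),
  ([34, 25, 14], [0, 3, 2, 1, 0], [1, 0, 2, 1, 4, 3, 5, 6, 5], 1227),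
  ([25, 27], [0, 0, 3, 2, 2], [], 1321),
  ([38, 25, 11], [0, 3, 2, 1, 0], [1, 0, 2, 1, 4, 3, 5, 6, 5], 575),
  ([11, 47], [0, 0, 3, 2, 2], [], 2267),
  ([44, 6, 11], [0, 3, 2, 1, 0], [1, 0, 2, 1, 4, 3, 5, 6, 5], 325),
  ([6, 37], [0, 0, 3, 2, 2], [], 1782),
  ([35, 22, 14], [0, 3, 2, 1, 0], [1, 0, 2, 1, 4, 3, 5, 6, 5], 1084),
  ([22, 28], [0, 0, 3, 2, 2], [], 1366),
  ([18, 6, 40], [0, 3, 2, 1, 0], [1, 0, 2, 1, 4, 3, 5, 6, 5], 1920),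
  ([0, 40], [0, 0, 3, 2, 2], [], 40),
  ([41, 4, 29], [0, 2, 1, 0], [1, 0, 3, 2, 1, 3, 6, 5, 4, 6, 7], 1413),
  ([21, 29], [0, 0, 3, 2, 2], [], 1037),
  ([11, 42, 29], [0, 3, 2, 1, 0], [1, 0, 2, 1, 4, 3, 5, 6, 5], 2030),
  ([14, 42], [0, 0, 3, 2, 2], [], 714),
  ([34, 26, 14], [0, 3, 2, 1, 0], [1, 0, 2, 1, 4, 3, 5, 6, 5], 1275),
  ([26, 27], [0, 0, 3, 2, 2], [], 1322),
  ([37, 26, 12], [0, 3, 2, 1, 0], [1, 0, 2, 1, 4, 3, 5, 6, 5], 622),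
  ([12, 46], [0, 0, 3, 2, 2], [], 2220),
  ([11, 26, 38], [0, 3, 2, 1, 0], [1, 0, 2, 1, 4, 3, 5, 6, 5], 1829),
  ([5, 38], [0, 0, 3, 2, 2], [], 278),
  ([31, 23, 33], [0, 2, 1, 0], [1, 0, 3, 2, 1, 3, 6, 5, 4, 6, 7], 1614),
  ([30, 33], [0, 0, 3, 2, 2], [], 1473),
  ([28, 22, 33], [0, 3, 2, 1, 0], [1, 0, 2, 1, 4, 3, 5, 6, 5], 1091),
  ([22, 35], [0, 0, 3, 2, 2], [], 1702),
  ([27, 25, 33], [0, 3, 2, 1, 0], [1, 0, 2, 1, 4, 3, 5, 6, 5], 1234)]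

/-- A block of steps. -/
def stepsB2 : List Step := [
  ([25, 34], [0, 0, 3, 2, 2], [], 1657),
  ([38, 25, 18], [0, 3, 2, 1, 0], [1, 0, 2, 1, 4, 3, 5, 6, 5], 911),
  ([18, 47], [0, 0, 3, 2, 2], [], 2274),
  ([8, 25, 44], [0, 3, 2, 1, 0], [1, 0, 2, 1, 4, 3, 5, 6, 5], 2112),
  ([0, 44], [0, 0, 3, 2, 2], [], 44),
  ([20, 22, 37], [0, 3, 2, 1, 0], [1, 0, 2, 1, 4, 3, 5, 6, 5], 1793),
  ([17, 37], [0, 0, 3, 2, 2], [], 853),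
  ([4, 42, 35], [0, 2, 1, 0], [1, 0, 3, 2, 1, 3, 6, 5, 4, 6, 7], 2027),
  ([11, 42], [0, 0, 3, 2, 2], [], 570),
  ([38, 16, 11], [0, 3, 2, 1, 0], [1, 0, 2, 1, 4, 3, 5, 6, 5], 795),
  ([16, 27], [0, 0, 3, 2, 2], [], 1312),
  ([40, 16, 8], [0, 3, 2, 1, 0], [1, 0, 2, 1, 4, 3, 5, 6, 5], 430),
  ([8, 46], [0, 0, 3, 2, 2], [], 2216),
  ([42, 25, 11], [0, 2, 1, 0], [1, 0, 3, 2, 1, 3, 6, 5, 4, 6, 7], 571),
  ([11, 43], [0, 0, 3, 2, 2], [], 2075),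
  ([31, 25, 18], [0, 2, 1, 0], [1, 0, 3, 2, 1, 3, 6, 5, 4, 6, 7], 896),
  ([18, 32], [0, 0, 3, 2, 2], [], 1554),
  ([6, 42, 35], [0, 2, 1, 0], [1, 0, 3, 2, 1, 3, 6, 5, 4, 6, 7], 2029),
  ([13, 42], [0, 0, 3, 2, 2], [], 666),
  ([16, 30, 29], [0, 2, 1, 0], [1, 0, 3, 2, 1, 3, 6, 5, 4, 6, 7], 1460),
  ([20, 30], [0, 0, 3, 2, 2], [], 990),
  ([6, 23, 34], [0, 2, 1, 0], [1, 0, 3, 2, 1, 3, 6, 5, 4, 6, 7], 1637),
  ([5, 34], [0, 0, 3, 2, 2], [], 274),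
  ([28, 1, 34], [0, 3, 2, 1, 0], [1, 0, 2, 1, 4, 3, 5, 6, 5], 85),
  ([1, 37], [0, 0, 3, 2, 2], [], 1777),
  ([30, 26, 19], [0, 2, 1, 0], [1, 0, 3, 2, 1, 3, 6, 5, 4, 6, 7], 944),
  ([19, 32], [0, 0, 3, 2, 2], [], 1555),
  ([14, 43, 19], [0, 3, 2, 1, 0], [1, 0, 2, 1, 4, 3, 5, 6, 5], 2076),
  ([12, 43], [0, 0, 3, 2, 2], [], 619),
  ([39, 4, 19], [0, 3, 2, 1, 0], [1, 0, 2, 1, 4, 3, 5, 6, 5], 228),
  ([4, 36], [0, 0, 3, 2, 2], [], 1732),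
  ([20, 4, 38], [0, 3, 2, 1, 0], [1, 0, 2, 1, 4, 3, 5, 6, 5], 1826),
  ([2, 38], [0, 0, 3, 2, 2], [], 134),
  ([46, 15, 12], [0, 2, 1, 0], [1, 0, 3, 2, 1, 3, 6, 5, 4, 6, 7], 617),
  ([12, 41], [0, 0, 3, 2, 2], [], 1980),
  ([14, 41, 19], [0, 3, 2, 1, 0], [1, 0, 2, 1, 4, 3, 5, 6, 5], 942),
  ([19, 30], [0, 0, 3, 2, 2], [], 1459),
  ([0, 24, 39], [0, 2, 1, 0], [1, 0, 3, 2, 1, 3, 6, 5, 4, 6, 7], 1873),
  ([1, 39], [0, 0, 3, 2, 2], [], 87),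
  ([16, 24, 27], [0, 2, 1, 0], [1, 0, 3, 2, 1, 3, 6, 5, 4, 6, 7], 1313),
  ([17, 27], [0, 0, 3, 2, 2], [], 843),
  ([40, 17, 8], [0, 3, 2, 1, 0], [1, 0, 2, 1, 4, 3, 5, 6, 5], 431),
  ([8, 47], [0, 0, 3, 2, 2], [], 2264),
  ([16, 22, 29], [0, 2, 1, 0], [1, 0, 3, 2, 1, 3, 6, 5, 4, 6, 7], 1407),
  ([15, 29], [0, 0, 3, 2, 2], [], 749),
  ([40, 15, 10], [0, 3, 2, 1, 0], [1, 0, 2, 1, 4, 3, 5, 6, 5], 525),
  ([10, 45], [0, 0, 3, 2, 2], [], 2170),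
  ([0, 42, 29], [0, 2, 1, 0], [1, 0, 3, 2, 1, 3, 6, 5, 4, 6, 7], 2019),
  ([3, 42], [0, 0, 3, 2, 2], [], 186),
  ([10, 34, 30], [0, 2, 1, 0, 4, 5], [1, 0, 3, 2, 1, 3, 5, 6, 7], 1638),
  ([6, 34], [0, 0, 3, 2, 2], [], 322),
  ([12, 39, 16], [0, 2, 1, 0, 4, 5], [1, 0, 3, 2, 1, 3, 5, 6, 7], 797),
  ([16, 29], [0, 0, 3, 2, 2], [], 1408),
  ([40, 16, 10], [0, 3, 2, 1, 0], [1, 0, 2, 1, 4, 3, 5, 6, 5], 526),
  ([10, 46], [0, 0, 3, 2, 2], [], 2218),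
  ([1, 41, 28], [0, 2, 1, 0], [1, 0, 3, 2, 1, 3, 6, 5, 4, 6, 7], 1359),
  ([15, 28], [0, 0, 3, 2, 2], [], 748),
  ([33, 28, 4], [0, 2, 1, 0, 4, 5], [1, 0, 3, 2, 1, 3, 5, 6, 7], 227),
  ([4, 35], [0, 0, 3, 2, 2], [], 1684),
  ([1, 25, 37], [0, 2, 1, 0], [1, 0, 3, 2, 1, 3, 6, 5, 4, 6, 7], 1778),
  ([2, 37], [0, 0, 3, 2, 2], [], 133),
  ([6, 45, 18], [0, 2, 1, 0], [1, 0, 3, 2, 1, 3, 6, 5, 4, 6, 7], 895),
  ([18, 31], [0, 0, 3, 2, 2], [], 1506),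
  ([12, 20, 46], [0, 2, 1, 0, 4, 5], [1, 0, 3, 2, 1, 3, 5, 6, 7], 991),
  ([20, 31], [0, 0, 3, 2, 2], [], 1508),
  ([37, 20, 6], [0, 2, 1, 0, 4, 5], [1, 0, 3, 2, 1, 3, 5, 6, 7], 323),
  ([6, 35], [0, 0, 3, 2, 2], [], 1686),
  ([3, 47, 35], [0, 3, 2, 1, 0], [1, 0, 2, 1, 4, 3, 5, 6, 5], 2265),
  ([9, 47], [0, 0, 3, 2, 2], [], 479),
  ([14, 35, 17], [0, 2, 1, 0, 4, 5], [1, 0, 3, 2, 1, 3, 5, 6, 7], 844),
  ([17, 28], [0, 0, 3, 2, 2], [], 1361),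
  ([11, 39, 17], [0, 2, 1, 0, 4, 5], [1, 0, 3, 2, 1, 3, 5, 6, 7], 1872),
  ([0, 39], [0, 0, 3, 2, 2], [], 39),
  ([15, 6, 40], [0, 2, 1, 0], [1, 0, 3, 2, 1, 3, 6, 5, 4, 6, 7], 1921),
  ([1, 40], [0, 0, 3, 2, 2], [], 88),
  ([18, 38, 6], [0, 2, 1, 0, 4, 5], [1, 0, 3, 2, 1, 3, 5, 6, 7], 1824),
  ([0, 38], [0, 0, 3, 2, 2], [], 38),
  ([46, 24, 3], [0, 2, 1, 0], [1, 0, 3, 2, 1, 3, 6, 5, 4, 6, 7], 191),
  ([3, 47], [0, 0, 3, 2, 2], [], 2259),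
  ([17, 5, 40], [0, 2, 1, 0], [1, 0, 3, 2, 1, 3, 6, 5, 4, 6, 7], 276),
  ([5, 36], [0, 0, 3, 2, 2], [], 1733),
  ([42, 23, 13], [0, 2, 1, 0], [1, 0, 3, 2, 1, 3, 6, 5, 4, 6, 7], 665),
  ([13, 41], [0, 0, 3, 2, 2], [], 1981),
  ([47, 3, 23], [0, 3, 2, 1, 0, 6, 7], [1, 0, 2, 1, 4, 3, 6, 5, 7], 190),
  ([3, 46], [0, 0, 3, 2, 2], [], 2211),
  ([9, 22, 46], [0, 3, 2, 1, 0, 6, 7], [1, 0, 1, 4, 3, 2, 5, 4, 6], 2169),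
  ([9, 45], [0, 0, 3, 2, 2], [], 477)]

/-- The steps after the generator is known to be an involution. -/
def stepsB : List (List Step) := [stepsB0, stepsB1, stepsB2]

end CfsgLib.Schur.F4Two
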