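import Cfsg.Agent.Lib.Schur.F4Two.Rules
import Cfsg.Agent.Lib.Schur.F4Two.UpperData

/-!
The checker of the certificate: in a group where the commutator rules hold up to central tails, the
overlaps of the rules make every tail a power of one of them, which squares to one.
-/

set_option autoImplicit false
set_option maxRecDepth 100000

namespace CfsgLib.Schur.F4Two

/-- The expected exponent of a tail. -/
def expo (u : ℕ) : ℕ := twist (u / 48) (u % 48)

/-- The contribution of a tail: the exponents of the generator and of the tail being determined,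
and the tails not yet known. -/
def weight (K v u : ℕ) : ℕ × ℕ × List ℕ :=
  if Nat.beq u v then (0, 1, []) else if Nat.testBit K u then (expo u, 0, []) else (0, 0, [u])

/-- One rewriting at a position. -/
def moveAt (K v : ℕ) : ℕ → List ℕ → Option (List ℕ × ℕ × ℕ × List ℕ)
  | 0, a :: b :: w =>
    if Nat.beq a b then
      if Nat.blt a 48 then some (w, weight K v (49 * a)) else none
    else if ok b a then some (b :: a :: tab b a ++ w, weight K v (48 * b + a))
    else none
  | n + 1, a :: w => (moveAt K v n w).map fun r => (a :: r.1, r.2)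
  | _, _ => none

/-- A sequence of rewritings. -/
def runMoves (K v : ℕ) : List ℕ → List ℕ → Option (List ℕ × ℕ × ℕ × List ℕ)
  | [], w => some (w, 0, 0, [])
  | n :: ns, w =>
    match moveAt K v n w with
    | none => none
    | some (w', m, p, r) =>
      match runMoves K v ns w' with
      | none => none
      | some (w'', m', p', r') => some (w'', m + m', p + p', r ++ r')

/-- The two ends of a step. -/
def stepEnds (K : ℕ) (s : Step) : Option (ℕ × ℕ × ℕ × ℕ) :=
  match runMoves K s.2.2.2 s.2.1 s.1, runMoves K s.2.2.2 s.2.2.1 s.1 with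
  | some (w, m, p, r), some (w', m', p', r') =>
    if w == w' && r.isPerm r' then some (m, p, m', p') else none
  | _, _ => none

/-- A step before the generator is known to be an involution. -/
def stepA (K : ℕ) (s : Step) : Option ℕ :=
  match stepEnds K s with
  | some (m, p, m', p') =>
    if Nat.beq m m' && (Nat.beq (p + 1) p' || Nat.beq (p' + 1) p) && Nat.beq (expo s.2.2.2) 0 then
      some (K ||| 1 <<< s.2.2.2) else none
  | none => none

/-- A step afterwards. -/
def stepB (K : ℕ) (s : Step) : Option ℕ :=
  match stepEnds K s with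
  | some (m, p, m', p') =>
    if (Nat.beq (p + 1) p' || Nat.beq (p' + 1) p) && Nat.beq ((m + m' + expo s.2.2.2) % 2) 0 then
      some (K ||| 1 <<< s.2.2.2) else none
  | none => none

/-- A run of steps. -/
def runSteps (f : ℕ → Step → Option ℕ) : List Step → ℕ → Option ℕ
  | [], K => some K
  | s :: l, K =>
    match f K s with
    | none => none
    | some K' => runSteps f l K'

/-- A run of blocks of steps. -/
def runBlocks (f : ℕ → Step → Option ℕ) : List (List Step) → ℕ → Option ℕ
  | [], K => some K
  | s :: l, K =>
    match runSteps f s K with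
    | none => none
    | some K' => runBlocks f l K'

/-- The whole check. -/
def certOK : Bool :=
  match runBlocks stepA stepsA knownStart with
  | none => false
  | some K =>
    (match stepEnds K ordStep with
    | some (m, p, m', p') =>
      Nat.beq p 0 && Nat.beq p' 0 && (Nat.beq (m + 2) m' || Nat.beq (m' + 2) m)
    | none => false) &&
    match runBlocks stepB stepsB K with
    | none => false
    | some K' => (List.range 48).all fun b =>
        Nat.testBit K' (49 * b) && (List.range 48).all fun a => !(ok b a) || Nat.testBit K' (48 * b + a)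

/-- The tails set at the start: one of each root's decomposition, and the generator. -/
def startOK : Bool :=
  (List.range (48 * 48)).all (fun u => !(Nat.testBit knownStart u) ||
      (Nat.beq u eVar && Nat.beq (expo u) 1) ||
      (Nat.beq (expo u) 0 &&
        decList.any fun d => Nat.beq u (48 * d.2.2 + d.2.1) && Nat.blt d.1 48)) &&
    decList.all (fun d =>
      ok d.2.2 d.2.1 && (tab d.2.2 d.2.1 == [d.1])) &&
    (decList.map fun d => d.1) == List.range 48 && Nat.blt knownStart (1 <<< (48 * 48))

theorem certOK_eq : certOK = true := by decide +kernel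

theorem startOK_eq : startOK = true := by decide +kernel

variable {Γ : Type*} [Group Γ]

/-- The rules up to central tails. -/
structure Tailed (X : ℕ → Γ) (τ : ℕ → Γ) : Prop where
  central : ∀ u g, τ u * g = g * τ u
  sq : ∀ a < 48, X a * X a = τ (49 * a)
  swap : ∀ a b, ok b a = true → X a * X b = X b * X a * ev X (tab b a) * τ (48 * b + a)

/-- The known tails are the expected powers. -/
def Known (τ : ℕ → Γ) (z : Γ) (K : ℕ) : Prop := ∀ u, Nat.testBit K u = true → τ u = z ^ expo u

variable {X τ : ℕ → Γ} {z : Γ}

theorem weight_sound {K v u m p : ℕ} {r : List ℕ} (hK : Known τ z K)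
    (h : weight K v u = (m, p, r)) : τ u = z ^ m * τ v ^ p * ev τ r := by
  unfold weight at h
  split at h
  · next hu =>
    simp only [Prod.mk.injEq] at h
    obtain ⟨rfl, rfl, rfl⟩ := h
    rw [Nat.eq_of_beq_eq_true hu]; simp
  · split at h
    · next hu =>
      simp only [Prod.mk.injEq] at h
      obtain ⟨rfl, rfl, rfl⟩ := h
      simp [hK u hu]
    · simp only [Prod.mk.injEq] at h
      obtain ⟨rfl, rfl, rfl⟩ := h
      simp [ev_cons]

theorem moveAt_sound {K v : ℕ} (hT : Tailed X τ) (hK : Known τ z K) :
    ∀ (n : ℕ) (w w' : List ℕ) (m p : ℕ) (r : List ℕ), moveAt K v n w = some (w', m, p, r) →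
      ev X w = ev X w' * (z ^ m * τ v ^ p * ev τ r) := by
  intro n
  induction n with
  | zero =>
    intro w w' m p r h
    match w, h with
    | [], h => simp [moveAt] at h
    | [_], h => simp [moveAt] at h
    | a :: b :: w, h =>
      simp only [moveAt] at h
      split at h
      · next hab =>
        obtain rfl := Nat.eq_of_beq_eq_true hab
        split at h
        · next ha =>
          simp only [Option.some.injEq, Prod.mk.injEq] at h
          obtain ⟨rfl, hwt⟩ := h
          rw [ev_cons, ev_cons, ← mul_assoc, hT.sq a (Nat.le_of_ble_eq_true ha), hT.central,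
            weight_sound hK hwt]
        · simp at h
      · split at h
        · next hok =>
          simp only [Option.some.injEq, Prod.mk.injEq] at h
          obtain ⟨rfl, hwt⟩ := h
          rw [ev_cons, ev_cons, ← mul_assoc, hT.swap a b hok, mul_assoc _ (τ (48 * b + a)),
            hT.central, weight_sound hK hwt]
          simp only [ev_cons, ev_append, List.cons_append, mul_assoc]
        · simp at h
  | succ n ih =>
    intro w w' m p r h
    match w, h with
    | [], h => simp [moveAt] at h
    | a :: w, h =>
      simp only [moveAt, Option.map_eq_some_iff, Prod.mk.injEq] at h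
      obtain ⟨⟨w₁, m₁, p₁, r₁⟩, h1, rfl, h2⟩ := h
      simp only [Prod.mk.injEq] at h2
      obtain ⟨rfl, rfl, rfl⟩ := h2
      show _ = ev X (a :: w₁) * _
      rw [ev_cons, ih w w₁ _ _ _ h1, ev_cons]
      simp only [mul_assoc]

theorem shuffle {a b c : Γ} (ha : ∀ g, a * g = g * a) (hb : ∀ g, b * g = g * b)
    (hc : ∀ g, c * g = g * c) (a' b' c' : Γ) :
    a' * b' * c' * (a * b * c) = a * a' * (b * b') * (c * c') := by
  rw [show a' * b' * c' * (a * b * c) = (a' * b' * c' * a) * (b * c) by group, ← ha]
  simp only [mul_assoc]
  rw [← mul_assoc c' b c, ← hb c', mul_assoc, ← mul_assoc b' b, ← hb b', mul_assoc, ← hc c']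

theorem runMoves_sound {K v : ℕ} (hT : Tailed X τ) (hz : ∀ g, z * g = g * z) (hK : Known τ z K) :
    ∀ (ns w w' : List ℕ) (m p : ℕ) (r : List ℕ), runMoves K v ns w = some (w', m, p, r) →
      ev X w = ev X w' * (z ^ m * τ v ^ p * ev τ r) := by
  intro ns
  induction ns with
  | nil =>
    intro w w' m p r h
    simp only [runMoves, Option.some.injEq, Prod.mk.injEq] at h
    obtain ⟨rfl, rfl, rfl, rfl⟩ := h
    simp
  | cons n ns ih =>
    intro w w' m p r h
    simp only [runMoves] at h
    split at h
    · simp at h
    · next w₁ m₁ p₁ r₁ h1 =>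
      split at h
      · simp at h
      · next w₂ m₂ p₂ r₂ h2 =>
        simp only [Option.some.injEq, Prod.mk.injEq] at h
        obtain ⟨rfl, rfl, rfl, rfl⟩ := h
        rw [moveAt_sound hT hK n w w₁ m₁ p₁ r₁ h1, ih w₁ w₂ m₂ p₂ r₂ h2, pow_add, pow_add,
          ev_append, mul_assoc (ev X w₂)]
        congr 1
        have c1 : ∀ g, z ^ m₁ * g = g * z ^ m₁ := fun g => ((show Commute z g from hz g).pow_left _).eq
        have c2 : ∀ g, τ v ^ p₁ * g = g * τ v ^ p₁ := fun g =>
          ((show Commute (τ v) g from hT.central v g).pow_left _).eq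
        have c3 : ∀ g, ev τ r₁ * g = g * ev τ r₁ := fun g =>
          (commute_ev fun a _ => (hT.central a g).symm).symm.eq
        exact shuffle c1 c2 c3 _ _ _

theorem ev_perm {r r' : List ℕ} (hT : Tailed X τ) (h : r.Perm r') : ev τ r = ev τ r' :=
  List.Perm.prod_eq' (h.map τ) (List.pairwise_map.2 (List.pairwise_of_forall fun a b => hT.central a _))

theorem stepEnds_sound {K : ℕ} {s : Step} (hT : Tailed X τ) (hz : ∀ g, z * g = g * z)
    (hK : Known τ z K) {m p m' p' : ℕ} (h : stepEnds K s = some (m, p, m', p')) :
    z ^ m * τ s.2.2.2 ^ p = z ^ m' * τ s.2.2.2 ^ p' := by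
  unfold stepEnds at h
  split at h
  · next w m₁ p₁ r₁ w' m₂ p₂ r₂ h1 h2 =>
    split at h
    · next hw =>
      simp only [Option.some.injEq, Prod.mk.injEq] at h
      obtain ⟨rfl, rfl, rfl, rfl⟩ := h
      rw [Bool.and_eq_true, beq_iff_eq, List.isPerm_iff] at hw
      obtain ⟨rfl, hr⟩ := hw
      have e := mul_left_cancel ((runMoves_sound hT hz hK _ _ _ _ _ _ h1).symm.trans
        (runMoves_sound hT hz hK _ _ _ _ _ _ h2))
      rw [ev_perm hT hr] at e
      exact mul_right_cancel e
    · simp at h
  · simp at h

theorem testBit_or {K v u : ℕ} (h : Nat.testBit (K ||| 1 <<< v) u = true) :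
    Nat.testBit K u = true ∨ u = v := by
  rw [Nat.testBit_lor, Bool.or_eq_true, Nat.one_shiftLeft, Nat.testBit_two_pow] at h
  exact h.imp id fun h => ((decide_eq_true_iff).1 h).symm

theorem stepA_sound {K K' : ℕ} {s : Step} (hT : Tailed X τ) (hz : ∀ g, z * g = g * z)
    (hK : Known τ z K) (h : stepA K s = some K') : Known τ z K' := by
  unfold stepA at h
  split at h
  · next m p m' p' he =>
    split at h
    · next hc =>
      simp only [Option.some.injEq] at h
      subst h
      simp only [Bool.and_eq_true] at hc
      obtain ⟨⟨hm, hp⟩, hx⟩ := hc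
      rw [Bool.or_eq_true] at hp
      obtain rfl := Nat.eq_of_beq_eq_true hm
      have e := mul_left_cancel (stepEnds_sound hT hz hK he)
      intro u hu
      rcases testBit_or hu with hu | rfl
      · exact hK u hu
      · rw [Nat.eq_of_beq_eq_true hx, pow_zero]
        rcases hp with hp | hp <;> rw [← Nat.eq_of_beq_eq_true hp, pow_succ] at e
        · exact mul_left_cancel (e.symm.trans (mul_one _).symm)
        · exact mul_left_cancel (e.trans (mul_one _).symm)
    · simp at h
  · simp at h

theorem stepB_sound {K K' : ℕ} {s : Step} (hT : Tailed X τ) (hz : ∀ g, z * g = g * z)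
    (hz2 : z * z = 1) (hK : Known τ z K) (h : stepB K s = some K') : Known τ z K' := by
  unfold stepB at h
  split at h
  · next m p m' p' he =>
    split at h
    · next hc =>
      simp only [Option.some.injEq] at h
      subst h
      simp only [Bool.and_eq_true] at hc
      have e := stepEnds_sound hT hz hK he
      have hp := Bool.or_eq_true_iff.1 hc.1
      have hpar := Nat.eq_of_beq_eq_true hc.2
      have h2 : z ^ 2 = 1 := by rw [sq, hz2]
      have hinv : ∀ n : ℕ, z ^ n * z ^ n = 1 := fun n => by
        rw [← pow_add, ← two_mul, pow_mul, h2, one_pow]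
      intro u hu
      rcases testBit_or hu with hu | rfl
      · exact hK u hu
      · have key : z ^ expo s.2.2.2 = z ^ (m + m') := by
          rw [pow_eq_pow_mod (expo s.2.2.2) h2, pow_eq_pow_mod (m + m') h2]
          congr 1
          omega
        rw [key, pow_add]
        have c2 : ∀ n : ℕ, ∀ g, τ s.2.2.2 ^ n * g = g * τ s.2.2.2 ^ n := fun n g =>
          ((show Commute (τ s.2.2.2) g from hT.central _ g).pow_left _).eq
        rcases hp with hp | hp <;> rw [← Nat.eq_of_beq_eq_true hp, pow_succ, ← mul_assoc] at e
        · have e1 : z ^ m = z ^ m' * τ s.2.2.2 := mul_right_cancel (e.trans (by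
            rw [mul_assoc, c2, ← mul_assoc]))
          rw [e1, mul_assoc, (show Commute (τ s.2.2.2) (z ^ m') from hT.central _ _).eq, ← mul_assoc,
            hinv, one_mul]
        · have e1 : z ^ m' = z ^ m * τ s.2.2.2 := mul_right_cancel (e.symm.trans (by
            rw [mul_assoc, c2, ← mul_assoc]))
          rw [e1, ← mul_assoc, hinv, one_mul]
    · simp at h
  · simp at h

theorem runSteps_sound {P : ℕ → Prop} {f : ℕ → Step → Option ℕ}
    (hf : ∀ K K' s, P K → f K s = some K' → P K') :
    ∀ (l : List Step) (K K' : ℕ), P K → runSteps f l K = some K' → P K' := by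
  intro l
  induction l with
  | nil => intro K K' hK h; rw [runSteps, Option.some.injEq] at h; exact h ▸ hK
  | cons s l ih =>
    intro K K' hK h
    simp only [runSteps] at h
    split at h
    · simp at h
    · next K₁ h1 => exact ih K₁ K' (hf K K₁ s hK h1) h

theorem runBlocks_sound {P : ℕ → Prop} {f : ℕ → Step → Option ℕ}
    (hf : ∀ K K' s, P K → f K s = some K' → P K') :
    ∀ (l : List (List Step)) (K K' : ℕ), P K → runBlocks f l K = some K' → P K' := by
  intro l
  induction l with
  | nil => intro K K' hK h; rw [runBlocks, Option.some.injEq] at h; exact h ▸ hK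
  | cons s l ih =>
    intro K K' hK h
    simp only [runBlocks] at h
    split at h
    · simp at h
    · next K₁ h1 => exact ih K₁ K' (runSteps_sound hf s K K₁ hK h1) h

/-- In a group with the rules up to central tails, normalised on the decompositions, every tail is
the expected power of one tail, an involution or trivial. -/
theorem tails_eq (hT : Tailed X τ) (h0 : ∀ d ∈ decList, τ (48 * d.2.2 + d.2.1) = 1) :
    τ eVar * τ eVar = 1 ∧ Sat (List.range 48) X (τ eVar) := by
  set z := τ eVar with hzdef
  have hz : ∀ g, z * g = g * z := hT.central eVar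
  have hK0 : Known τ z knownStart := by
    intro u hu
    have h := startOK_eq
    simp only [startOK, Bool.and_eq_true, List.all_eq_true, List.mem_range, Bool.or_eq_true,
      List.any_eq_true, Bool.not_eq_eq_eq_not, Bool.not_true] at h
    have hu' : u < 48 * 48 := by
      by_contra hge
      have := Nat.testBit_lt_two_pow (lt_of_lt_of_le (Nat.one_shiftLeft _ ▸ Nat.le_of_ble_eq_true h.2)
        (Nat.pow_le_pow_right two_pos (not_lt.1 hge)))
      rw [this] at hu
      exact Bool.false_ne_true hu
    rcases h.1.1.1 u hu' with (h1 | ⟨h1, h2⟩) | ⟨h1, d, hd, h2, -⟩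
    · rw [h1] at hu; exact absurd hu Bool.false_ne_true
    · rw [Nat.eq_of_beq_eq_true h2, pow_one, hzdef, Nat.eq_of_beq_eq_true h1]
    · rw [Nat.eq_of_beq_eq_true h1, pow_zero, Nat.eq_of_beq_eq_true h2]
      exact h0 d hd
  have h := certOK_eq
  unfold certOK at h
  split at h
  · exact absurd h Bool.false_ne_true
  · next K hA =>
    have hK := runBlocks_sound (P := Known τ z) (fun K K' s => stepA_sound hT hz) _ _ _ hK0 hA
    rw [Bool.and_eq_true] at h
    obtain ⟨hord, hB⟩ := h
    have hz2 : z * z = 1 := by
      split at hord
      · next m p m' p' he =>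
        simp only [Bool.and_eq_true, Bool.or_eq_true] at hord
        obtain ⟨⟨hp, hp'⟩, hm⟩ := hord
        have e := stepEnds_sound hT hz hK he
        rw [Nat.eq_of_beq_eq_true hp, Nat.eq_of_beq_eq_true hp', pow_zero, mul_one, mul_one] at e
        rcases hm with hm | hm <;> rw [← Nat.eq_of_beq_eq_true hm, pow_add, sq] at e
        · exact mul_left_cancel (e.symm.trans (mul_one _).symm)
        · exact mul_left_cancel (e.trans (mul_one _).symm)
      · exact absurd hord Bool.false_ne_true
    split at hB
    · exact absurd hB Bool.false_ne_true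
    · next K' hB' =>
      have hK' := runBlocks_sound (P := Known τ z) (fun K K' s => stepB_sound hT hz hz2) _ _ _ hK hB'
      simp only [List.all_eq_true, Bool.and_eq_true, List.mem_range, Bool.or_eq_true,
        Bool.not_eq_eq_eq_not, Bool.not_true] at hB
      have h49 : ∀ a, a < 48 → expo (49 * a) = 0 := by decide +kernel
      refine ⟨hz2, hz2, fun a _ => hz _, fun a ha => ?_, fun a ha b hb hok => ?_⟩
      · rw [List.mem_range] at ha
        rw [hT.sq a ha, hK' _ (hB a ha).1, h49 a ha, pow_zero]
      · rw [List.mem_range] at ha hb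
        rw [hT.swap a b hok, hK' _ (((hB b hb).2 a ha).resolve_left (by simp [hok])), expo,
          show (48 * b + a) / 48 = b by omega, show (48 * b + a) % 48 = a by omega]

end CfsgLib.Schur.F4Two
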